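import Cfsg.Agent.CONW.YK
import Cfsg.Agent.H3.PResidual
import Mathlib.GroupTheory.Perm.Cycle.Type
import Cfsg.Agent.H8.BaerSuzuki

set_option autoImplicit false
set_option maxRecDepth 100000

namespace Cfsg.Agent.CONW.Y

open Subgroup

namespace YA

variable {G : Type*} [Group G] {el : ℕ → G} {θ : PC →* G}

/-- Extremal Thompson transfer. -/
theorem ext_transfer [Finite G] {S S₀ Q : Subgroup G} {z : G} (hz : z * z = 1) (hO : z ∈ pResidual 2 G)
    (hS : ¬ 2 ∣ S.index) (h0 : S₀ ≤ S) (h2 : S₀.relIndex S = 2) (hQ : IsPGroup 2 Q)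
    (hc : ∀ q ∈ Q, q * z = z * q) : ∃ g : G, g⁻¹ * z * g ∈ S₀ ∧ ∀ q ∈ Q, g⁻¹ * q * g ∈ S := by
  classical
  haveI : Fintype (G ⧸ S₀) := Fintype.ofFinite _
  by_contra hne
  push Not at hne
  have h1 := H3.pResidual_le_ker (Equiv.Perm.sign.comp (MulAction.toPermHom G (G ⧸ S₀)))
    (IsPGroup.of_card (n := 1) (by rw [Nat.card_eq_fintype_card, Fintype.card_units_int, pow_one])) hO
  have h3 : (MulAction.toPermHom G (G ⧸ S₀) z) ^ 2 = 1 := by rw [← map_pow, pow_two, hz, map_one]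
  rw [MonoidHom.mem_ker, MonoidHom.comp_apply, Equiv.Perm.sign_of_pow_two_eq_one h3,
    neg_one_pow_eq_one_iff_even (by decide)] at h1
  have hst : ∀ (M : Subgroup G) (g a : G), a • (g : G ⧸ M) = g ↔ g⁻¹ * a * g ∈ M := fun M g a => by
    rw [MulAction.Quotient.smul_mk, eq_comm, QuotientGroup.eq, smul_eq_mul, mul_assoc]
  have hn : S ≤ normalizer (S₀ : Set G) := by
    haveI : (S₀.subgroupOf S).Normal := normal_of_index_eq_two h2
    exact (normal_subgroupOf_iff_le_normalizer h0).1 this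
  let Y : SubMulAction Q (G ⧸ S) :=
    { carrier := {x | ∃ g : G, (g : G ⧸ S) = x ∧ g⁻¹ * z * g ∈ S₀}
      smul_mem' := by
        rintro q _ ⟨g, rfl, hg⟩
        refine ⟨q * g, rfl, ?_⟩
        have : ((q : G) * g)⁻¹ * z * (q * g) = g⁻¹ * z * g := by
          calc ((q : G) * g)⁻¹ * z * (q * g) = g⁻¹ * ((q : G)⁻¹ * (z * q)) * g := by group
            _ = g⁻¹ * z * g := by rw [← hc q q.2]; group
        rwa [this] }
  have h4 : 2 ∣ Nat.card Y := by
    have e := hQ.card_modEq_card_fixedPoints Y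
    have e0 : Nat.card (MulAction.fixedPoints Q Y) = 0 := by
      rw [Nat.card_eq_zero]
      left
      constructor
      rintro ⟨⟨_, g, rfl, hg⟩, hf⟩
      obtain ⟨q, hq, c⟩ := hne g hg
      exact c ((hst S g q).1 (congrArg Subtype.val (hf ⟨q, hq⟩)))
    rw [e0] at e
    exact (Nat.modEq_zero_iff_dvd).1 e
  let X : Set (G ⧸ S₀) := Function.fixedPoints (MulAction.toPermHom G (G ⧸ S₀) z)
  have h5 : (QuotientGroup.mk ⁻¹' X : Set G) = QuotientGroup.mk ⁻¹' (Y : Set (G ⧸ S)) := by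
    ext g
    constructor
    · exact fun hg => ⟨g, rfl, (hst S₀ g z).1 hg⟩
    · rintro ⟨k, hk, hk'⟩
      refine (hst S₀ g z).2 ?_
      have := (mem_normalizer_iff''.1 (hn (QuotientGroup.eq.1 hk)) _).1 hk'
      convert this using 1
      group
  have h6 := QuotientGroup.card_preimage_mk S₀ X
  rw [h5, QuotientGroup.card_preimage_mk] at h6
  have h7 : Nat.card S = Nat.card S₀ * 2 := by
    rw [← h2, relIndex, ← (S₀.subgroupOf S).card_mul_index,
      Nat.card_congr (subgroupOfEquivOfLe h0).toEquiv]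
  have h8 : Nat.card X = 2 * Nat.card Y := by
    rw [h7, mul_assoc] at h6
    exact (Nat.eq_of_mul_eq_mul_left Nat.card_pos h6).symm
  have h9 : Fintype.card X ≤ Fintype.card (G ⧸ S₀) := Fintype.card_subtype_le _
  have h10 := relIndex_mul_index h0
  rw [h2, index, index, Nat.card_eq_fintype_card (α := G ⧸ S₀)] at h10
  rw [index] at hS
  rw [Nat.card_eq_fintype_card] at h8
  rw [Nat.even_iff] at h1
  change (Fintype.card (G ⧸ S₀) - Fintype.card X) / 2 % 2 = 0 at h1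
  omega

theorem okw_flat {l w : List ℕ} {σ : ℕ → List ℕ} (h : ∀ n ∈ w, okw l (σ n) = true) :
    okw l (w.flatMap σ) = true := by
  induction w with
  | nil => rfl
  | cons n w ih =>
    rw [List.flatMap_cons]
    exact okw_app (h n List.mem_cons_self) (ih fun m hm => h m (List.mem_cons_of_mem _ hm))

theorem ev2 (el : ℕ → G) (a b : ℕ) : ev el [a, b] = el a * el b := by simp

theorem comm_x (h : CY el θ) {n : ℕ} (hn : n ∈ lC) : el n * el 1 = el 1 * el n :=
  (h.range _).1 ⟨_, h.map n hn⟩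

theorem LK_z : ∀ w ∈ LK, MC.pw (w ++ [6]) = MC.pw ([6] ++ w) := by decide +kernel

theorem comm_z (h : CY el θ) {w : List ℕ} (hw : w ∈ LK) : ev el w * el 6 = el 6 * ev el w := by
  have := (h.gr.iff (okw_app (ok_LK w hw) (by decide)) (okw_app (by decide) (ok_LK w hw))).2 (LK_z w hw)
  rwa [ev_append, ev_append, ev_one] at this

theorem LT_cen : ∀ w ∈ LT, MC.pw (w ++ [3]) = MC.pw ([3] ++ w) → MC.pw (w ++ [2]) = MC.pw ([2] ++ w) →
    MC.pw (w ++ [4]) = MC.pw ([4] ++ w) → w = [] ∨ w = [1] ∨ w = [6] ∨ w = [1, 6] := by decide +kernel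

/-- the centre of the Sylow subgroup -/
theorem cenT (h : CY el θ) {y : G} (hy : y ∈ gen el lT) (hc : ∀ a ∈ gen el lT, y * a = a * y) :
    y = 1 ∨ y = el 1 ∨ y = el 6 ∨ y = el 1 * el 6 := by
  obtain ⟨w, hw, rfl⟩ := h.mem_T hy
  have c : ∀ n ∈ [3, 2, 4], MC.pw (w ++ [n]) = MC.pw ([n] ++ w) := fun n hn =>
    h.gr.comm (ok_LT w hw) ((by decide : ∀ n ∈ [3, 2, 4], okw lC [n] = true) n hn)
      (hc _ (el_mem_gen el ((by decide : ∀ n ∈ [3, 2, 4], n ∈ lT) n hn)))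
  rcases LT_cen w hw (c 3 (by decide)) (c 2 (by decide)) (c 4 (by decide)) with e | e | e | e <;> simp [e]

theorem x_ne (h : CY el θ) : el 1 ≠ 1 := fun e => h.gr.ne [1] [] (by decide +kernel) (by simp [e])

theorem z_ne (h : CY el θ) : el 6 ≠ 1 := fun e => h.gr.ne [6] [] (by decide +kernel) (by simp [e])

theorem T_comm (h : CY el θ) : ∀ a ∈ gen el lT, a * el 1 = el 1 * a := fun _ ha =>
  mem_centralizer_singleton_iff.1 (gen_le (X := centralizer {el 1}) (fun n hn =>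
    mem_centralizer_singleton_iff.2 (comm_x h ((by decide : ∀ n ∈ lT, n ∈ lC) n hn))) ha)

theorem T_comm_z (h : CY el θ) : ∀ a ∈ gen el lT, a * el 6 = el 6 * a := fun _ ha => by
  obtain ⟨w, hw, rfl⟩ := h.mem_T ha
  exact comm_z h (List.mem_append_left _ (List.mem_append_left _ hw))

theorem conj_cen {S : Subgroup G} {g y : G} (hg : g ∈ normalizer (S : Set G)) (hy : ∀ a ∈ S, a * y = y * a) :
    ∀ a ∈ S, g * y * g⁻¹ * a = a * (g * y * g⁻¹) := fun a ha => by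
  have := hy _ ((mem_normalizer_iff''.1 hg a).1 ha)
  calc g * y * g⁻¹ * a = g * (y * (g⁻¹ * a * g)) * g⁻¹ := by group
    _ = a * (g * y * g⁻¹) := by rw [← this]; group

theorem zm1 : ¬ Multiplicative.ofAdd (1 : ZMod 2) = 1 := by decide

theorem zm2 : ∀ a : Multiplicative (ZMod 2), a * Multiplicative.ofAdd 1 = 1 ∨ a = 1 := by decide

/-- `g` moves `x` to `x z` and fixes `z` -/
def T (el : ℕ → G) (g : G) : Prop := g * el 1 * g⁻¹ = el 1 * el 6 ∧ g * el 6 * g⁻¹ = el 6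

theorem step1 [Finite G] (h : CY el θ) (hO : el 1 ∈ pResidual 2 G) : ∃ g, T el g := by
  have : Fact (Nat.Prime 2) := ⟨Nat.prime_two⟩
  have hS : IsPGroup 2 (gen el lT) := IsPGroup.of_card (n := 7) h.card_T
  have hx : el 1 ∈ gen el lT := el_mem_gen el (by decide)
  have hz : el 6 ∈ gen el lT := el_mem_gen el (by decide)
  obtain ⟨P, hP⟩ := hS.exists_le_sylow
  rcases hP.eq_or_lt with e | e
  · exfalso
    let K : Subgroup G := (MonoidHom.fst (Multiplicative (ZMod 2)) Spor.M12).ker.map θ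
    have hK : ∀ k, θ k ∈ K ↔ k.1 = 1 := fun k => mem_map_iff_mem h.inj
    have h1 : θ (pC 1) = el 1 := h.map 1 (by decide)
    have h6 : θ (pC 6) = el 6 := h.map 6 (by decide)
    have nx : el 1 ∉ K := fun c => zm1 ((hK _).1 (h1 ▸ c))
    have zK : el 6 ∈ K := h6 ▸ (hK _).2 rfl
    obtain ⟨g, hg, hle⟩ := ext_transfer (S := gen el lT) (S₀ := gen el lT ⊓ K) (Q := gen el lT)
      (rule_sq h.rule (n := 1) (by decide)) hO (e ▸ P.not_dvd_index) inf_le_left
      (relIndex_eq_two_iff_exists_notMem_and.2 ⟨el 1, hx, fun c => nx c.2, fun b hb => by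
        obtain ⟨k, rfl⟩ := (h.range b).2 (T_comm h b hb)
        rcases zm2 k.1 with c | c
        · exact Or.inl ⟨mul_mem hb hx, by rw [← h1, ← map_mul]; exact (hK _).2 c⟩
        · exact Or.inr ⟨hb, (hK _).2 c⟩⟩) hS (T_comm h)
    have hn : g⁻¹ ∈ normalizer (gen el lT : Set G) :=
      mem_normalizer_fintype fun q hq => by rw [inv_inv]; exact hle q hq
    have hc := conj_cen hn (T_comm h)
    rw [inv_inv] at hc
    rcases cenT h hg.1 hc with c | c | c | c
    · exact x_ne h (by rw [← conj_eq_one_iff (a := g⁻¹), inv_inv, c])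
    · exact nx (c ▸ hg.2)
    · exact h.not_conj (isConj_iff.2 ⟨g⁻¹, by rw [inv_inv, c]⟩)
    · exact nx ((K.mul_mem_cancel_right zK).1 (c ▸ hg.2))
  · obtain ⟨g, hgP, hgS, hn⟩ := H8.exists_mem_normalizer_of_lt P.isPGroup' e
    have e1 : g * el 1 * g⁻¹ = el 1 * el 6 := by
      rcases cenT h ((mem_normalizer_iff.1 hn _).1 hx) (conj_cen hn (T_comm h)) with c | c | c | c
      · exact absurd (conj_eq_one_iff.1 c) (x_ne h)
      · refine absurd ?_ hgS
        rw [← h.syl (Q := (P : Subgroup G) ⊓ centralizer {el 1}) (P.isPGroup'.to_inf_left)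
          (le_inf hP fun a ha => mem_centralizer_singleton_iff.2 (T_comm h a ha))
          fun a ha => mem_centralizer_singleton_iff.1 ha.2]
        exact ⟨hgP, mem_centralizer_singleton_iff.2 (mul_inv_eq_iff_eq_mul.1 c)⟩
      · exact absurd (isConj_iff.2 ⟨g, c⟩) h.not_conj
      · exact c
    refine ⟨g, e1, ?_⟩
    rcases cenT h ((mem_normalizer_iff.1 hn _).1 hz) (conj_cen hn (T_comm_z h)) with c | c | c | c
    · exact absurd (conj_eq_one_iff.1 c) (z_ne h)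
    · exact absurd (isConj_iff.2 ⟨g, c⟩).symm h.not_conj
    · exact c
    · rw [← e1, mul_left_inj, mul_right_inj] at c
      exact absurd (c ▸ IsConj.refl _) h.not_conj

theorem T.mul (h : CY el θ) {g : G} (hg : T el g) {w : List ℕ} (hw : w ∈ LK) : T el (ev el w * g) := by
  have a := h.comm (ok_LK w hw)
  have b := comm_z h hw
  constructor
  · calc _ = ev el w * (g * el 1 * g⁻¹) * (ev el w)⁻¹ := by group
      _ = _ := by rw [hg.1, ← mul_assoc, a, mul_assoc (el 1), b]; group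
  · calc _ = ev el w * (g * el 6 * g⁻¹) * (ev el w)⁻¹ := by group
      _ = _ := by rw [hg.2, b]; group

theorem T.conj (h : CY el θ) {g : G} (hg : T el g) {w : List ℕ} (hw : w ∈ LK) :
    ∃ v ∈ LK, g * ev el w * g⁻¹ = ev el v := by
  have a := h.comm (ok_LK w hw)
  have b := comm_z h hw
  have c : ∀ y, ev el w * y = y * ev el w →
      g * ev el w * g⁻¹ * (g * y * g⁻¹) = g * y * g⁻¹ * (g * ev el w * g⁻¹) := fun y hy => by
    calc _ = g * (ev el w * y) * g⁻¹ := by group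
      _ = _ := by rw [hy]; group
  have c1 := c _ a
  have c2 := c _ b
  rw [hg.1] at c1
  rw [hg.2] at c2
  refine h.cenz (mul_right_cancel (b := el 6) ?_) c2
  rw [mul_assoc _ (el 1), c1, mul_assoc (el 1), mul_assoc (el 1), c2]

/-- a relator gives a relator for the images -/
theorem rel_img (h : CY el θ) {g : G} (σ : ℕ → List ℕ) (R : List ℕ)
    (hR : (okw lC R && okw lC [] && Nat.beq (MC.pw R) (MC.pw [])) = true)
    (hσ : ∀ n ∈ R, okw lC (σ n) = true ∧ g * el n * g⁻¹ = ev el (σ n)) :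
    MC.pw (R.flatMap σ) = MC.pw [] := by
  refine (h.gr.iff (okw_flat fun n hn => (hσ n hn).1) rfl).1 ?_
  rw [← conj_ev σ R fun n hn => (hσ n hn).2, h.gr.eq R [] hR]
  simp

def L32 : List (List ℕ) := [[], [7], [8], [4], [2], [3], [8, 7], [4, 7], [4, 8], [2, 7], [2, 8], [2, 4], [3, 7],
  [3, 8], [3, 4], [3, 2], [7, 10], [8, 10], [7, 11], [8, 11], [4, 8, 7], [2, 8, 7], [2, 4, 7], [3, 4, 8],
  [3, 2, 7], [3, 2, 8], [3, 2, 4], [4, 8, 10], [8, 7, 11], [2, 7, 11], [3, 8, 11], [3, 2, 4, 8]]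

theorem L32_sub : ∀ k ∈ L32, k ∈ LK := by decide +kernel

theorem chk2 : ∀ w ∈ LK, MC.pw ([10, 10, 10].flatMap fun _ => w) = MC.pw [] → w = [] ∨
    ∃ k ∈ L32, MC.pw (k ++ w) = MC.pw ([10] ++ k) := by decide +kernel

theorem conj_word (h : CY el θ) {g a : G} {k w c : List ℕ} (hk : k ∈ LK) (hw : w ∈ LK)
    (hc : okw lC c = true) (e : g * a * g⁻¹ = ev el w) (e2 : MC.pw (k ++ w) = MC.pw (c ++ k)) :
    ev el k * g * a * (ev el k * g)⁻¹ = ev el c := by
  have := (h.gr.iff (okw_app (ok_LK k hk) (ok_LK w hw)) (okw_app hc (ok_LK k hk))).2 e2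
  rw [ev_append, ev_append, ← e] at this
  calc _ = ev el k * (g * a * g⁻¹) * (ev el k)⁻¹ := by group
    _ = _ := by rw [this]; group

theorem step2 (h : CY el θ) {g : G} (hg : T el g) : ∃ g, T el g ∧ g * el 10 * g⁻¹ = el 10 := by
  obtain ⟨w, hw, e⟩ := hg.conj h (w := [10]) (by decide +kernel)
  rw [ev_one] at e
  rcases chk2 w hw (rel_img h (fun _ => w) [10, 10, 10] (by decide +kernel) fun n hn => by
    rw [show n = 10 by simpa using hn]; exact ⟨ok_LK w hw, e⟩) with c | ⟨k, hk, c⟩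
  · rw [c, ev_nil, conj_eq_one_iff] at e
    exact absurd (by simp [e]) (h.gr.ne [10] [] (by decide +kernel))
  · exact ⟨_, hg.mul h (L32_sub k hk), (conj_word h (L32_sub k hk) hw (by decide) e c).trans (ev_one _ _)⟩

def C4 : List (List ℕ) := [[4], [4, 6], [1, 4], [1, 4, 6]]

theorem ok_C4 : ∀ c ∈ C4, okw lC c = true := by decide

/-- the images of the letters -/
def sg (c w : List ℕ) (n : ℕ) : List ℕ :=
  if n = 1 then [1, 6] else if n = 2 then w else if n = 4 then c else [n]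

theorem chk3 : ∀ w ∈ LK, MC.pw ([4, 4].flatMap (sg w [])) = MC.pw [] →
    MC.pw ([4, 10, 4, 10].flatMap (sg w [])) = MC.pw [] →
    ∃ k ∈ [[], [10], [11]], ∃ c ∈ C4, MC.pw (k ++ w) = MC.pw (c ++ k) := by decide +kernel

theorem step3 (h : CY el θ) {g : G} (hg : T el g) (hs : g * el 10 * g⁻¹ = el 10) :
    ∃ g, T el g ∧ g * el 10 * g⁻¹ = el 10 ∧ ∃ c ∈ C4, g * el 4 * g⁻¹ = ev el c := by
  obtain ⟨w, hw, e⟩ := hg.conj h (w := [4]) (by decide +kernel)
  rw [ev_one] at e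
  have hσ : ∀ n ∈ [4, 10], okw lC (sg w [] n) = true ∧ g * el n * g⁻¹ = ev el (sg w [] n) := by
    intro n hn
    rcases (by simpa using hn : n = 4 ∨ n = 10) with rfl | rfl
    · exact ⟨ok_LK w hw, e⟩
    · exact ⟨rfl, hs.trans (ev_one _ _).symm⟩
  obtain ⟨k, hk, c, hc, e2⟩ := chk3 w hw
    (rel_img h _ _ (by decide +kernel) fun n hn => hσ n (by simp at hn; simp [hn]))
    (rel_img h _ _ (by decide +kernel) fun n hn => hσ n (by simp at hn ⊢; tauto))
  obtain ⟨hk1, hk2⟩ := (by decide +kernel : ∀ k ∈ [[], [10], [11]], k ∈ LK ∧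
    MC.pw (k ++ [10]) = MC.pw ([10] ++ k)) k hk
  exact ⟨_, hg.mul h hk1, (conj_word h hk1 (by decide +kernel) (by decide) (hs.trans (ev_one _ _).symm)
    hk2).trans (ev_one _ _), c, hc, conj_word h hk1 hw (ok_C4 c hc) e e2⟩

theorem chk4 : ∀ c ∈ C4, ∀ w ∈ LK, MC.pw ([2, 2].flatMap (sg c w)) = MC.pw [] →
    MC.pw ([11, 10, 2, 11, 2, 10, 10, 2, 11].flatMap (sg c w)) = MC.pw [] →
    MC.pw ([6, 4, 10, 2, 11, 4, 10, 2, 11, 4, 10, 2, 11, 4, 10, 2, 11].flatMap (sg c w)) = MC.pw [] →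
    MC.pw ([4, 10, 2, 11, 4, 10, 2, 11, 2, 4, 10, 2, 11, 4, 10, 2, 11, 2].flatMap (sg c w)) = MC.pw [] →
    w = [2] ∨ w = [2, 6, 7] := by decide +kernel

theorem step4 (h : CY el θ) {g : G} (hg : T el g) (hs : g * el 10 * g⁻¹ = el 10) {c : List ℕ} (hc : c ∈ C4)
    (hn : g * el 4 * g⁻¹ = ev el c) :
    g * el 2 * g⁻¹ = el 2 ∨ g * el 2 * g⁻¹ = el 2 * el 6 * el 7 := by
  obtain ⟨w, hw, e⟩ := hg.conj h (w := [2]) (by decide +kernel)
  rw [ev_one] at e
  have hσ : ∀ n ∈ [2, 4, 6, 10, 11], okw lC (sg c w n) = true ∧ g * el n * g⁻¹ = ev el (sg c w n) := by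
    intro n hn'
    rcases (by simpa using hn' : n = 2 ∨ n = 4 ∨ n = 6 ∨ n = 10 ∨ n = 11) with rfl | rfl | rfl | rfl | rfl
    · exact ⟨ok_LK w hw, e⟩
    · exact ⟨ok_C4 c hc, hn⟩
    · exact ⟨rfl, hg.2.trans (ev_one _ _).symm⟩
    · exact ⟨rfl, hs.trans (ev_one _ _).symm⟩
    · refine ⟨rfl, Eq.trans ?_ (ev_one _ _).symm⟩
      rw [(rule_inv h.rule).1, ← conj_inv, hs]
  have k : ∀ R : List ℕ, (R.all (fun n => [2, 4, 6, 10, 11].contains n) &&
      (okw lC R && okw lC [] && Nat.beq (MC.pw R) (MC.pw []))) = true →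
      MC.pw (R.flatMap (sg c w)) = MC.pw [] := fun R hR => by
    rw [Bool.and_eq_true, List.all_eq_true] at hR
    exact rel_img h _ _ hR.2 fun n hn => hσ n (List.contains_iff_mem.1 (hR.1 n hn))
  rcases chk4 c hc w hw (k _ (by decide +kernel)) (k _ (by decide +kernel)) (k _ (by decide +kernel))
    (k _ (by decide +kernel)) with e1 | e1
  · exact Or.inl (by rw [e, e1, ev_one])
  · exact Or.inr (by rw [e, e1]; simp [mul_assoc])

theorem chk5 : ∀ c ∈ C4, ∀ w ∈ LK, MC.pw (w ++ [10]) = MC.pw ([10] ++ w) →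
    MC.pw (w ++ [4]) = MC.pw (c.flatMap (sg c []) ++ w) →
    (c = [4] ∨ c = [4, 6]) ∧ (w = [] ∨ w = [1] ∨ w = [6] ∨ w = [1, 6]) := by decide +kernel

theorem step5 (h : CY el θ) {g : G} (hg : T el g) (hs : g * el 10 * g⁻¹ = el 10) {c : List ℕ} (hc : c ∈ C4)
    (hn : g * el 4 * g⁻¹ = ev el c) : (c = [4] ∨ c = [4, 6]) ∧ (g * g = 1 ∨ g * g = el 6) := by
  have sq : ∀ a : G, g * g * a * (g * g)⁻¹ = g * (g * a * g⁻¹) * g⁻¹ := fun a => by group
  have hz := rule_sq h.rule (n := 6) (by decide)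
  obtain ⟨w, hw, e⟩ := h.cenz (g := g * g)
    (mul_inv_eq_iff_eq_mul.1 (by
      rw [sq, hg.1, show g * (el 1 * el 6) * g⁻¹ = g * el 1 * g⁻¹ * (g * el 6 * g⁻¹) by group, hg.1, hg.2,
        mul_assoc, hz, mul_one]))
    (mul_inv_eq_iff_eq_mul.1 (by rw [sq, hg.2, hg.2]))
  have hσ : ∀ n ∈ c, okw lC (sg c [] n) = true ∧ g * el n * g⁻¹ = ev el (sg c [] n) := by
    intro n hn'
    rcases (by decide : ∀ c ∈ C4, ∀ n ∈ c, n = 1 ∨ n = 4 ∨ n = 6) c hc n hn' with rfl | rfl | rfl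
    · exact ⟨rfl, hg.1.trans (ev2 _ _ _).symm⟩
    · exact ⟨ok_C4 c hc, hn⟩
    · exact ⟨rfl, hg.2.trans (ev_one _ _).symm⟩
  obtain ⟨c1, c2⟩ := chk5 c hc w hw
    (h.gr.comm (ok_LK w hw) (by decide) (e ▸ mul_inv_eq_iff_eq_mul.1 (by rw [sq, hs, hs])))
    ((h.gr.iff (okw_app (ok_LK w hw) (by decide))
      (okw_app (okw_flat fun n hn => (hσ n hn).1) (ok_LK w hw))).1 (by
        rw [ev_append, ev_append, ev_one, ← e, ← conj_ev _ c fun n hn => (hσ n hn).2, ← hn, ← sq]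
        group))
  refine ⟨c1, ?_⟩
  rcases c2 with rfl | rfl | rfl | rfl
  · exact Or.inl e
  · exact absurd (e.trans (ev_one _ _)) (h.nsq (IsConj.refl _) g)
  · exact Or.inr (e.trans (ev_one _ _))
  · exact absurd (e.trans (ev2 _ _ _)) (h.nsq (isConj_iff.2 ⟨g, hg.1⟩) g)

end YA

open YA in
theorem CY.exists_u {G : Type*} [Group G] [Finite G] {el : ℕ → G} {θ : PC →* G} (h : CY el θ)
    (hO : el 1 ∈ pResidual 2 G) : ∃ u : G, u * u = 1 ∧ u * el 1 * u = el 1 * el 6 ∧ u * el 6 * u = el 6 ∧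
      u * el 10 * u = el 10 ∧ (u * el 4 * u = el 4 ∨ u * el 4 * u = el 4 * el 6) ∧
      (u * el 2 * u = el 2 ∨ u * el 2 * u = el 2 * el 6 * el 7) := by
  obtain ⟨g0, h0⟩ := step1 h hO
  obtain ⟨g1, h1, hs1⟩ := step2 h h0
  obtain ⟨g, hg, hs, c, hc, hn⟩ := step3 h h1 hs1
  have hw := step4 h hg hs hc hn
  obtain ⟨c1, c2⟩ := step5 h hg hs hc hn
  have hn' : g * el 4 * g⁻¹ = el 4 ∨ g * el 4 * g⁻¹ = el 4 * el 6 := by
    rcases c1 with rfl | rfl
    · exact Or.inl (hn.trans (ev_one _ _))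
    · exact Or.inr (hn.trans (ev2 _ _ _))
  have key : ∃ u : G, u * u = 1 ∧ ∀ n ∈ lC, u * el n * u = g * el n * g⁻¹ := by
    rcases c2 with e | e
    · exact ⟨g, e, fun n _ => by rw [← eq_inv_of_mul_eq_one_left e]⟩
    · have hx := rule_sq h.rule (n := 1) (by decide)
      have e2 : g * el 1 * (g * el 1) = 1 := by
        calc _ = g * el 1 * g⁻¹ * (g * g) * el 1 := by group
          _ = 1 := by rw [hg.1, e, mul_assoc (el 1), rule_sq h.rule (n := 6) (by decide), mul_one, hx]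
      refine ⟨g * el 1, e2, fun n hn => ?_⟩
      nth_rewrite 2 [eq_inv_of_mul_eq_one_left e2]
      rw [mul_assoc g, ← comm_x h hn]
      group
  obtain ⟨u, hu, k⟩ := key
  refine ⟨u, hu, ?_⟩
  rw [k 1 (by decide), k 6 (by decide), k 10 (by decide), k 4 (by decide), k 2 (by decide)]
  exact ⟨hg.1, hg.2, hs, hn', hw⟩

end Cfsg.Agent.CONW.Y
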