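import Cfsg.Agent.H42.SylIn
import Cfsg.Agent.H42.Isolated

set_option autoImplicit false

namespace Cfsg.Agent.CONW.Y

open Subgroup H42

theorem ab_nz {X : Type*} [Group X] [Finite X] {g z : X} (h : g * z * g⁻¹ ∈ zpowers z) :
    g ∈ normalizer (zpowers z : Set X) :=
  mem_normalizer_of_conj_mem (by
    rintro _ ⟨n, rfl⟩
    change g * z ^ n * g⁻¹ ∈ _
    rw [← conj_zpow]
    exact zpow_mem h n)

theorem normal_of_ab {X : Type*} [Group X] [Finite X] (A : Subgroup X) (hA : ∀ a ∈ A, a * a = 1)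
    (hc : Nat.card A = 64) (ho : ¬ 2 ∣ A.index) {x : X} (hx : x ∈ A)
    (hC : ∀ g : X, g * x = x * g → g ∈ A)
    (hN : A.relIndex (normalizer (A : Set X)) ≤ 9)
    (hF : ∀ c ∈ normalizer (A : Set X), c ∉ A → Nat.card ↥(A ⊓ centralizer ({c} : Set X)) ≤ 4)
    {y : X} (hy : y ∈ A) (hxy : IsConj x y) (hp : IsConj x (x * y)) : A.Normal := by
  have sq : ∀ l, ∀ a ∈ cj l A, a * a = 1 := fun l a ha => by
    have := hA _ (mem_cj.1 ha)
    rw [show a * a = l * (l⁻¹ * a * l * (l⁻¹ * a * l)) * l⁻¹ by group, this]; group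
  have ab : ∀ l, ∀ a ∈ cj l A, ∀ b ∈ cj l A, a * b = b * a := fun l a ha b hb => by
    rw [← inv_eq_of_mul_eq_one_right (sq l _ (mul_mem ha hb)), mul_inv_rev, inv_eq_of_mul_eq_one_right (sq l a ha),
      inv_eq_of_mul_eq_one_right (sq l b hb)]
  have c1 : cj 1 A = A := cj_of_mem A.one_mem
  have hS : SylIn 2 A ⊤ := ⟨le_top, IsPGroup.of_card (n := 6) hc, by rwa [relIndex_top_right]⟩
  have L1 : ∀ k l, k * x * k⁻¹ ∈ cj l A → cj l A = cj k A := fun k l h =>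
    eq_of_le_of_card_ge (fun g hg => mem_cj.2 (hC _ (by
      have := ab l g hg _ h
      rw [show k⁻¹ * g * k * x = k⁻¹ * (g * (k * x * k⁻¹)) * k by group, this]; group))) (by rw [card_cj, card_cj])
  have L2 : ∀ k, k * x * k⁻¹ ∈ A → k ∈ normalizer (A : Set X) := fun k h =>
    cj_eq_iff_mem_normalizer.1 ((L1 k 1 (c1.symm ▸ h)).symm.trans c1)
  by_contra hn
  have hne : {k : X | cj k A ≠ A}.Nonempty := by
    by_contra k
    exact hn ⟨fun a ha g => (not_not.1 fun h => k ⟨g, h⟩ : cj g A = A) ▸ conj_mem_cj ha⟩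
  obtain ⟨k, hk, hmax⟩ := Set.Finite.exists_maximalFor (fun k => Nat.card ↥(A ⊓ cj k A)) _ (Set.toFinite _) hne
  have mx : ∀ l m, A ⊓ cj k A < cj l A ⊓ cj m A → cj l A = cj m A := fun l m h => by
    by_contra k'
    have h1 : Nat.card ↥(A ⊓ cj (l⁻¹ * m) A) ≤ Nat.card ↥(A ⊓ cj k A) := (le_total _ _).elim (hmax (j := l⁻¹ * m) fun e => k' (by rw [← cj_inj (g := l⁻¹), cj_inv_cj, cj_cj, e])) id
    rw [← card_cj l (A ⊓ cj (l⁻¹ * m) A), cj_inf, cj_cj, mul_inv_cancel_left] at h1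
    exact h.ne (eq_of_le_of_card_ge h.le h1)
  have nI : ∀ z, IsConj x z → z ∉ A ⊓ cj k A := fun z hz h => by
    obtain ⟨l, rfl⟩ := isConj_iff.1 hz
    exact hk ((L1 l k h.2).trans ((L1 l 1 (c1.symm ▸ h.1)).symm.trans c1))
  have two : ∀ m b z, A ⊓ cj k A ≤ cj m A → b ∈ cj m A → b ∉ A ⊓ cj k A → IsPGroup 2 (zpowers z) →
      b * z * b⁻¹ = z⁻¹ → (∀ i ∈ A ⊓ cj k A, z * i = i * z) → z ∈ cj m A := fun m b z h1 h2 h3 h4 h5 h6 => by
    obtain ⟨g, -, hg⟩ := hS.exists_conj (IsPGroup.to_sup_of_normal_right'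
      ((isPGroup_cj m hS.isP).to_inf_left (K := normalizer (zpowers z : Set X))) h4 inf_le_right) le_top
    have h7 : cj m A ⊓ normalizer (zpowers z : Set X) ⊔ zpowers z ≤ cj g⁻¹ A := fun r hr => mem_cj.2 (by simpa using hg r hr)
    have h8 : A ⊓ cj k A ≤ cj m A ⊓ normalizer (zpowers z : Set X) := fun i hi =>
      ⟨h1 hi, ab_nz (by rw [← h6 i hi, mul_inv_cancel_right]; exact mem_zpowers z)⟩
    rw [mx m g⁻¹ (lt_of_le_of_ne (le_inf h1 (h8.trans (le_sup_left.trans h7))) fun e => h3 (e.ge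
      ⟨h2, h7 (mem_sup_left ⟨h2, ab_nz (h5 ▸ inv_mem (mem_zpowers z))⟩)⟩))]
    exact h7 (mem_sup_right (mem_zpowers z))
  have step : ∀ a ∈ A, a ∉ A ⊓ cj k A → ∃ c, (∀ i ∈ A ⊓ cj k A, c * i = i * c) ∧
      ∃ i ∈ A ⊓ cj k A, c * k * x * (c * k)⁻¹ = a * i := fun a ha haI => by
    have hx' : k * x * k⁻¹ ∈ cj k A := conj_mem_cj hx
    have hx1 := nI _ (isConj_iff.2 ⟨k, rfl⟩)
    suffices ∃ c, (∀ i ∈ A ⊓ cj k A, c * i = i * c) ∧ ∃ i ∈ A ⊓ cj k A, c * (k * x * k⁻¹) * c⁻¹ = a * i by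
      obtain ⟨c, h1, i, hi, h2⟩ := this
      exact ⟨c, h1, i, hi, h2 ▸ by group⟩
    generalize k * x * k⁻¹ = w at hx' hx1
    have hρ : ∀ n : ℕ, ∀ i ∈ A ⊓ cj k A, (a * w) ^ n * i = i * (a * w) ^ n := fun n i hi =>
      (Commute.mul_left (ab 1 a (c1.symm ▸ ha) i (c1.symm ▸ hi.1)) (ab k w hx' i hi.2)).pow_left n
    obtain ⟨e, m, ⟨j, rfl⟩, hm⟩ := Nat.exists_eq_two_pow_mul_odd (orderOf_pos (a * w)).ne'
    have h2 : IsPGroup 2 (zpowers ((a * w) ^ (2 * j + 1))) := IsPGroup.of_card_dvd_pow (n := e) (by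
      rw [Nat.card_zpowers, orderOf_dvd_iff_pow_eq_one, ← pow_mul, mul_comm, ← hm, pow_orderOf_eq_one])
    have h3 := two 1 a _ (c1.symm ▸ inf_le_left) (c1.symm ▸ ha) haI h2 (conj_mul_pow (hA a ha) (sq k w hx') _) (hρ _)
    have h4 := two k w _ inf_le_right hx' hx1 h2 (conj_mul_pow' (hA a ha) (sq k w hx') _) (hρ _)
    refine ⟨((a * w) ^ j)⁻¹, fun i hi => (Commute.inv_left (hρ j i hi)), _, ⟨c1 ▸ h3, h4⟩, ?_⟩
    have h5 := conj_mul_pow (hA a ha) (sq k w hx') j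
    have h6 : w = a * (a * w) := by rw [← mul_assoc, hA a ha, one_mul]
    generalize a * w = ρ at h5 h6
    rw [inv_inv, ← h5, h6, show 2 * j + 1 = j + 1 + j by ring, pow_add, pow_succ]
    group
  have hI : 64 ≤ 10 * Nat.card ↥(A ⊓ cj k A) := by
    let g : Option (normalizer (A : Set X) ⧸ A.subgroupOf (normalizer (A : Set X))) × ↥(A ⊓ cj k A) → A := fun p =>
      p.1.elim 1 (fun c => ⟨c.out * x * c.out⁻¹, conj_mem_of_mem_normalizer c.out.2 hx⟩) * ⟨p.2, p.2.2.1⟩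
    have hg : Function.Surjective g := fun a => by
      by_cases h : (a : X) ∈ A ⊓ cj k A
      · exact ⟨(none, ⟨a, h⟩), one_mul _⟩
      obtain ⟨c, -, i, hi, h2⟩ := step a a.2 h
      have h3 := L2 _ (h2 ▸ mul_mem a.2 hi.1)
      obtain ⟨b, hb⟩ := QuotientGroup.mk_out_eq_mul (A.subgroupOf (normalizer (A : Set X))) ⟨_, h3⟩
      refine ⟨(some (QuotientGroup.mk ⟨_, h3⟩), ⟨i⁻¹, inv_mem hi⟩), Subtype.ext ?_⟩
      have h4 := ab 1 (b.1 : X) (c1.ge (mem_subgroupOf.1 b.2)) x (c1.ge hx)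
      change _ * x * _ * i⁻¹ = _
      rw [hb, mul_inv_eq_iff_eq_mul, ← h2, Subgroup.coe_mul, Subgroup.coe_inv, Subgroup.coe_mul, mul_assoc _ _ x, h4]
      group
    have := Nat.card_le_card_of_surjective g hg
    rw [hc, Nat.card_prod, Finite.card_option] at this
    exact this.trans (Nat.mul_le_mul_right _ (Nat.succ_le_succ hN))
  obtain ⟨c, h1, i, hi, h2⟩ := step x hx (nI x (IsConj.refl x))
  obtain ⟨d, h3, j, hj, h4⟩ := step y hy (nI y hxy)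
  have h5 : d * c⁻¹ ∈ normalizer (A : Set X) := by
    have := mul_mem (L2 _ (h4 ▸ mul_mem hy hj.1)) (inv_mem (L2 _ (h2 ▸ mul_mem hx hi.1)))
    rwa [show d * k * (c * k)⁻¹ = d * c⁻¹ by group] at this
  have h6 := hF _ h5 fun h => nI _ hp (by
    have h7 := ab 1 _ (c1.symm ▸ h) _ (c1.symm ▸ mul_mem hx hi.1)
    have h8 : y * j = x * i := by
      rw [← h4, show d * k * x * (d * k)⁻¹ = d * c⁻¹ * (c * k * x * (c * k)⁻¹) * (d * c⁻¹)⁻¹ by group, h2, h7]; group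
    rw [show x * y = x * (y * j) * j⁻¹ by group, h8, ← mul_assoc, hA x hx, one_mul]
    exact mul_mem hi (inv_mem hj))
  have h7 : A ⊓ cj k A ≤ A ⊓ centralizer {d * c⁻¹} := fun r hr => ⟨hr.1, mem_centralizer_singleton_iff.2
    (Commute.mul_left (h3 r hr) (Commute.inv_left (h1 r hr))).symm⟩
  have := card_le_of_le h7
  omega

end Cfsg.Agent.CONW.Y
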