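import Cfsg.Agent.CONW.YB1

/-! The wreathed configuration. -/

set_option autoImplicit false
set_option maxRecDepth 100000

namespace Cfsg.Agent.CONW.Y

open Cfsg.Agent.H58 Cfsg.Agent.H78 Subgroup

variable {G : Type*} [Group G] {el : ℕ → G} {θ : PC →* G}

/-- the 32 elements of `C(z, t)` in `M12` -/
def LD0 : List (List ℕ) := subw [[2], [4], [8], [6], [7]]

/-- the centraliser of `z, t` in `M12` -/
def DD (el : ℕ → G) : Subgroup G := closure {el 9, el 12 * el 9 * (el 12)⁻¹, (el 12)⁻¹ * el 9 * el 12}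

theorem comm_ev {g : G} {w : List ℕ} (h : ∀ n ∈ w, el n * g = g * el n) : ev el w * g = g * ev el w := by
  induction w with
  | nil => rw [ev_nil, one_mul, mul_one]
  | cons n w ih =>
    rw [ev_cons, mul_assoc, ih fun m hm => h m (List.mem_cons_of_mem _ hm), ← mul_assoc,
      h n List.mem_cons_self, mul_assoc]

theorem ok_LD0 : ∀ w ∈ LD0, okw lC w = true ∧ ∀ n ∈ w, n ∈ [2, 4, 8, 6, 7] := by decide

theorem CY.let_D (h : CY el θ) : ∀ n ∈ [2, 4, 8, 6, 7], el n ∈ DD el := by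
  have key : ∀ w ∈ [[9], [12, 9, 13], [13, 9, 12]], Y.ev el w ∈ DD el := by
    simp only [List.forall_mem_cons, ev_cons, ev_nil, mul_one, (rule_inv h.rule).2.1, ← mul_assoc]
    exact ⟨subset_closure (by simp), subset_closure (by simp), subset_closure (by simp), by simp⟩
  intro n hn
  obtain ⟨L, h1, h2⟩ := (by decide +kernel : ∀ n ∈ [2, 4, 8, 6, 7], ∃ L ∈ [[0, 1, 0, 2, 0], [1, 2, 1], [2, 1, 2],
    [1, 2, 1, 2], [0, 2, 0, 2]], (okw lC [n] && okw lC (L.flatMap fun i => [[9], [12, 9, 13], [13, 9, 12]].getD i []) &&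
      Nat.beq (MC.pw [n]) (MC.pw (L.flatMap fun i => [[9], [12, 9, 13], [13, 9, 12]].getD i []))) = true) n hn
  rw [← ev_one el n, h.gr.eq _ _ h2, ← ev_flat el (fun i => Y.ev el ([[9], [12, 9, 13], [13, 9, 12]].getD i [])) _ L
    fun _ _ => rfl]
  refine (DD el).list_prod_mem fun x hx => ?_
  obtain ⟨i, hi, rfl⟩ := List.mem_map.1 hx
  exact key _ ((by decide : ∀ L ∈ [[0, 1, 0, 2, 0], [1, 2, 1], [2, 1, 2], [1, 2, 1, 2], [0, 2, 0, 2]], ∀ i ∈ L,
    [[9], [12, 9, 13], [13, 9, 12]].getD i [] ∈ [[9], [12, 9, 13], [13, 9, 12]]) L h1 i hi)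

theorem CY.word_D (h : CY el θ) {w : List ℕ} (hw : w ∈ LD0) : Y.ev el w ∈ DD el :=
  (DD el).list_prod_mem fun x hx => by
    obtain ⟨n, hn, rfl⟩ := List.mem_map.1 hx
    exact h.let_D n ((ok_LD0 w hw).2 n hn)

theorem CY.mem_D (h : CY el θ) {d : G} (hd : d ∈ DD el) : ∃ w ∈ LD0, d = Y.ev el w := by
  have key : DD el ≤ (MonoidHom.fst _ _ : PC →* _).ker.map θ ⊓ centralizer {el 1, el 6, el 7} := by
    have a : ∀ w ∈ [[9], [12, 9, 13], [13, 9, 12]], Y.ev el w ∈
        (MonoidHom.fst _ _ : PC →* _).ker.map θ ⊓ centralizer {el 1, el 6, el 7} := fun w hw => by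
      obtain ⟨o, c, k⟩ := (by decide +kernel : ∀ w ∈ [[9], [12, 9, 13], [13, 9, 12]], okw lC w = true ∧
        w.count 1 = 0 ∧ ∀ n ∈ [1, 6, 7], (okw lC ([n] ++ w) && okw lC (w ++ [n]) &&
          Nat.beq (MC.pw ([n] ++ w)) (MC.pw (w ++ [n]))) = true) w hw
      have b : ∀ n ∈ [1, 6, 7], el n * Y.ev el w = Y.ev el w * el n := fun n hn => by
        have := h.gr.eq _ _ (k n hn)
        rwa [ev_append, ev_append, ev_one] at this
      refine ⟨⟨_, ?_, h.ev o⟩, fun g hg => ?_⟩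
      · change (Y.ev pC w).1 = 1
        rw [ev_pC_fst, c]; rfl
      · rcases hg with rfl | rfl | rfl
        exacts [b 1 (by decide), b 6 (by decide), b 7 (by decide)]
    simp only [List.forall_mem_cons, ev_cons, ev_nil, mul_one, (rule_inv h.rule).2.1, ← mul_assoc] at a
    rw [DD, closure_le]
    rintro _ (rfl | rfl | rfl)
    exacts [a.1, a.2.1, a.2.2.1]
  obtain ⟨⟨k, hk, rfl⟩, hc⟩ := key hd
  obtain ⟨w, hw, e⟩ := h.cenV (hc _ (by simp)).symm (hc _ (by simp)).symm (hc _ (by simp)).symm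
  refine ⟨w, (by decide : ∀ w ∈ LD, ((w.count 1 : ℕ) : ZMod 2) = 0 → w ∈ LD0) w hw ?_, e⟩
  have := ev_pC_fst w
  rw [← h.inj (e.trans (h.ev (ok_LD w hw)).symm), show k.1 = 1 from hk] at this
  exact this.symm

theorem CY.inV (h : CY el θ) {w : List ℕ} (o : okw lC w = true)
    (hw : ∃ v ∈ [[], [6], [7], [6, 7]], MC.pw w = MC.pw v) : InV (el 6) (el 7) (Y.ev el w) := by
  obtain ⟨v, hv, e⟩ := hw
  rw [(h.gr.iff o ((by decide : ∀ v ∈ [[], [6], [7], [6, 7]], okw lC v = true) v hv)).2 e]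
  simp only [List.mem_cons, List.not_mem_nil, or_false] at hv
  rcases hv with rfl | rfl | rfl | rfl <;> simp [InV]

theorem CY.eh [Finite G] (h : CY el θ) {u e f : G} (uu : u * u = 1) (hu : Act el u lU (su [] [] [] []))
    (h3 : u * el 12 * (u * el 12) * (u * el 12) = 1) (he : e = el 12 * u * (el 12)⁻¹)
    (hf : f = el 10 * e * (el 10)⁻¹) (hη : e * el 10 * (e * el 10) * (e * el 10) = 1 ∨
      e * el 10 * (e * el 10) * (e * el 10) = el 6) :
    EH (el 1) (el 6) (el 7) u e (el 9) f (el 3) (el 10) (el 12) (DD el) := by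
  have q : ∀ v w : List ℕ, (okw lC v && okw lC w && Nat.beq (MC.pw v) (MC.pw w)) = true →
    Y.ev el v = Y.ev el w := h.gr.eq
  obtain ⟨iS, iR, -⟩ := rule_inv h.rule
  have sq : ∀ n ≤ 9, el n * el n = 1 := fun n hn => rule_sq h.rule hn
  have ui : u⁻¹ = u := inv_eq_of_mul_eq_one_right uu
  have uc : ∀ c ∈ [2, 3, 4, 6, 7, 8, 9, 10], el c * u = u * el c := fun c hc =>
    (hu.comm ((by decide : ∀ c ∈ [2, 3, 4, 6, 7, 8, 9, 10], c ∈ lU ∧ su [] [] [] [] c = [c]) c hc)).symm
  have ux : u * el 1 * u = el 1 * el 6 := by simpa [ui, su] using hu 1 (by decide)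
  have ae := h.act_e hu [] [1, 2, 4, 6, 7, 8, 9]
    (fun c => [[], [1], [2], [], [8, 7], [], [6, 7], [6], [2, 4, 8, 6], [4, 6]].getD c [])
    (fun c => if c = 1 then [1, 7] else [c]) (by decide +kernel) (by decide) (by decide +kernel)
  rw [ev_one, iR, ← he] at ae
  have ec : ∀ c ∈ [2, 4, 6, 7, 8, 9], el c * e = e * el c := fun c hc =>
    (ae.comm ((by decide : ∀ c ∈ [2, 4, 6, 7, 8, 9], c ∈ [1, 2, 4, 6, 7, 8, 9] ∧
      (if c = 1 then [1, 7] else [c]) = [c]) c hc)).symm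
  have ee : e * e = 1 := by rw [he, conj_mul, uu]; simp
  have ei : e⁻¹ = e := inv_eq_of_mul_eq_one_right ee
  have ff : f * f = 1 := by rw [hf, conj_mul, ee]; simp
  have ex : e * el 1 * e = el 1 * el 7 := by simpa [ei] using ae 1 (by decide)
  have r3 : el 12 * el 12 * el 12 = 1 := by simpa [mul_assoc] using q [12, 12, 12] [] (by decide +kernel)
  have s3 : el 10 * el 10 * el 10 = 1 := by simpa [mul_assoc] using q [10, 10, 10] [] (by decide +kernel)
  have rr : el 12 * el 12 = (el 12)⁻¹ := eq_inv_of_mul_eq_one_left r3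
  have ss : el 10 * el 10 = (el 10)⁻¹ := eq_inv_of_mul_eq_one_left s3
  have vr : el 3 * el 12 * el 3 = (el 12)⁻¹ := by simpa [mul_assoc, iR] using q [3, 12, 3] [13] (by decide +kernel)
  have vi : (el 3)⁻¹ = el 3 := inv_eq_of_mul_eq_one_right (sq 3 (by decide))
  have e2 : (el 12)⁻¹ * u * el 12 = e * u := by
    have : u * e * ((el 12)⁻¹ * u * el 12) = 1 := by
      rw [← h3, he]; nth_rewrite 2 [← rr]; group
    rw [eq_inv_of_mul_eq_one_right this, mul_inv_rev, ui, ei]
  have ue : u * e = e * u := by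
    have : e * u * (e * u) = 1 := by rw [← e2]; calc _ = (el 12)⁻¹ * (u * u) * el 12 := by group
      _ = 1 := by rw [uu]; simp
    rw [eq_inv_of_mul_eq_one_left this, mul_inv_rev, ui, ei]
  have re : el 12 * e * (el 12)⁻¹ = u * e := by
    rw [ue, ← e2, he, ← mul_assoc, ← mul_assoc, rr, mul_assoc, ← mul_inv_rev, rr, inv_inv]
  have ve : el 3 * e * el 3 = u * e := by
    calc _ = el 3 * el 12 * el 3 * ((el 3)⁻¹ * (u * el 3)) * (el 3 * el 12 * el 3)⁻¹ := by
          rw [he, mul_inv_rev, mul_inv_rev, vi]; nth_rewrite 6 [← vi]; nth_rewrite 4 [← vi]; group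
      _ = _ := by rw [← uc 3 (by decide), vr, inv_mul_cancel_left, inv_inv, e2, ue]
  have fc : ∀ (c : ℕ) (w : List ℕ), (∀ n ∈ w, n ∈ [2, 4, 6, 7, 8, 9]) →
      (okw lC [c, 10] && okw lC (10 :: w) && Nat.beq (MC.pw [c, 10]) (MC.pw (10 :: w))) = true →
      f * el c = el c * f := fun c w hw hd => by
    have a := q _ _ hd
    rw [ev_cons, ev_cons el 10 w, ev_one] at a
    rw [hf, eq_mul_inv_of_mul_eq a, conj_mul, conj_mul, comm_ev fun n hn => ec n (hw n hn)]
  have fz := fc 6 [6] (by decide) (by decide +kernel)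
  have fu : f * u = u * f := by
    have : u = el 10 * u * (el 10)⁻¹ := by rw [uc 10 (by decide)]; simp
    rw [hf, this, conj_mul, conj_mul, ue]
  have vf := fc 3 [2] (by decide) (by decide +kernel)
  obtain ⟨η, hη1, hη2⟩ : ∃ η, (η = 1 ∨ η = el 6) ∧ el 10 * f * (el 10)⁻¹ = f * e * η := by
    refine ⟨_, hη, ?_⟩
    have : e * el 10 * (e * el 10) * (e * el 10) = e * (f * (el 10 * f * (el 10)⁻¹)) := by
      rw [hf]
      calc _ = e * el 10 * e * (el 10)⁻¹ * (el 10 * el 10) * e * (el 10 * el 10)⁻¹ := by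
            rw [ss, inv_inv]; nth_rewrite 2 [← ss]; group
        _ = _ := by group
    rw [this, mul_assoc f e, ← mul_assoc e e, ee, one_mul, ← mul_assoc f f, ff, one_mul]
  have fi : f⁻¹ = f := inv_eq_of_mul_eq_one_right ff
  have ηF : η ∈ closure {el 6, el 7, u, e} := by
    rcases hη1 with rfl | rfl
    exacts [one_mem _, subset_closure (by simp)]
  have fe : f * e = e * f := by
    have a : f * e * η * (f * e * η) = 1 := by rw [← hη2, conj_mul, ff]; simp
    have b : f * e * (f * e) = 1 := by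
      rcases hη1 with rfl | rfl
      · simpa using a
      · have c : el 6 * (f * e) = f * e * el 6 := by rw [← mul_assoc, ← fz, mul_assoc, ec 6 (by decide), mul_assoc]
        rw [← a, mul_assoc (f * e) (el 6), ← mul_assoc (el 6), c, mul_assoc (f * e) (el 6), sq 6 (by decide),
          mul_one]
    rw [eq_inv_of_mul_eq_one_left b, mul_inv_rev, ei, fi]
  have nf : el 4 * f * el 4 = f * e * η := by
    have a : el 4 * el 10 = (el 10)⁻¹ * el 4 := by simpa [iS] using q [4, 10] [11, 4] (by decide +kernel)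
    have ni : (el 4)⁻¹ = el 4 := inv_eq_of_mul_eq_one_right (sq 4 (by decide))
    rw [← hη2, hf]
    calc _ = el 4 * el 10 * e * (el 4 * el 10)⁻¹ := by rw [mul_inv_rev, ni]; simp only [mul_assoc]
      _ = el 10 * el 10 * (el 4 * e * (el 4)⁻¹) * (el 10 * el 10)⁻¹ := by rw [a, ss]; group
      _ = _ := by rw [ec 4 (by decide), mul_inv_cancel_right]; group
  have hF : ∀ g ∈ closure {el 6, el 7, u, e}, ∀ d ∈ DD el, d * g = g * d := fun g hg d hd => by
    obtain ⟨w, hw, rfl⟩ := h.mem_D hd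
    have : closure {el 6, el 7, u, e} ≤ centralizer {Y.ev el w} := by
      rw [closure_le]
      rintro _ (rfl | rfl | rfl | rfl) <;> refine mem_centralizer_singleton_iff.2 (comm_ev fun n hn => ?_).symm
      · simpa using q [n, 6] [6, n] ((by decide +kernel : ∀ n ∈ [2, 4, 8, 6, 7], (okw lC [n, 6] && okw lC [6, n] &&
          Nat.beq (MC.pw [n, 6]) (MC.pw [6, n])) = true) n ((ok_LD0 w hw).2 n hn))
      · simpa using q [n, 7] [7, n] ((by decide +kernel : ∀ n ∈ [2, 4, 8, 6, 7], (okw lC [n, 7] && okw lC [7, n] &&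
          Nat.beq (MC.pw [n, 7]) (MC.pw [7, n])) = true) n ((ok_LD0 w hw).2 n hn))
      · exact uc n ((by decide : ∀ n ∈ [2, 4, 8, 6, 7], n ∈ [2, 3, 4, 6, 7, 8, 9, 10]) n ((ok_LD0 w hw).2 n hn))
      · exact ec n ((by decide : ∀ n ∈ [2, 4, 8, 6, 7], n ∈ [2, 4, 6, 7, 8, 9]) n ((ok_LD0 w hw).2 n hn))
    exact (mem_centralizer_singleton_iff.1 (this hg)).symm
  have zF : el 6 ∈ closure {el 6, el 7, u, e} := subset_closure (by simp)
  have uF : u ∈ closure {el 6, el 7, u, e} := subset_closure (by simp)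
  have eF : e ∈ closure {el 6, el 7, u, e} := subset_closure (by simp)
  have fa := fc 9 [7] (by decide) (by decide +kernel)
  have a2 : (el 12)⁻¹ * el 9 * el 12 = el 4 * el 6 := by
    simpa [iR, mul_assoc] using q [13, 9, 12] [4, 6] (by decide +kernel)
  have a1 : el 12 * el 9 * (el 12)⁻¹ = el 3 * (el 4 * el 6) * el 3 := by
    simpa [iR, mul_assoc] using q [12, 9, 13] [3, 4, 6, 3] (by decide +kernel)
  have b2 : f * (el 4 * el 6) * f * (el 4 * el 6)⁻¹ = e * η := by
    have ni : (el 4)⁻¹ = el 4 := inv_eq_of_mul_eq_one_right (sq 4 (by decide))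
    calc _ = f * (el 4 * (el 6 * f * (el 6)⁻¹) * (el 4)⁻¹) := by group
      _ = _ := by rw [← fz, mul_inv_cancel_right, ni, nf, ← mul_assoc, ← mul_assoc, ff, one_mul]
  have fD : ∀ d ∈ DD el, f * d * f * d⁻¹ ∈ closure {el 6, el 7, u, e} := fun d hd => by
    induction hd using closure_induction with
    | mem x hx =>
      rcases hx with rfl | rfl | rfl
      · rw [fa, mul_assoc (el 9), ff, mul_one, mul_inv_cancel]; exact one_mem _
      · have : f * (el 3 * (el 4 * el 6) * el 3) * f * (el 3 * (el 4 * el 6) * el 3)⁻¹ =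
            el 3 * e * el 3 * ((el 3)⁻¹ * η * el 3) := by
          calc _ = f * el 3 * (el 4 * el 6) * (el 3 * f * (el 3)⁻¹) * (el 4 * el 6)⁻¹ * (el 3)⁻¹ := by group
            _ = el 3 * (f * (el 4 * el 6) * f * (el 4 * el 6)⁻¹) * (el 3)⁻¹ := by
              rw [vf, ← vf, mul_inv_cancel_right, vf]; group
            _ = _ := by rw [b2]; nth_rewrite 6 [← vi]; group
        rw [a1, this, ve]
        refine mul_mem (mul_mem uF eF) ?_
        rcases hη1 with rfl | rfl
        · rw [mul_one, inv_mul_cancel]; exact one_mem _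
        · rw [mul_assoc, show el 6 * el 3 = el 3 * el 6 by simpa using q [6, 3] [3, 6] (by decide +kernel),
            inv_mul_cancel_left]
          exact zF
      · rw [a2, b2]; exact mul_mem eF ηF
    | one => rw [mul_one, ff, inv_one, mul_one]; exact one_mem _
    | mul x y hx hy ix iy =>
      have : f * (x * y) * f * (x * y)⁻¹ = f * x * f * x⁻¹ * (x * (f * y * f * y⁻¹) * x⁻¹) := by
        nth_rewrite 4 [← fi]; group
      rw [this, hF _ iy x hx, mul_inv_cancel_right]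
      exact mul_mem ix iy
    | inv x hx ix =>
      have : f * x⁻¹ * f * x⁻¹⁻¹ = x⁻¹ * (f * x * f * x⁻¹)⁻¹ * x := by
        conv_lhs => rw [← fi]
        group
      rw [this, hF _ (inv_mem ix) _ (inv_mem hx), inv_mul_cancel_right]
      exact inv_mem ix
  have tF : el 7 ∈ closure {el 6, el 7, u, e} := subset_closure (by simp)
  have c2 : ∀ m n : ℕ, (okw lC [m, n] && okw lC [n, m] && Nat.beq (MC.pw [m, n]) (MC.pw [n, m])) = true →
      el m * el n = el n * el m := fun m n hd => by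
    have := q _ _ hd
    rwa [ev_cons, ev_cons el n [m], ev_one, ev_one] at this
  have xD : ∀ {g k : G}, k * k = 1 → g ∈ DD el → k * (k * g) ∈ DD el := fun hk hg => by
    rwa [← mul_assoc, hk, one_mul]
  refine ⟨sq 1 (by decide), sq 6 (by decide), sq 7 (by decide), uu, ee, sq 9 (by decide), ff, sq 3 (by decide), r3,
    ev_one el 6 ▸ h.gr.ne [6] [] (by decide +kernel), ev_one el 7 ▸ h.gr.ne [7] [] (by decide +kernel),
    ev_one el 6 ▸ ev_one el 7 ▸ h.gr.ne [6] [7] (by decide +kernel), c2 6 7 (by decide +kernel),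
    c2 1 6 (by decide +kernel), c2 1 7 (by decide +kernel), (uc 6 (by decide)).symm, (uc 7 (by decide)).symm,
    (ec 6 (by decide)).symm, (ec 7 (by decide)).symm, ue, ux, ex, rfl, h.let_D 6 (by decide), h.let_D 7 (by decide),
    ?_, fun d hd => ?_, hF _ zF, hF _ tF, hF _ uF, hF _ eF, fun d hd => ?_, fun d hd hc => ?_,
    card_list h.gr LD0 (by decide +kernel) (k := [2, 4, 8, 6, 7]) (by decide) |>.trans
      (card_le_of_le (gen_le h.let_D)), fun g h1 h2 h3 => ?_, fz, fc 7 [7, 9] (by decide) (by decide +kernel), fu,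
    fe, fa, ?_, fD, c2 12 1 (by decide +kernel), ?_, ?_, he.symm, re, c2 3 1 (by decide +kernel),
    c2 3 6 (by decide +kernel), uc 3 (by decide), c2 3 9 (by decide +kernel), vf.symm, ?_, ve, vr,
    c2 10 1 (by decide +kernel), c2 10 6 (by decide +kernel), uc 10 (by decide), ?_, ?_, hf.symm, ?_, ?_,
    fun Q hQ h1 h2 h3 h4 g hg => ?_, h.rk2⟩
  · rintro (c | c | c | c)
    · exact h.gr.ne [9] [] (by decide +kernel) (by simpa using c)
    · exact h.gr.ne [9] [6] (by decide +kernel) (by simpa using c)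
    · exact h.gr.ne [9] [7] (by decide +kernel) (by simpa using c)
    · exact h.gr.ne [9] [6, 7] (by decide +kernel) (by simpa using c)
  · obtain ⟨w, hw, rfl⟩ := h.mem_D hd
    exact h.comm (ok_LD0 w hw).1
  · obtain ⟨w, hw, rfl⟩ := h.mem_D hd
    rw [← ev_append]
    exact h.inV (okw_app (ok_LD0 w hw).1 (ok_LD0 w hw).1) ((by decide +kernel : ∀ w ∈ LD0,
      ∃ v ∈ [[], [6], [7], [6, 7]], MC.pw (w ++ w) = MC.pw v) w hw)
  · obtain ⟨w, hw, rfl⟩ := h.mem_D hd
    exact h.inV (ok_LD0 w hw).1 ((by decide +kernel : ∀ w ∈ LD0, (∀ n ∈ [2, 4, 8], MC.pw (w ++ [n]) =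
      MC.pw ([n] ++ w)) → ∃ v ∈ [[], [6], [7], [6, 7]], MC.pw w = MC.pw v) w hw fun n hn =>
        h.gr.comm (ok_LD0 w hw).1 ((by decide : ∀ n ∈ [2, 4, 8], okw lC [n] = true) n hn)
          (hc _ (h.let_D n ((by decide : ∀ n ∈ [2, 4, 8], n ∈ [2, 4, 8, 6, 7]) n hn))))
  · obtain ⟨w, hw, rfl⟩ := h.cenV h1 h2 h3
    obtain ⟨v, hv, rfl | rfl⟩ := (by decide : ∀ w ∈ LD, ∃ v ∈ LD0, w = v ∨ w = 1 :: v) w hw
    · exact Or.inl (h.word_D hv)
    · exact Or.inr (xD (sq 1 (by decide)) (h.word_D hv))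
  · calc _ = el 10 * (e * ((el 10)⁻¹ * (el 1 * el 10)) * e) * (el 10)⁻¹ := by rw [hf]; group
      _ = _ := by
        rw [c2 1 10 (by decide +kernel), inv_mul_cancel_left, ex]
        simpa [iS, mul_assoc] using q [10, 1, 7, 11] [1, 9] (by decide +kernel)
  · simpa [iR, mul_assoc] using q [12, 6, 13] [7] (by decide +kernel)
  · simpa [iR, mul_assoc] using q [12, 7, 13] [6, 7] (by decide +kernel)
  · simpa [mul_assoc] using q [3, 7, 3] [6, 7] (by decide +kernel)
  · simpa [iS, mul_assoc] using q [10, 7, 11] [9] (by decide +kernel)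
  · simpa [iS, mul_assoc] using q [10, 9, 11] [7, 9] (by decide +kernel)
  · rcases hη1 with rfl | rfl
    exacts [Or.inl (hη2.trans (mul_one _)), Or.inr hη2]
  · have := q [10, 9, 12, 9, 13, 13, 9, 12, 11] [3, 9] (by decide +kernel)
    simp only [ev_cons, ev_nil, iS, iR, mul_one] at this
    simpa only [mul_assoc] using this
  · have := h.syl hQ (gen_le fun n hn => ?_) h4
    · obtain ⟨w, hw, rfl⟩ := h.mem_T (this ▸ hg)
      obtain ⟨v, hv, rfl | rfl | rfl | rfl⟩ := (by decide +kernel : ∀ w ∈ LT, ∃ v ∈ LD0, w = v ∨ w = 1 :: v ∨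
        w = 3 :: v ∨ w = 1 :: 3 :: v) w hw
      · exact Or.inl (h.word_D hv)
      · exact Or.inr (Or.inl (xD (sq 1 (by decide)) (h.word_D hv)))
      · exact Or.inr (Or.inr (Or.inl (xD (sq 3 (by decide)) (h.word_D hv))))
      · refine Or.inr (Or.inr (Or.inr ?_))
        rw [ev_cons, ev_cons, ← mul_assoc (el 1) (el 3)]
        exact xD (by simpa [mul_assoc] using q [1, 3, 1, 3] [] (by decide +kernel)) (h.word_D hv)
    · rcases (by decide : ∀ n ∈ lT, n = 1 ∨ n = 3 ∨ n = 9 ∨ n ∈ [2, 4, 8, 6, 7]) n hn with rfl | rfl | rfl | c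
      exacts [h1, h2, h3 (subset_closure (by simp)), h3 (h.let_D n c)]

end Cfsg.Agent.CONW.Y
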