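import Cfsg.Agent.CONW.YE2
import Cfsg.Agent.H3.PResidual

/-! Wreathed case, part 3: the Sylow subgroup and Thompson transfer. -/

set_option autoImplicit false
set_option linter.unusedSectionVars false

namespace Cfsg.Agent.CONW.Y

open Subgroup H42 E45

theorem rk2_conj {G : Type*} [Group G] {x : G} (hx : Rk2 x) (γ : G) : Rk2 (γ * x * γ⁻¹) := by
  intro E h1 h2 h3 c k hc hcx hcE
  have := hx (cj γ⁻¹ E) (fun g hg => by
      have := h1 _ (mem_cj.mp hg)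
      have e : g * g = γ⁻¹ * (γ⁻¹⁻¹ * g * γ⁻¹ * (γ⁻¹⁻¹ * g * γ⁻¹)) * γ := by group
      rw [e, this]; group) (by rwa [card_cj]) (fun g hg => by
      have := h3 _ (mem_cj.mp hg)
      calc g * x = γ⁻¹ * (γ⁻¹⁻¹ * g * γ⁻¹ * (γ * x * γ⁻¹)) * γ := by group
        _ = _ := by rw [this]; group) (γ⁻¹ * c * γ) k (by
      rw [show γ⁻¹ * c * γ = γ⁻¹ * c * γ⁻¹⁻¹ by group, conj_pow, hc]; group) (by
      calc γ⁻¹ * c * γ * x = γ⁻¹ * (c * (γ * x * γ⁻¹)) * γ := by group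
        _ = _ := by rw [hcx]; group) (fun g hg => by
      have := hcE _ (mem_cj.mp hg)
      calc γ⁻¹ * c * γ * g = γ⁻¹ * (c * (γ⁻¹⁻¹ * g * γ⁻¹)) * γ := by group
        _ = _ := by rw [this]; group)
  have h4 := mem_cj.mp this
  rwa [show γ⁻¹⁻¹ * (γ⁻¹ * c * γ) * γ⁻¹ = c by group] at h4

namespace EH

variable {G : Type*} [Group G] [Finite G]
variable {x z t u e a f v s r : G} {D : Subgroup G} (h : EH x z t u e a f v s r D)
include h

theorem Z0_sq {c : G} (hc : c ∈ Z0 z u) : c * c = 1 := h.F0_sq (Z0_le hc)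

/-- the group `H0` -/
def H0 (_h : EH x z t u e a f v s r D) : Subgroup G where
  carrier := {n | (∀ c ∈ Z0 z u, n * c * n⁻¹ = c) ∧ (∀ φ ∈ F0 z t u e, n * φ * n⁻¹ * φ⁻¹ ∈ Z0 z u) ∧
    ∀ φ ∈ FF z t u e a f, n * φ * n⁻¹ * φ⁻¹ ∈ F0 z t u e}
  one_mem' := ⟨fun _ _ => by simp, fun _ _ => by simp, fun _ _ => by simp⟩
  mul_mem' := by
    rintro n m ⟨n1, n2, n3⟩ ⟨m1, m2, m3⟩
    refine ⟨fun c hc => ?_, fun φ hφ => ?_, fun φ hφ => ?_⟩
    · rw [show n * m * c * (n * m)⁻¹ = n * (m * c * m⁻¹) * n⁻¹ by group, m1 c hc, n1 c hc]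
    · have := mul_mem (m2 φ hφ) (n2 φ hφ)
      rw [← n1 _ (m2 φ hφ)] at this
      rwa [show n * (m * φ * m⁻¹ * φ⁻¹) * n⁻¹ * (n * φ * n⁻¹ * φ⁻¹) = n * m * φ * (n * m)⁻¹ * φ⁻¹ by group]
        at this
    · have := mul_mem (mul_mem (Z0_le (n2 _ (m3 φ hφ))) (m3 φ hφ)) (n3 φ hφ)
      rwa [show n * (m * φ * m⁻¹ * φ⁻¹) * n⁻¹ * (m * φ * m⁻¹ * φ⁻¹)⁻¹ * (m * φ * m⁻¹ * φ⁻¹) *
        (n * φ * n⁻¹ * φ⁻¹) = n * m * φ * (n * m)⁻¹ * φ⁻¹ by group] at this
  inv_mem' := by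
    rintro n ⟨n1, n2, n3⟩
    have i1 : ∀ c ∈ Z0 z u, n⁻¹ * c * n⁻¹⁻¹ = c := fun c hc => by
      conv_lhs => rw [← n1 c hc]
      group
    have i2 : ∀ φ ∈ F0 z t u e, n⁻¹ * φ * n⁻¹⁻¹ * φ⁻¹ ∈ Z0 z u := fun φ hφ => by
      have := inv_mem (n2 φ hφ)
      rw [← i1 _ this] at this
      rwa [show n⁻¹ * (n * φ * n⁻¹ * φ⁻¹)⁻¹ * n⁻¹⁻¹ = n⁻¹ * φ * n⁻¹⁻¹ * φ⁻¹ by group] at this
    refine ⟨i1, i2, fun φ hφ => ?_⟩
    have h1 := inv_mem (n3 φ hφ)
    have := mul_mem (Z0_le (i2 _ h1)) h1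
    rwa [show n⁻¹ * (n * φ * n⁻¹ * φ⁻¹)⁻¹ * n⁻¹⁻¹ * (n * φ * n⁻¹ * φ⁻¹)⁻¹⁻¹ * (n * φ * n⁻¹ * φ⁻¹)⁻¹ =
      n⁻¹ * φ * n⁻¹⁻¹ * φ⁻¹ by group] at this

theorem x_H0 : x ∉ h.H0 := fun h' => by
  have := h'.1 u u_Z0
  exact h.ux_ne (mul_inv_eq_iff_eq_mul.mp this).symm

theorem xH0 : x ∈ normalizer (h.H0 : Set G) := by
  apply mem_normalizer_of_conj_mem
  rintro n ⟨n1, n2, n3⟩
  refine ⟨fun c hc => ?_, fun φ hφ => ?_, fun φ hφ => ?_⟩
  · rw [show x * n * x⁻¹ * c * (x * n * x⁻¹)⁻¹ = x * (n * (x⁻¹ * c * x) * n⁻¹) * x⁻¹ by group,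
      n1 _ (cm' h.xZ0 hc)]; group
  · have := cm h.xZ0 (n2 _ (cm' h.xF0 hφ))
    rwa [show x * (n * (x⁻¹ * φ * x) * n⁻¹ * (x⁻¹ * φ * x)⁻¹) * x⁻¹ = x * n * x⁻¹ * φ * (x * n * x⁻¹)⁻¹ * φ⁻¹
      by group] at this
  · have := cm h.xF0 (n3 _ (cm' h.xFF hφ))
    rwa [show x * (n * (x⁻¹ * φ * x) * n⁻¹ * (x⁻¹ * φ * x)⁻¹) * x⁻¹ = x * n * x⁻¹ * φ * (x * n * x⁻¹)⁻¹ * φ⁻¹
      by group] at this

theorem Y2_H0 : h.Y2 ≤ h.H0 := fun _ hg =>
  ⟨fun _ hc => YY_conj hg.1 (Z0_le hc), fun φ hφ => by rw [YY_conj hg.1 hφ]; simp,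
    fun _ hφ => h.Y2_cmt hg (h.FF_Y2 hφ)⟩

theorem FF_norm {N : Subgroup G} (hN : N ≤ F0 z t u e) {φ : G} (hφ : φ ∈ FF z t u e a f) :
    φ ∈ normalizer (N : Set G) :=
  mem_normalizer_of_conj_mem fun g hg => by rw [YY_conj (h.FF_YY hφ) (hN hg)]; exact hg

theorem v_H0 : v ∈ h.H0 := by
  have hvi := inv_of h.vv
  have h2 : ∀ φ ∈ F0 z t u e, v * φ * v⁻¹ * φ⁻¹ ∈ Z0 z u := by
    refine cmt_closure (fun φ hφ => h.FF_norm Z0_le (F0_le hφ)) ?_
    intro s' hs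
    simp only [Set.mem_insert_iff, Set.mem_singleton_iff] at hs
    rcases hs with rfl | rfl | rfl | rfl
    · rw [h.vz]; simp
    · rw [hvi, h.vt, mul_inv_cancel_right]; exact z_Z0
    · rw [h.vu]; simp
    · rw [hvi, h.ve, mul_inv_cancel_right]; exact u_Z0
  refine ⟨fun c hc => ?_, h2, ?_⟩
  · rw [comm_closure (g := v) (by
      intro s' hs
      simp only [Set.mem_insert_iff, Set.mem_singleton_iff] at hs
      rcases hs with rfl | rfl
      exacts [h.vz, h.vu]) c hc]; group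
  · refine cmt_closure (fun φ hφ => h.FF_norm le_rfl hφ) ?_
    intro s' hs
    simp only [Set.mem_insert_iff, Set.mem_singleton_iff] at hs
    rcases hs with rfl | rfl | rfl | rfl | rfl | rfl
    · exact Z0_le (h2 _ z_F0)
    · exact Z0_le (h2 _ t_F0)
    · exact Z0_le (h2 _ u_F0)
    · exact Z0_le (h2 _ e_F0)
    · rw [h.va]; simp
    · rw [h.vf]; simp

theorem H0_F0 {n : G} (hn : n ∈ h.H0) : n ∈ normalizer ((F0 z t u e : Subgroup G) : Set G) :=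
  mem_normalizer_of_conj_mem fun φ hφ => by simpa using mul_mem (Z0_le (hn.2.1 φ hφ)) hφ

theorem H0_sq {n : G} (hn : n ∈ h.H0) : n * n ∈ YY z t u e := by
  refine mem_YY.mpr fun φ hφ => ?_
  have hc := hn.2.1 φ hφ
  have : n * n * φ * (n * n)⁻¹ = φ := by
    calc n * n * φ * (n * n)⁻¹ = n * (n * φ * n⁻¹ * φ⁻¹) * n⁻¹ * (n * φ * n⁻¹ * φ⁻¹) * φ := by group
      _ = φ := by rw [hn.1 _ hc, h.Z0_sq hc, one_mul]
  exact (mul_inv_eq_iff_eq_mul.mp this).symm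

/-- step 5 -/
theorem exists_f' : ∃ f' ∈ h.H0, ∃ w ∈ h.Y2, f' * x * f'⁻¹ = w * v * x := by
  set g := r⁻¹ * f * r * (r * f * r⁻¹ * f) with hg
  have h10 := mul_mem h.f1_Y2 h.f_Y2
  have gY : g ∈ h.Y2 := mul_mem h.f2_Y2 h10
  obtain ⟨h4, h5⟩ := h.v_conj h.vf
  have hc := h.Y2_cmt h.f1_Y2 h.f2_Y2
  set c := r * f * r⁻¹ * (r⁻¹ * f * r) * (r * f * r⁻¹)⁻¹ * (r⁻¹ * f * r)⁻¹ with hcd
  have hvg : v * g * v⁻¹ = c * g := by
    calc v * g * v⁻¹ = v * (r⁻¹ * f * r) * v⁻¹ * (v * (r * f * r⁻¹) * v⁻¹) * (v * f * v⁻¹) := by rw [hg]; group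
      _ = _ := by rw [h4, h5, h.vf, hcd, hg]; group
  have hfix : ∀ φ ∈ h.Y2, v * φ = φ * v → g * φ * g⁻¹ * φ⁻¹ ∈ Z0 z u := by
    intro φ hφ hv
    have hm := h.Y2_cmt gY hφ
    refine h.C0v hm ?_
    have e1 : v * φ * v⁻¹ = φ := by rw [hv]; group
    calc v * (g * φ * g⁻¹ * φ⁻¹) * v⁻¹
        = v * g * v⁻¹ * (v * φ * v⁻¹) * (v * g * v⁻¹)⁻¹ * (v * φ * v⁻¹)⁻¹ := by group
      _ = c * (g * φ * g⁻¹ * φ⁻¹) * (φ * c⁻¹ * φ⁻¹) := by rw [hvg, e1]; group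
      _ = _ := by rw [YY_conj hφ.1 (inv_mem hc), h.F0_comm hc hm]; group
  have hgF : ∀ φ ∈ FF z t u e a f, g * φ * g⁻¹ * φ⁻¹ ∈ Z0 z u := by
    refine cmt_closure (fun φ hφ => h.FF_norm Z0_le hφ) ?_
    intro s' hs
    simp only [Set.mem_insert_iff, Set.mem_singleton_iff] at hs
    rcases hs with rfl | rfl | rfl | rfl | rfl | rfl
    · rw [YY_conj gY.1 z_F0]; simp
    · rw [YY_conj gY.1 t_F0]; simp
    · rw [YY_conj gY.1 u_F0]; simp
    · rw [YY_conj gY.1 e_F0]; simp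
    · exact hfix _ (h.D_Y2 h.aD) h.va
    · exact hfix _ h.f_Y2 h.vf
  have hsZ : ∀ c ∈ Z0 z u, s * c = c * s := comm_closure (by
    intro s' hs
    simp only [Set.mem_insert_iff, Set.mem_singleton_iff] at hs
    rcases hs with rfl | rfl
    exacts [h.sz, h.su])
  have hF' : ∀ φ ∈ FF z t u e a f, s * g * s⁻¹ * φ * (s * g * s⁻¹)⁻¹ * φ⁻¹ ∈ Z0 z u := by
    intro φ hφ
    have h1 := hgF _ (cm' h.sFF hφ)
    rw [show s * g * s⁻¹ * φ * (s * g * s⁻¹)⁻¹ * φ⁻¹ =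
      s * (g * (s⁻¹ * φ * s) * g⁻¹ * (s⁻¹ * φ * s)⁻¹) * s⁻¹ by group, hsZ _ h1, mul_inv_cancel_right]
    exact h1
  refine ⟨s * g * s⁻¹, ⟨fun c hc => ?_, fun φ hφ => hF' φ (F0_le hφ), fun φ hφ => Z0_le (hF' φ hφ)⟩, ?_⟩
  · have e1 : s⁻¹ * c * s = c := by rw [mul_assoc, ← hsZ c hc]; group
    rw [show s * g * s⁻¹ * c * (s * g * s⁻¹)⁻¹ = s * (g * (s⁻¹ * c * s) * g⁻¹) * s⁻¹ by group, e1,
      YY_conj gY.1 (Z0_le hc), hsZ c hc, mul_inv_cancel_right]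
  · obtain ⟨c1, hc1, e1⟩ := h.y_mul h.f1_Y2 h.f_Y2
    obtain ⟨c2, hc2, e2⟩ := h.y_mul h.f2_Y2 h10
    rw [e1, h.yf, h.yf1, h.yf2, ← hg] at e2
    refine ⟨s * (c2 * c1) * s⁻¹ * a, mul_mem (h.FF_Y2 (cm h.sFF (F0_le (mul_mem hc2 hc1)))) (h.D_Y2 h.aD), ?_⟩
    have hx' : s * x * s⁻¹ = x := by rw [h.sx]; group
    calc s * g * s⁻¹ * x * (s * g * s⁻¹)⁻¹ = s * g * s⁻¹ * (s * x * s⁻¹) * (s * g * s⁻¹)⁻¹ := by rw [hx']
      _ = s * (g * x * g⁻¹ * (x * x)) * s⁻¹ := by rw [h.xx]; group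
      _ = s * (g * x * g⁻¹ * x) * s⁻¹ * (s * x * s⁻¹) := by group
      _ = s * (c2 * c1) * s⁻¹ * (s * (a * (r * a * r⁻¹) * (r⁻¹ * a * r)) * s⁻¹) * x := by rw [e2, hx']; group
      _ = _ := by rw [h.sv, h.va]; group

/-- step 7 -/
theorem exists_P : ∃ P : Subgroup G, IsPGroup 2 P ∧ h.Y2 ≤ P ∧ v ∈ P ∧ x ∈ P ∧
    (∀ g ∈ P, g ∈ h.H0 ∨ g * x ∈ h.H0) ∧ (∀ g ∈ P, g ∈ YY z t u e → g ∈ h.Y2) ∧
    ∃ k ∈ P, k ∈ h.H0 ∧ ∃ w ∈ h.Y2, k * x * k⁻¹ = w * v * x := by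
  have : Fact (Nat.Prime 2) := ⟨Nat.prime_two⟩
  have hxx : ∀ N : Subgroup G, x * x ∈ N := fun N => by rw [h.xx]; exact one_mem _
  set H := ext h.H0 x h.xH0 (hxx _) with hH
  have hK : IsPGroup 2 (closure {v, x} : Subgroup G) := by
    apply isP_of_four
    intro g hg
    have hcm : ∀ b ∈ closure ({v, x} : Set G), ∀ c ∈ closure ({v, x} : Set G), b * c = c * b := by
      intro b hb c hc
      refine (comm_closure (fun s' hs => (comm_closure (fun s'' hs' => ?_) c hc).symm) b hb).symm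
      simp only [Set.mem_insert_iff, Set.mem_singleton_iff] at hs hs'
      rcases hs with rfl | rfl <;> rcases hs' with rfl | rfl
      exacts [rfl, h.vx, h.vx.symm, rfl]
    have : g * g = 1 := by
      induction hg using closure_induction with
      | mem s' hs =>
        simp only [Set.mem_insert_iff, Set.mem_singleton_iff] at hs
        rcases hs with rfl | rfl
        exacts [h.vv, h.xx]
      | one => simp
      | mul b c hb hc ib ic =>
        rw [show b * c * (b * c) = b * (c * b) * c by group, hcm c hc b hb,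
          show b * (b * c) * c = b * b * (c * c) by group, ib, ic, one_mul]
      | inv b _ ib => rw [inv_of ib, ib]
    rw [show g ^ 4 = g * g * (g * g) by simp [pow_succ, mul_assoc], this, one_mul]
  have hR : IsPGroup 2 (h.Y2 ⊔ closure {v, x} : Subgroup G) :=
    (isP_of_four fun g hg => h.Y2_four hg).to_sup_of_normal_left' hK (by
      rw [closure_le]
      rintro s' (rfl | rfl)
      exacts [h.vY2, h.xY2])
  obtain ⟨P, hP, hRP⟩ := exists_sylIn hR (H := H) (sup_le (h.Y2_H0.trans le_ext) (by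
    rw [closure_le]
    rintro s' (rfl | rfl)
    exacts [le_ext h.v_H0, self_ext]))
  have hY : h.Y2 ≤ P := le_sup_left.trans hRP
  have hv : v ∈ P := hRP (mem_sup_right (subset_closure (by simp)))
  have hx : x ∈ P := hRP (mem_sup_right (subset_closure (by simp)))
  have hHF : ∀ g ∈ H, g ∈ normalizer ((F0 z t u e : Subgroup G) : Set G) :=
    fun g hg => ext_le (K := normalizer _) (fun _ hn => h.H0_F0 hn) h.xF0 hg
  have hPY : ∀ g ∈ P, g ∈ YY z t u e → g ∈ h.Y2 := by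
    by_contra hcon
    push Not at hcon
    obtain ⟨g1, g1P, g1Y, g1n⟩ := hcon
    have hnA : x ∈ normalizer ((P ⊓ YY z t u e : Subgroup G) : Set G) := mem_normalizer_of_conj_mem fun g hg =>
      ⟨P.mul_mem (P.mul_mem hx hg.1) (P.inv_mem hx), cm (nYY h.xF0) hg.2⟩
    have hlt : ext h.Y2 x h.xY2 (hxx _) < ext (P ⊓ YY z t u e) x hnA (hxx _) := by
      refine lt_of_le_of_ne (ext_le ((le_inf hY h.Y2_YY).trans le_ext) self_ext) fun he => ?_
      have : g1 ∈ ext h.Y2 x h.xY2 (hxx _) := he ▸ le_ext ⟨g1P, g1Y⟩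
      rcases this with h1 | h1
      · exact g1n h1
      · exact h.x_YY (by simpa using mul_mem (inv_mem g1Y) h1.1)
    obtain ⟨g, ⟨gA, gN⟩, gn⟩ := SetLike.exists_of_lt
      (lt_inf_normalizer (hP.isP.to_le (ext_le inf_le_left hx)) hlt)
    have key : ∀ g0, g0 ∈ YY z t u e → g0 ∈ normalizer ((ext h.Y2 x h.xY2 (hxx _) : Subgroup G) : Set G) →
        g0 ∈ h.Y2 := by
      intro g0 g0Y g0N
      rcases cm' g0N self_ext with h1 | h1
      · exact absurd (by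
          have := mul_mem (mul_mem g0Y h1.1) (inv_mem g0Y)
          rwa [show g0 * (g0⁻¹ * x * g0) * g0⁻¹ = x by group] at this) h.x_YY
      · have e1 : g0⁻¹ * x * g0 * x * x = g0⁻¹ * x * g0 := by rw [mul_assoc _ x x, h.xx, mul_one]
        obtain ⟨k, hk, e2⟩ := h.I2 h1 (by
          rw [e1, show g0⁻¹ * x * g0 * (g0⁻¹ * x * g0) = g0⁻¹ * (x * x) * g0 by group, h.xx]; group)
        rw [e1] at e2
        have := h.M1_Y2 (h.P0 (mul_mem g0Y hk.1) (by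
          rw [show g0 * k * x * (g0 * k)⁻¹ * x = g0 * (k * x * k⁻¹) * g0⁻¹ * x by group, ← e2,
            show g0 * (g0⁻¹ * x * g0) * g0⁻¹ * x = x * x by group, h.xx]; exact one_mem _))
        simpa using mul_mem this (inv_mem hk)
    rcases gA with h1 | h1
    · exact gn (Or.inl (key g h1.2 gN))
    · exact gn (Or.inr (key _ h1.2 (mul_mem gN (le_normalizer self_ext))))
  refine ⟨P, hP.isP, hY, hv, hx, fun g hg => hP.le hg, hPY, ?_⟩
  set M := h.H0 ⊓ YY z t u e with hM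
  have hMH : M ≤ H := inf_le_left.trans le_ext
  have hN : H ≤ normalizer (M : Set G) := fun g hg => mem_normalizer_of_conj_mem fun m hm =>
    ⟨cm (ext_le (K := normalizer _) le_normalizer h.xH0 hg) hm.1, cm (nYY (hHF g hg)) hm.2⟩
  have : (M.subgroupOf H).Normal := (normal_subgroupOf_iff_le_normalizer hMH).mpr hN
  have hq : IsPGroup 2 (H ⧸ M.subgroupOf H) := by
    intro q
    obtain ⟨⟨g, hg⟩, rfl⟩ := QuotientGroup.mk_surjective q
    refine ⟨2, ?_⟩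
    rw [← QuotientGroup.mk_pow, QuotientGroup.eq_one_iff, mem_subgroupOf]
    have h2 : g * g ∈ h.H0 := by
      rcases hg with hg | hg
      · exact mul_mem hg hg
      · have := mul_mem hg (cm h.xH0 hg)
        rwa [show g * x * (x * (g * x) * x⁻¹) = g * (x * x) * g by group, h.xx, mul_one] at this
    show g ^ (2 ^ 2) ∈ M
    rw [show g ^ (2 ^ 2) = g * g * (g * g) by simp [pow_succ, mul_assoc]]
    exact ⟨mul_mem h2 h2, h.H0_sq h2⟩
  obtain ⟨n, hn⟩ := IsPGroup.iff_card.mp hq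
  obtain ⟨f', hf', w, hw, e1⟩ := h.exists_f'
  obtain ⟨k, hk, m, hm, e2⟩ := hP.exists_mul_of_relIndex_pow hMH hN (k := n) hn (le_ext hf')
  have hk0 : k ∈ h.H0 := by
    have := h.H0.mul_mem (e2 ▸ hf') (h.H0.inv_mem hm.1)
    rwa [mul_inv_cancel_right] at this
  have hm1 : m⁻¹ * (x * m * x⁻¹) ∈ M := mul_mem (inv_mem hm) (cm (hN self_ext) hm)
  have hm2 := cm (hN (le_ext hf')) hm1
  have e3 : k * x * k⁻¹ = f' * (m⁻¹ * (x * m * x⁻¹)) * f'⁻¹ * w * v * x := by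
    have : k = f' * m⁻¹ := by rw [e2]; group
    rw [this, mul_assoc _ w, mul_assoc _ (w * v), ← e1]; group
  refine ⟨k, hk, hk0, _, mul_mem (hPY _ ?_ hm2.2) hw, e3⟩
  have := mul_mem (mul_mem (mul_mem (mul_mem (mul_mem hk hx) (inv_mem hk)) (inv_mem hx)) (inv_mem hv))
    (inv_mem (hY hw))
  rwa [e3, show f' * (m⁻¹ * (x * m * x⁻¹)) * f'⁻¹ * w * v * x * x⁻¹ * v⁻¹ * w⁻¹ =
    f' * (m⁻¹ * (x * m * x⁻¹)) * f'⁻¹ by group] at this

/-- step 9 -/
theorem no_conj {y : G} (hy : y * y = 1) (hr : Rk2 y) (h0 : y ∈ h.H0)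
    (hn : y ∈ normalizer (h.Y2 : Set G)) : False := by
  have : Fact (Nat.Prime 2) := ⟨Nat.prime_two⟩
  have hyi := inv_of hy
  by_cases hA : 16 ≤ Nat.card (FF z t u e a f ⊓ centralizer {y} : Subgroup G)
  · have hyF : y ∈ FF z t u e a f := (hr (FF z t u e a f ⊓ centralizer {y}) (fun g hg => h.FF_sq hg.1) hA (fun g hg => mem_centralizer_singleton_iff.mp hg.2) y 1
      (by simpa [pow_two] using hy) rfl (fun g hg => (mem_centralizer_singleton_iff.mp hg.2).symm)).1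
    exact h.aF0 (hr _ (fun g hg => h.F0_sq hg) h.card_F0 (fun g hg => h.FF_comm (F0_le hg) hyF) a 1
      (by simpa [pow_two] using h.aa) (h.FF_comm a_FF hyF) (fun g hg => h.D_comm h.aD hg))
  set F1 : Subgroup G := F0 z t u e ⊓ centralizer {y} with hF1
  have hle : Nat.card F1 ≤ Nat.card (FF z t u e a f ⊓ centralizer {y} : Subgroup G) :=
    card_le_of_le (inf_le_inf_right _ F0_le)
  have hδ : ∀ g g' : G, g * y * g⁻¹ * y = g' * y * g'⁻¹ * y → g'⁻¹ * g ∈ centralizer ({y} : Set G) := by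
    intro g g' e1
    rw [mem_centralizer_singleton_iff]
    calc g'⁻¹ * g * y = g'⁻¹ * (g * y * g⁻¹) * g := by group
      _ = _ := by rw [mul_right_cancel e1]; group
  have hδ1 : ∀ g : G, g * y * g⁻¹ * y ∈ F0 z t u e → g * y * g⁻¹ * y ∈ F1 := by
    intro g hg
    refine ⟨hg, mem_centralizer_singleton_iff.mpr ?_⟩
    have := inv_of (h.F0_sq hg)
    conv_rhs => rw [← this]
    simp only [mul_inv_rev, hyi, inv_inv]
    rw [mul_assoc _ y y, hy, ← mul_assoc y y, hy]; group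
  have c1 := card_le_of_fib (S := FF z t u e a f) (T := F1) (K := FF z t u e a f ⊓ centralizer {y})
    (fun g => g * y * g⁻¹ * y) (fun g hg => hδ1 g (by
      have := (F0 z t u e).inv_mem (h0.2.2 g hg)
      simp only [mul_inv_rev, hyi, inv_inv] at this
      rwa [show g * (y * (g⁻¹ * y)) = g * y * g⁻¹ * y by group] at this))
    (fun g hg g' hg' e1 => mem_inf.mpr ⟨mul_mem (inv_mem hg') hg, hδ g g' e1⟩)
  have c0 := h.card_FF
  obtain ⟨n, hn'⟩ := IsPGroup.iff_card.mp (isP_of_four (X := F1) fun g hg => h.Y2_four (h.F0_Y2 hg.1))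
  have c8 : Nat.card F1 = 8 := by
    have a1 : 2 ^ n < 2 ^ 4 := by omega
    have a2 : 2 ^ 2 < 2 ^ n := by rw [← hn']; nlinarith
    have a3 := (Nat.pow_lt_pow_iff_right (by norm_num : 1 < 2)).mp a1
    have a4 := (Nat.pow_lt_pow_iff_right (by norm_num : 1 < 2)).mp a2
    rw [hn', show n = 3 by omega]; norm_num
  have hyY : y ∉ YY z t u e := by
    intro h'
    have : Nat.card (F0 z t u e) ≤ Nat.card F1 :=
      card_le_of_le (le_inf le_rfl fun φ hφ => mem_centralizer_singleton_iff.mpr (mem_YY.mp h' φ hφ))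
    have := h.card_F0
    omega
  have hnF : y ∈ normalizer (F1 : Set G) := mem_normalizer_of_conj_mem fun g hg => by
    rw [← mem_centralizer_singleton_iff.mp hg.2, mul_inv_cancel_right]; exact hg
  have hyy : y * y ∈ F1 := by rw [hy]; exact one_mem _
  have hC : ∀ c ∈ h.Y2, c ∈ centralizer ({y} : Set G) → c ∈ F1 := by
    intro c hc hcy
    have hcy' := mem_centralizer_singleton_iff.mp hcy
    have hE : ∀ g ∈ ext F1 y hnF hyy, g * y = y * g := by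
      rintro g (hg | hg)
      · exact mem_centralizer_singleton_iff.mp hg.2
      · have := mem_centralizer_singleton_iff.mp hg.2
        rw [← mul_assoc] at this
        exact mul_right_cancel this
    have := hr (ext F1 y hnF hyy) (fun g hg => by
        rcases hg with hg' | hg'
        · exact h.F0_sq hg'.1
        · have := h.F0_sq hg'.1
          rwa [show g * y * (g * y) = g * (y * g) * y by group, ← hE g (Or.inr hg'),
            show g * (g * y) * y = g * g * (y * y) by group, hy, mul_one] at this)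
      (by
        have := two_mul_le (le_ext (hn := hnF) (hx := hyy)) self_ext (fun h' => hyY (h.F0_Y2 h'.1).1)
        omega) hE c 2 (h.Y2_four hc) hcy' (by
        rintro g (hg | hg)
        · exact (mem_YY.mp hc.1 g hg.1).symm
        · have := mem_YY.mp hc.1 _ hg.1
          rw [mul_assoc, ← hcy', ← mul_assoc, ← mul_assoc] at this
          exact (mul_right_cancel this).symm)
    rcases this with h1 | h1
    · exact h1
    · exact absurd (by simpa using mul_mem (inv_mem hc.1) (h.F0_Y2 h1.1).1) hyY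
  have hδ2 : ∀ g ∈ h.Y2, g * y * g⁻¹ * y ∈ h.Y2 := fun g hg => by
    have := mul_mem hg (cm hn (inv_mem hg))
    rwa [hyi, show g * (y * g⁻¹ * y) = g * y * g⁻¹ * y by group] at this
  let B3 : Subgroup G :=
    { carrier := {g | g ∈ h.Y2 ∧ g * y * g⁻¹ * y ∈ F0 z t u e}
      one_mem' := ⟨one_mem _, by simp [hy]⟩
      mul_mem' := by
        rintro g k ⟨hg, hg'⟩ ⟨hk, hk'⟩
        refine ⟨mul_mem hg hk, ?_⟩
        have := mul_mem hk' hg'
        rw [← YY_conj hg.1 hk'] at this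
        rwa [show g * (k * y * k⁻¹ * y) * g⁻¹ * (g * y * g⁻¹ * y) = g * k * y * k⁻¹ * (y * y) * g⁻¹ * y by group,
          hy, show g * k * y * k⁻¹ * 1 * g⁻¹ * y = g * k * y * (g * k)⁻¹ * y by group] at this
      inv_mem' := by
        rintro g ⟨hg, hg'⟩
        refine ⟨inv_mem hg, ?_⟩
        have := inv_mem hg'
        rw [← YY_conj (inv_mem hg.1) this] at this
        simp only [mul_inv_rev, hyi, inv_inv] at this ⊢
        rwa [show g⁻¹ * (y * (g * (y * g⁻¹))) * g = g⁻¹ * y * g * y by group] at this }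
  have c2 := card_le_of_fib (S := B3) (T := F1) (K := F1) (fun g => g * y * g⁻¹ * y)
    (fun g hg => hδ1 g hg.2) (fun g hg g' hg' e1 => hC _ (mul_mem (inv_mem hg'.1) hg.1) (hδ g g' e1))
  have c3 := card_le_of_fib (S := h.Y2) (T := B3) (K := F1) (fun g => g * y * g⁻¹ * y)
    (fun g hg => ⟨hδ2 g hg, by
      have := h.Y2_sq (hδ2 g hg)
      simp only [mul_inv_rev, hyi, inv_inv]
      rw [show g * y * g⁻¹ * y * y * (y * (g * (y * g⁻¹))) * y = g * y * g⁻¹ * (y * y) * (y * (g * (y * g⁻¹))) * y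
        by group, hy]
      rwa [show g * y * g⁻¹ * y * (g * y * g⁻¹ * y) = g * y * g⁻¹ * 1 * (y * (g * (y * g⁻¹))) * y by group]
        at this⟩)
    (fun g hg g' hg' e1 => hC _ (mul_mem (inv_mem hg') hg) (hδ g g' e1))
  have c4 := h.card_Y2
  rw [c8] at c2 c3
  omega

end EH

theorem EH.not_mem {G : Type*} [Group G] [Finite G] {x z t u e a f v s r : G} {D : Subgroup G}
    (h : EH x z t u e a f v s r D) : x ∉ pResidual 2 G := by
  have : Fact (Nat.Prime 2) := ⟨Nat.prime_two⟩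
  obtain ⟨P, hP, hY, hv, hx, hH, hPY, k, hk, hk0, w, hw, ek⟩ := h.exists_P
  have hD : D ≤ P := h.D_Y2.trans hY
  have hPF : ∀ g ∈ P, g ∈ normalizer ((F0 z t u e : Subgroup G) : Set G) := by
    intro g hg
    rcases hH g hg with h1 | h1
    · exact h.H0_F0 h1
    · simpa using mul_mem (h.H0_F0 h1) (inv_mem h.xF0)
  have hPN : ∀ g ∈ P, g ∈ normalizer (h.Y2 : Set G) := fun g hg => mem_normalizer_of_conj_mem fun y hy =>
    hPY _ (mul_mem (mul_mem hg (hY hy)) (inv_mem hg)) (cm (nYY (hPF g hg)) hy.1)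
  have hb : ∀ γ : G, γ * x * γ⁻¹ ∉ P ⊓ h.H0 := fun γ hγ =>
    h.no_conj (by rw [show γ * x * γ⁻¹ * (γ * x * γ⁻¹) = γ * (x * x) * γ⁻¹ by group, h.xx]; group)
      (rk2_conj h.rk γ) hγ.2 (hPN _ hγ.1)
  have hsyl : ∀ Q : Subgroup G, IsPGroup 2 Q → x ∈ Q → v ∈ Q → D ≤ Q → ∀ g ∈ Q, g * x = x * g →
      g ∈ D ∨ x * g ∈ D ∨ v * g ∈ D ∨ x * v * g ∈ D := fun Q hQ h1 h2 h3 g hg hgx =>
    h.syl (Q ⊓ centralizer {x}) hQ.to_inf_left ⟨h1, mem_centralizer_singleton_iff.mpr rfl⟩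
      ⟨h2, mem_centralizer_singleton_iff.mpr h.vx⟩
      (le_inf h3 fun d hd => mem_centralizer_singleton_iff.mpr (h.Dx d hd))
      (fun g hg => mem_centralizer_singleton_iff.mp hg.2) g ⟨hg, mem_centralizer_singleton_iff.mpr hgx⟩
  -- step 8
  have hc : ∀ g0 ∈ P, g0 ∈ h.H0 → g0 * x * (g0 * x) = 1 → ∃ p ∈ P, g0 * x = p * x * p⁻¹ := by
    intro g0 hg hg0 h2
    have e0 : x * g0⁻¹ * x = g0 := by
      have := inv_of h2
      rw [mul_inv_rev, inv_of h.xx] at this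
      rw [this, mul_assoc, h.xx, mul_one]
    have e1 : g0 * g0 * x = g0 * x * g0⁻¹ := by
      conv_lhs => rw [← e0]
      rw [show x * g0⁻¹ * x * (x * g0⁻¹ * x) * x = x * g0⁻¹ * x * x * g0⁻¹ * (x * x) by group, e0, h.xx, mul_one]
    obtain ⟨k1, hk1, e2⟩ := h.I2 (hPY _ (mul_mem hg hg) (h.H0_sq hg0)) (by
      rw [e1, show g0 * x * g0⁻¹ * (g0 * x * g0⁻¹) = g0 * (x * x) * g0⁻¹ by group, h.xx]; group)
    rw [e1] at e2
    have hm0 : k1⁻¹ * g0 ∈ h.H0 := mul_mem (inv_mem (h.Y2_H0 hk1)) hg0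
    have hD0 : D ≤ h.H0 := h.D_Y2.trans h.Y2_H0
    rcases hsyl P hP hx hv hD _ (mul_mem (inv_mem (hY hk1)) hg) (by
      calc k1⁻¹ * g0 * x = k1⁻¹ * (g0 * x * g0⁻¹) * g0 := by group
        _ = _ := by rw [e2]; group) with h1 | h1 | h1 | h1
    · obtain ⟨p, hp, e3⟩ := h.I2 (g := g0) (by simpa using mul_mem hk1 (h.D_Y2 h1)) h2
      exact ⟨p, hY hp, e3⟩
    · exact absurd (by have := mul_mem (hD0 h1) (inv_mem hm0); rwa [mul_inv_cancel_right] at this) h.x_H0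
    · have h3 : k1 * (v⁻¹ * (v * (k1⁻¹ * g0)) * v) * w⁻¹ ∈ h.Y2 :=
        mul_mem (mul_mem hk1 (cm' h.vY2 (h.D_Y2 h1))) (inv_mem hw)
      have h4 := cm' (hPN k hk) h3
      have e3 : g0 * x = k * (k⁻¹ * (k1 * (v⁻¹ * (v * (k1⁻¹ * g0)) * v) * w⁻¹) * k * x) * k⁻¹ := by
        calc g0 * x = g0 * (v * v) * x := by rw [h.vv, mul_one]
          _ = g0 * v * w⁻¹ * (w * v * x) := by group
          _ = _ := by rw [← ek]; group
      obtain ⟨p, hp, e4⟩ := h.I2 h4 (by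
        have : ∀ A B : G, A = k * B * k⁻¹ → A * A = 1 → B * B = 1 := by
          rintro A B rfl hA
          rw [show B * B = k⁻¹ * (k * B * k⁻¹ * (k * B * k⁻¹)) * k by group, hA]; group
        exact this _ _ e3 h2)
      exact ⟨k * p, mul_mem hk (hY hp), by rw [e3, e4]; group⟩
    · exact absurd (by
        have := mul_mem (mul_mem (hD0 h1) (inv_mem hm0)) (inv_mem h.v_H0)
        rwa [mul_inv_cancel_right, mul_inv_cancel_right] at this) h.x_H0
  -- step 10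
  obtain ⟨S, hS⟩ := hP.exists_le_sylow
  have hPS : P = S := by
    by_contra hne
    obtain ⟨g, ⟨gS, gN⟩, gn⟩ := SetLike.exists_of_lt (lt_inf_normalizer S.isPGroup' (lt_of_le_of_ne hS hne))
    have h1 := cm' gN hx
    rcases hH _ h1 with h2 | h2
    · exact hb g⁻¹ (by rw [inv_inv]; exact ⟨h1, h2⟩)
    · have e1 : g⁻¹ * x * g * x * x = g⁻¹ * x * g := by rw [mul_assoc _ x x, h.xx, mul_one]
      obtain ⟨p, hp, e2⟩ := hc _ (mul_mem h1 hx) h2 (by
        rw [e1, show g⁻¹ * x * g * (g⁻¹ * x * g) = g⁻¹ * (x * x) * g by group, h.xx]; group)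
      rw [e1] at e2
      have hgp : g * p ∈ P := by
        rcases hsyl S S.isPGroup' (hS hx) (hS hv) (hD.trans hS) _ (mul_mem gS (hS hp)) (by
          calc g * p * x = g * (p * x * p⁻¹) * p := by group
            _ = _ := by rw [← e2]; group) with h3 | h3 | h3 | h3
        · exact hD h3
        · simpa using mul_mem (inv_mem hx) (hD h3)
        · simpa using mul_mem (inv_mem hv) (hD h3)
        · have := mul_mem (inv_mem (mul_mem hx hv)) (hD h3)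
          rwa [inv_mul_cancel_left] at this
      exact gn (by simpa using mul_mem hgp (inv_mem hp))
  have hx1 : x ≠ 1 := fun h' => h.ux_ne (by rw [h']; simp)
  rcases Cfsg.Agent.S0111.result S (P ⊓ h.H0) (inf_le_left.trans hS) (by
      rw [← hPS, relIndex_eq_two_iff_exists_notMem_and]
      refine ⟨x, hx, fun h' => h.x_H0 h'.2, fun b hb => ?_⟩
      rcases hH b hb with h1 | h1
      exacts [Or.inr ⟨hb, h1⟩, Or.inl ⟨mul_mem hb hx, h1⟩]) x
      (orderOf_eq_prime (by rw [pow_two, h.xx]) hx1) (hS hx) (fun h' => h.x_H0 h'.2) with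
    ⟨M, hM, hi, hxM⟩ | ⟨g, hg⟩
  · exact fun h' => hxM (H3.pResidual_le_of_index_eq_pow M (k := 1) (by simpa using hi) h')
  · exact absurd hg (hb g)

end Cfsg.Agent.CONW.Y
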