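import Cfsg.Agent.CONW.YA
import Cfsg.Agent.CONW.YE
import Cfsg.Agent.CONW.YB2

/-! The first stage: the letters `u, e, f`. -/

set_option autoImplicit false
set_option maxRecDepth 100000

namespace Cfsg.Agent.CONW.Y

open Cfsg.Agent.H58 Cfsg.Agent.H78 Subgroup

section

variable {G : Type*} [Group G] {el : ℕ → G} {θ : PC →* G}

theorem CY.rels_u (h : CY el θ) {σ : ℕ → List ℕ} (hu : Act el (el 5) lU σ) (L : List (List ℕ))
    (hd : ∀ w ∈ L, ∃ c ∈ lU, w = [5, c, 5] ++ w.drop 3 ∧ MC.chk lC (σ c ++ w.drop 3) = true) :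
    ∀ w ∈ L, Y.ev el w = 1 := fun w hw => by
  obtain ⟨c, hc, e, hl⟩ := hd w hw
  rw [e, ← h.gr.chk _ hl, ev_append, ev_append, ← hu c hc,
    inv_eq_of_mul_eq_one_right (rule_sq h.rule (n := 5) (by decide))]
  simp [mul_assoc]

theorem comm_of_cube {u r : G} (uu : u * u = 1) (r3 : r * r * r = 1) (h3 : u * r * (u * r) * (u * r) = 1) :
    u * (r * u * r⁻¹) = r * u * r⁻¹ * u := by
  have ui : u⁻¹ = u := inv_eq_of_mul_eq_one_right uu
  have e : u * (r * u * r⁻¹) * (r⁻¹ * u * r) = 1 := by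
    rw [← h3]; nth_rewrite 2 [← eq_inv_of_mul_eq_one_left r3]; group
  have e2 : (r⁻¹ * u * r)⁻¹ = r⁻¹ * u * r := by rw [mul_inv_rev, mul_inv_rev, ui, inv_inv, mul_assoc]
  have e3 := eq_inv_of_mul_eq_one_left e
  rw [← inv_inj, e3, inv_inv, ← e2, ← e3]
  simp only [mul_inv_rev, ui, inv_inv, mul_assoc]

theorem CY.case0 [Finite G] (h : CY el θ) (hO : el 1 ∈ pResidual 2 G)
    (hu : Act el (el 5) lU (su [] [] [] [])) (he : el 14 = el 12 * el 5 * Y.ev el [13]) : False := by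
  have ae := h.act_e hu [] lE (fun c => [[], [1], [], [], [], [], [6, 7], [6], [], [4, 6]].getD c []) se
    (by decide +kernel) (by decide) (by decide +kernel)
  rw [← he] at ae
  obtain ⟨a, w, hw, e1, e2⟩ := h.eta ae
  obtain ⟨iS, iR, iE, -⟩ := rule_inv h.rule
  have uu := rule_sq h.rule (n := 5) (by decide)
  obtain ⟨v, hv, e3⟩ := h.cube_d hu [[], [1, 7]] (by decide) (by decide +kernel) (by decide +kernel)
  rcases List.mem_cons.1 hv with rfl | hv
  · have hE := fun hη => h.eh uu hu e3 (he.trans (by rw [ev_one, iR])) rfl hη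
    have uw : el 5 * Y.ev el w * (el 5)⁻¹ = Y.ev el w := by
      have c1 : el 5 * el 10 = el 10 * el 5 := hu.comm (by decide)
      have c2 : el 5 * el 14 = el 14 * el 5 := by
        rw [he, ev_one, iR]
        exact comm_of_cube uu (by simpa [mul_assoc] using h.gr.eq [12, 12, 12] [] (by decide +kernel)) e3
      have : Commute (el 5) (el 14 * el 10) := Commute.mul_right c2 c1
      rw [← e1, ((this.mul_right this).mul_right this).eq, mul_inv_cancel_right]
    obtain ⟨o1, o2⟩ := (by decide : ∀ w ∈ LE, (∀ n ∈ w, n ∈ lU) ∧ okw lC (w.flatMap (su [] [] [] [])) = true) w hw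
    rw [hu.ev o1, h.gr.iff o2 (ok_LE w hw)] at uw
    refine (hE ?_).not_mem hO
    rcases (by decide +kernel : ∀ w ∈ LE, MC.pw (w.flatMap ses) = MC.pw w →
      MC.pw (w.flatMap (su [] [] [] [])) = MC.pw w → w = [] ∨ w = [6]) w hw e2 uw with rfl | rfl
    exacts [Or.inl e1, Or.inr (e1.trans (ev_one el 6))]
  · obtain rfl := List.mem_singleton.1 hv
    refine h.bad hu rfl hw e1 (L := [[5, 2, 5, 2], [5, 3, 5, 3], [5, 4, 5, 4], [5, 1, 5, 1, 6], [5, 6, 5, 6],
      [5, 10, 5, 11]] ++ [[5, 12, 5, 12, 5, 12, 7, 1], [15, 12, 5, 13]]) (rels := ZA.rels) ?_ (by decide)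
      (by decide +kernel) fun el' R H hH => ZA.goal5 R H fun n hn => hH n ((by decide :
        ∀ n ∈ [1, 2, 3, 4, 6, 10, 12, 24], n ∈ 24 :: 8 :: lC) n hn)
    refine List.forall_mem_append.2 ⟨h.rels_u hu _ (by decide +kernel), ?_⟩
    simp only [List.forall_mem_cons, ev_cons, ev_nil, mul_one, iE] at e3 he ⊢
    refine ⟨?_, by rw [he]; group, by simp⟩
    calc _ = el 5 * el 12 * (el 5 * el 12) * (el 5 * el 12) * (el 7 * el 1) := by simp only [mul_assoc]
      _ = 1 := by rw [e3]; simpa [mul_assoc] using h.gr.eq [1, 7, 7, 1] [] (by decide +kernel)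

theorem CY.s1 (h : CY el θ) (hr : ∀ w ∈ relsV, Y.ev el w = 1) (hs : el 5 * el 10 = el 10 * el 5)
    (he : el 14 * el 10 * (el 14 * el 10) * (el 14 * el 10) = 1) :
    S1 (Y.upd el 16 (el 10 * el 14 * el 11)) θ := by
  refine ⟨h.upd (by decide) fun e => absurd e (by decide), fun w hw => ?_⟩
  rcases (by decide : ∀ w ∈ rels1, ((w ∈ relsV ∨ w = [5, 10, 5, 11] ∨ w = [14, 10, 14, 10, 14, 10]) ∧
    ∀ n ∈ w, n ≠ 16 ∧ n ≠ ivf iv 16) ∨ w = [17] ++ [10, 14, 11]) w hw with ⟨c, c'⟩ | rfl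
  · rw [ev_upd el 16 _ c']
    rcases c with c | rfl | rfl
    · exact hr w c
    · simp only [ev_cons, ev_nil, mul_one, (rule_inv h.rule).1, ← mul_assoc]
      rw [mul_assoc (el 5) (el 10), ← hs, ← mul_assoc, rule_sq h.rule (by decide), one_mul, mul_inv_cancel]
    · simpa [mul_assoc] using he
  · rw [ev_append, ev_upd el 16 _ (w := [10, 14, 11]) (by decide), ev_one]
    change (el 10 * el 14 * el 11)⁻¹ * _ = 1
    simp [mul_assoc]

theorem CY.case1 [Finite G] (h : CY el θ) (hu : Act el (el 5) lU (su [] [] [6] [6]))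
    (he : el 14 = el 12 * el 5 * Y.ev el [13, 8, 2]) : ∃ (el' : ℕ → G) (θ' : PC →* G), S1 el' θ' := by
  have ae := h.act_e hu [8, 2] lE (fun c => [[], [1], [], [], [], [], [6, 7], [6], [], [4]].getD c []) se
    (by decide +kernel) (by decide) (by decide +kernel)
  rw [← he] at ae
  obtain ⟨a, w, hw, e1, e2⟩ := h.eta ae
  obtain ⟨iS, iR, iE, -⟩ := rule_inv h.rule
  have hs : el 5 * el 10 = el 10 * el 5 := hu.comm (by decide)
  have r1 : Y.ev el [15, 12, 5, 13, 8, 2] = 1 := by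
    rw [ev_cons, iE, he, ev_cons el 12, ev_cons el 5]; group
  obtain ⟨v, hv, e3⟩ := h.cube_d hu [[2], [1, 8, 2, 8]] (by decide) (by decide +kernel) (by decide +kernel)
  have r2 : ∀ v', MC.chk lC (v ++ v') = true → Y.ev el ([5, 12, 5, 12, 5, 12] ++ v') = 1 := fun v' hd => by
    rw [← h.gr.chk _ hd, ev_append, ev_append, ← e3]; simp only [ev_cons, ev_nil, mul_one, mul_assoc]
  rcases List.mem_cons.1 hv with rfl | hv
  · refine (h.bad hu rfl hw e1 (L := [[5, 2, 5, 2], [5, 3, 5, 3], [5, 4, 5, 4, 6], [5, 1, 5, 1, 6], [5, 6, 5, 6],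
      [5, 10, 5, 11]] ++ [[5, 12, 5, 12, 5, 12, 2], [15, 12, 5, 13, 8, 2]]) (rels := ZB.rels) ?_ (by decide)
      (by decide +kernel) fun el' R H hH => ZB.goal5 R H fun n hn => hH n ((by decide :
        ∀ n ∈ [1, 2, 3, 4, 6, 8, 10, 12, 24], n ∈ 24 :: 8 :: lC) n hn)).elim
    exact List.forall_mem_append.2 ⟨h.rels_u hu _ (by decide +kernel), List.forall_mem_cons.2
      ⟨r2 [2] (by decide +kernel), List.forall_mem_singleton.2 r1⟩⟩
  obtain rfl := List.mem_singleton.1 hv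
  have hr : ∀ w ∈ relsV, Y.ev el w = 1 := (List.forall_mem_append (l₁ := relsV.take 5) (l₂ := relsV.drop 5)).2
    ⟨h.rels_u hu _ (by decide +kernel), List.forall_mem_cons.2
      ⟨r2 [8, 2, 8, 1] (by decide +kernel), List.forall_mem_singleton.2 r1⟩⟩
  have gV := h.grV hr
  have uw : el 5 * Y.ev el w * (el 5)⁻¹ = Y.ev el w := by
    have c0 : el 5 * el 14 * (el 5)⁻¹ = el 14 * el 7 := mul_inv_eq_iff_eq_mul.2 (by
      simpa [mul_assoc] using gV.eq [5, 14] [14, 7, 5] (by decide +kernel))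
    have c1 : el 5 * (el 14 * el 10) * (el 5)⁻¹ = el 14 * el 10 * Y.ev el [7, 9] := by
      rw [← conj_mul, c0, hs, mul_inv_cancel_right, mul_assoc, mul_assoc]
      simpa using h.gr.eq [7, 10] [10, 7, 9] (by decide +kernel)
    have c2 := a.ev (w := [7, 9]) (by decide)
    have c3 := a.ev (w := [7, 9] ++ [7, 9].flatMap ses) (by decide)
    have c4 := a.ev (w := [7, 9] ++ ([7, 9] ++ [7, 9].flatMap ses).flatMap ses) (by decide)
    rw [h.gr.chk (List.flatMap _ _) (by decide +kernel), ev_append, ← c3, ev_append, ← c2] at c4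
    rw [← e1, ← conj_mul, ← conj_mul, c1, ← mul_inv_eq_one, ← c4]; group
  obtain ⟨o1, o2⟩ := (by decide : ∀ w ∈ LE, (∀ n ∈ w, n ∈ lU) ∧ okw lC (w.flatMap (su [] [] [6] [6])) = true) w hw
  rw [hu.ev o1, h.gr.iff o2 (ok_LE w hw)] at uw
  rcases (by decide +kernel : ∀ w ∈ LE, MC.pw (w.flatMap ses) = MC.pw w →
    MC.pw (w.flatMap (su [] [] [6] [6])) = MC.pw w → w = [] ∨ w = [6]) w hw e2 uw with rfl | rfl
  · exact ⟨_, _, h.s1 hr hs e1⟩
  obtain ⟨el', θ', h', k1, -⟩ := h.twist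
  have h2 := h'.upd (i := 14) (by decide) (g := el 6 * el 15) fun e => absurd e (by decide)
  have k2 : ∀ n ≤ 13, Y.upd el' 14 (el 6 * el 15) n = Y.ev el (sig n) := fun n hn =>
    (upd_ne el' _ ⟨by omega, by change n ≠ 15; omega⟩).trans (k1 n hn)
  have zz := rule_sq h.rule (n := 6) (by decide)
  refine ⟨_, _, h2.s1 (fun v hv => ?_) ?_ ?_⟩
  · obtain ⟨b1, b2⟩ := (by decide +kernel : ∀ v ∈ relsV, (∀ n ∈ v, n ≤ 13 ∨ n = 15) ∧
      MK.chk lV (v.flatMap fun n => if n = 15 then [14, 6] else sig n) = true) v hv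
    rw [ev_flat el _ (fun n => if n = 15 then [14, 6] else sig n) v fun n hn => ?_]
    · exact gV.chk _ b2
    · rcases b1 n hn with c | rfl
      · rw [if_neg (by omega), k2 n c]
      · change (el 6 * el 15)⁻¹ = _
        simp [iE, inv_eq_of_mul_eq_one_right zz]
  · rw [k2 5 (by decide), k2 10 (by decide), show Y.ev el (sig 5) = el 5 from ev_one el 5,
      show Y.ev el (sig 10) = el 11 from ev_one el 11, iS]
    exact (Commute.inv_right hs).eq
  · rw [upd_self, k2 10 (by decide), show Y.ev el (sig 10) = el 11 from ev_one el 11, iS, iE]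
    have c1 : Commute (el 6) (el 10) := by
      simpa [commute_iff_eq] using h.gr.eq [6, 10] [10, 6] (by decide +kernel)
    have c2 : Commute (el 6) (el 14) := (ae.comm (c := 6) (by decide)).symm
    have c3 := (c2.inv_right.mul_right c1.inv_right).eq
    rw [ev_one] at e1
    have c4 : (el 14)⁻¹ * (el 10)⁻¹ * ((el 14)⁻¹ * (el 10)⁻¹) * ((el 14)⁻¹ * (el 10)⁻¹) = (el 6)⁻¹ := by
      rw [← mul_inv_cancel_right (el 6)⁻¹ (el 10), c1.inv_left.eq, ← e1]; group
    simp only [mul_assoc (el 6)]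
    generalize (el 14)⁻¹ * (el 10)⁻¹ = g at c3 c4 ⊢
    calc _ = el 6 * (g * el 6) * g * (el 6 * g) := by simp only [mul_assoc]
      _ = 1 := by rw [← c3, ← mul_assoc (el 6), zz, one_mul, c3, ← mul_assoc, c4, inv_mul_cancel]

end

theorem CY.exists_s1 {G : Type*} [Group G] [Finite G] {el : ℕ → G} {θ : PC →* G} (h : CY el θ)
    (hO : el 1 ∈ pResidual 2 G) : ∃ (el' : ℕ → G) (θ' : PC →* G), S1 el' θ' := by
  obtain ⟨u, uu, hx, hz, hs, hn, hw⟩ := h.exists_u hO
  have key : ∀ (en em : List ℕ) (e : G), u * el 4 * u = Y.ev el (4 :: en) →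
      lU.all (fun c => lU.contains c && (okw lC ((dfn c).flatMap (su0 [] en)) && okw lC (su [] [] en em c) &&
        Nat.beq (MC.pw ((dfn c).flatMap (su0 [] en))) (MC.pw (su [] [] en em c)))) = true →
      (∀ c ∈ lU, ∀ n ∈ c :: su [] [] en em c, n ∈ lU) →
      (u * el 2 * u = Y.ev el [2, 6, 7] → False) →
      CY (Y.upd (Y.upd el 5 u) 14 e) θ ∧ (∀ n ∈ 12 :: 13 :: lU, Y.upd (Y.upd el 5 u) 14 e n = el n) ∧
        Y.upd (Y.upd el 5 u) 14 e 5 = u ∧ Act (Y.upd (Y.upd el 5 u) 14 e) u lU (su [] [] en em) := by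
    intro en em e h1 h2 h3 h4
    have k : ∀ n ∈ 12 :: 13 :: lU, Y.upd (Y.upd el 5 u) 14 e n = el n := fun n hn => by
      obtain ⟨a, b⟩ := (by decide : ∀ n ∈ 12 :: 13 :: lU, (n ≠ 14 ∧ n ≠ ivf iv 14) ∧ n ≠ 5 ∧ n ≠ ivf iv 5) n hn
      rw [upd_ne _ _ a, upd_ne _ _ b]
    have a := (h.act_u [] en uu hx hz hs h1 ((hw.resolve_right fun c => h4 (by simpa [mul_assoc] using c)).trans
      (ev_one el 2).symm)).congr h.gr.toGf lU _ h2
    refine ⟨(h.upd (by decide) fun _ => uu).upd (by decide) fun c => absurd c (by decide), k, rfl, fun c hc => ?_⟩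
    rw [k c (by simp [hc]), a c hc]
    exact (ev_congr fun n hn => k n (by simp [h3 c hc n (List.mem_cons_of_mem _ hn)])).symm
  rcases hn with hn | hn
  · obtain ⟨h', k, k5, a⟩ := key [] [] (el 12 * u * (el 12)⁻¹) (hn.trans (ev_one el 4).symm) (by decide +kernel)
      (by decide) fun c => by
        obtain ⟨v, hv, -⟩ := h.cube_d ((h.act_u [6, 7] [] uu hx hz hs (hn.trans (ev_one el 4).symm) c).congr
          h.gr.toGf lU (su [6, 7] [2, 4, 8, 6, 7] [] [6, 7]) (by decide +kernel)) [] (by decide) (by decide +kernel)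
          (by decide +kernel)
        exact absurd hv List.not_mem_nil
    refine (h'.case0 (by rwa [k 1 (by decide)]) (k5.symm ▸ a) ?_).elim
    rw [upd_self, k5, ev_one, k 12 (by decide), k 13 (by decide), (rule_inv h.rule).2.1]
  · have hn' : u * el 4 * u = Y.ev el [4, 6] := by simpa using hn
    obtain ⟨h', k, k5, a⟩ := key [6] [6] (el 12 * u * Y.ev el [13, 8, 2]) hn' (by decide +kernel)
      (by decide) fun c => by
        obtain ⟨v, hv, -⟩ := h.cube_d ((h.act_u [6, 7] [6] uu hx hz hs hn' c).congr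
          h.gr.toGf lU (su [6, 7] [2, 4, 8, 6, 7] [6] [7]) (by decide +kernel)) [] (by decide) (by decide +kernel)
          (by decide +kernel)
        exact absurd hv List.not_mem_nil
    refine h'.case1 (k5.symm ▸ a) ?_
    rw [upd_self, k5, k 12 (by decide), ev_congr (w := [13, 8, 2]) fun n hn => k n ((by decide :
      ∀ n ∈ [13, 8, 2], n ∈ 12 :: 13 :: lU) n hn)]

end Cfsg.Agent.CONW.Y
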