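import Cfsg.Agent.CONW.YN1
import Cfsg.Agent.CONW.Cert.ZA
import Cfsg.Agent.CONW.Cert.ZB

/-! The elements `(u r) ^ 3` and `(e s) ^ 3`. -/

set_option autoImplicit false
set_option maxRecDepth 100000

namespace Cfsg.Agent.CONW.Y

open Cfsg.Agent.H58 Cfsg.Agent.H78 Subgroup

variable {G : Type*} [Group G] {el : ℕ → G} {θ : PC →* G}

/-- the letters as words in `x, w, s, n, z` -/
def dfn (c : ℕ) : List ℕ :=
  [[], [1], [2], [10, 2, 11], [4], [], [6], [2, 10, 2, 11, 4, 10, 2, 11, 2, 10, 2, 11, 4, 10, 2, 11],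
    [10, 2, 11, 4, 10, 2, 11], [10, 2, 10, 2, 11, 4, 10, 2, 11, 2, 10, 2, 11, 4, 10, 2, 11, 11], [10],
    [11]].getD c []

def su0 (ew en : List ℕ) (c : ℕ) : List ℕ :=
  [[], [1, 6], 2 :: ew, [], 4 :: en, [], [6], [], [], [], [10], [11]].getD c []

/-- the action of `u` on the letters -/
def su (ew ev en em : List ℕ) (c : ℕ) : List ℕ :=
  [[], [1, 6], 2 :: ew, 3 :: ev, 4 :: en, [], [6], [7], 8 :: em, [9], [10], [11]].getD c []

def lU : List ℕ := [1, 2, 3, 4, 6, 7, 8, 9, 10, 11]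
def lD : List ℕ := [1, 2, 4, 8, 6, 7]
def lE : List ℕ := [1, 6, 7, 9]

/-- `g` acts on the letters `l` by the substitution `σ` -/
def Act (el : ℕ → G) (g : G) (l : List ℕ) (σ : ℕ → List ℕ) : Prop := ∀ c ∈ l, g * el c * g⁻¹ = ev el (σ c)

theorem Act.ev {g : G} {l : List ℕ} {σ : ℕ → List ℕ} (h : Act el g l σ) {w : List ℕ} (hw : ∀ n ∈ w, n ∈ l) :
    g * ev el w * g⁻¹ = ev el (w.flatMap σ) := conj_ev σ w fun n hn => h n (hw n hn)

theorem Act.mul {g k : G} {l l' : List ℕ} {σ τ : ℕ → List ℕ} (h : Act el g l σ) (h' : Act el k l' τ)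
    (hd : ∀ c ∈ l', ∀ n ∈ τ c, n ∈ l) : Act el (g * k) l' fun c => (τ c).flatMap σ := fun c hc => by
  rw [← h.ev (hd c hc), ← h' c hc]; group

theorem Gf.act {P : Type} [Group P] {M : Md P} {k : List ℕ} {Δ : Subgroup (P × G)} (h : Gf M el k Δ)
    (g l : List ℕ) (σ : ℕ → List ℕ) (hd : l.all (fun c => okw k (g ++ [c]) && okw k (σ c ++ g) &&
      Nat.beq (M.pw (g ++ [c])) (M.pw (σ c ++ g))) = true) : Act el (Y.ev el g) l σ := fun c hc => by
  have := h.eq _ _ (List.all_eq_true.1 hd c hc)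
  rw [ev_append, ev_append, ev_one] at this
  exact mul_inv_eq_iff_eq_mul.2 this

theorem Act.congr {P : Type} [Group P] {M : Md P} {k : List ℕ} {Δ : Subgroup (P × G)} (hf : Gf M el k Δ)
    {g : G} {l : List ℕ} {σ : ℕ → List ℕ} (h : Act el g l σ) (l' : List ℕ) (τ : ℕ → List ℕ)
    (hd : l'.all (fun c => l.contains c && (okw k (σ c) && okw k (τ c) &&
      Nat.beq (M.pw (σ c)) (M.pw (τ c)))) = true) : Act el g l' τ := fun c hc => by
  have := List.all_eq_true.1 hd c hc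
  rw [Bool.and_eq_true, List.contains_iff_mem] at this
  exact (h c this.1).trans (hf.eq _ _ this.2)

theorem Act.comm {g : G} {l : List ℕ} {σ : ℕ → List ℕ} (h : Act el g l σ) {c : ℕ} (hc : c ∈ l ∧ σ c = [c]) :
    g * el c = el c * g := mul_inv_eq_iff_eq_mul.1 (by rw [h c hc.1, hc.2, ev_one])

theorem CY.act_u (h : CY el θ) {u : G} (ew en : List ℕ) (uu : u * u = 1) (hx : u * el 1 * u = el 1 * el 6)
    (hz : u * el 6 * u = el 6) (hs : u * el 10 * u = el 10) (hn : u * el 4 * u = Y.ev el (4 :: en))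
    (hw : u * el 2 * u = Y.ev el (2 :: ew)) : Act el u lU fun c => (dfn c).flatMap (su0 ew en) := by
  have ui : u⁻¹ = u := inv_eq_of_mul_eq_one_right uu
  have a : Act el u [1, 2, 4, 6, 10, 11] (su0 ew en) := by
    intro c hc
    rw [ui]
    simp only [List.mem_cons, List.not_mem_nil, or_false] at hc
    rcases hc with rfl | rfl | rfl | rfl | rfl | rfl
    · exact hx.trans (by simp [su0])
    · exact hw
    · exact hn
    · exact hz.trans (ev_one el 6).symm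
    · exact hs.trans (ev_one el 10).symm
    · refine Eq.trans ?_ (ev_one el 11).symm
      rw [(rule_inv h.rule).1]
      conv_rhs => rw [← hs, mul_inv_rev, mul_inv_rev, ui, ← mul_assoc]
  intro c hc
  obtain ⟨h1, h2⟩ := (by decide +kernel : ∀ c ∈ lU, (okw lC [c] && okw lC (dfn c) &&
    Nat.beq (MC.pw [c]) (MC.pw (dfn c))) = true ∧ ∀ n ∈ dfn c, n ∈ [1, 2, 4, 6, 10, 11]) c hc
  rw [← a.ev h2, ← h.gr.eq _ _ h1, ev_one]

/-- the cube of a substitution -/
def cub (σ : ℕ → List ℕ) (c : ℕ) : List ℕ := ((σ c).flatMap σ).flatMap σ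

theorem Act.cube {g : G} {l : List ℕ} {σ : ℕ → List ℕ} (h : Act el g l σ) (hd : ∀ c ∈ l, ∀ n ∈ σ c, n ∈ l) :
    Act el (g * g * g) l (cub σ) := by
  have := h.mul (h.mul h hd) fun c hc n hn => by
    obtain ⟨m, hm, hn⟩ := List.mem_flatMap.1 hn
    exact hd m (hd c hc m hm) n hn
  rw [mul_assoc]; exact this

/-- the action of `r` -/
def sr (c : ℕ) : List ℕ := [[], [1], [2], [], [2, 4, 8], [], [7], [6, 7], [4, 6, 7]].getD c []

theorem CY.cube_d (h : CY el θ) {u : G} {σ : ℕ → List ℕ} (hu : Act el u lU σ) (sol : List (List ℕ))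
    (h1 : ∀ c ∈ lD, ∀ n ∈ (sr c).flatMap σ, n ∈ lD)
    (h2 : ∀ c ∈ [1, 6, 7], MC.pw (cub (fun c => (sr c).flatMap σ) c) = MC.pw [c])
    (h3 : ∀ w ∈ LD, (∀ c ∈ [2, 4, 8], MC.pw (w ++ [c]) = MC.pw (cub (fun c => (sr c).flatMap σ) c ++ w)) →
      MC.pw (w.flatMap fun c => (sr c).flatMap σ) = MC.pw w → ∃ v ∈ sol, okw lC v = true ∧ MC.pw w = MC.pw v) :
    ∃ v ∈ sol, u * el 12 * (u * el 12) * (u * el 12) = Y.ev el v := by
  have a := hu.mul (ev_one el 12 ▸ h.gr.toGf.act [12] lD sr (by decide +kernel)) (by decide)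
  have b := a.cube h1
  have ok : ∀ w : List ℕ, (∀ n ∈ w, n ∈ lD) → okw lC w = true := fun w hw =>
    List.all_eq_true.2 fun n hn => (by decide : ∀ n ∈ lD,
      (Nat.blt n 64 && (lC.contains n || lC.contains (ivf iv n))) = true) n (hw n hn)
  have fl : ∀ w : List ℕ, (∀ n ∈ w, n ∈ lD) → ∀ n ∈ w.flatMap fun c => (sr c).flatMap σ, n ∈ lD :=
    fun w hw n hn => by
      obtain ⟨m, hm, hn⟩ := List.mem_flatMap.1 hn
      exact h1 m (hw m hm) n hn
  have okc : ∀ c ∈ lD, okw lC (cub (fun c => (sr c).flatMap σ) c) = true := fun c hc =>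
    ok _ (fl _ (fl _ (h1 c hc)))
  have c1 : ∀ c ∈ [1, 6, 7], u * el 12 * (u * el 12) * (u * el 12) * el c =
      el c * (u * el 12 * (u * el 12) * (u * el 12)) := fun c hc => by
    have hc' := (by decide : ∀ c ∈ [1, 6, 7], c ∈ lD ∧ okw lC [c] = true) c hc
    exact mul_inv_eq_iff_eq_mul.1 ((b c hc'.1).trans
      (((h.gr.iff (okc c hc'.1) hc'.2).2 (h2 c hc)).trans (ev_one el c)))
  obtain ⟨w, hw, e⟩ := h.cenV (c1 1 (by decide)) (c1 6 (by decide)) (c1 7 (by decide))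
  have wD := (by decide : ∀ w ∈ LD, ∀ n ∈ w, n ∈ lD) w hw
  obtain ⟨v, hv, o, e2⟩ := h3 w hw (fun c hc => by
    have hc' := (by decide : ∀ c ∈ [2, 4, 8], c ∈ lD ∧ okw lC [c] = true) c hc
    refine (h.gr.iff (okw_app (ok w wD) hc'.2) (okw_app (okc c hc'.1) (ok w wD))).1 ?_
    rw [ev_append, ev_append, ev_one, ← e]
    exact mul_inv_eq_iff_eq_mul.1 (b c hc'.1)) ((h.gr.iff (ok _ (fl w wD)) (ok w wD)).1 (by
      rw [← a.ev wD, ← e]; group))
  exact ⟨v, hv, e.trans ((h.gr.iff (ok w wD) o).2 e2)⟩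

/-- the action of `e` and of `e s` on `x, z, t, a` -/
def se (c : ℕ) : List ℕ := [[], [1, 7], [], [], [], [], [6], [7], [], [9]].getD c []
def ses (c : ℕ) : List ℕ := [[], [1, 7], [], [], [], [], [6], [9], [], [7, 9]].getD c []

theorem CY.act_e (h : CY el θ) {u : G} {σ : ℕ → List ℕ} (hu : Act el u lU σ) (β l : List ℕ) (ρ τ : ℕ → List ℕ)
    (h1 : l.all (fun c => okw lC ((13 :: β) ++ [c]) && okw lC (ρ c ++ (13 :: β)) &&
      Nat.beq (MC.pw ((13 :: β) ++ [c])) (MC.pw (ρ c ++ (13 :: β)))) = true)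
    (h2 : ∀ c ∈ l, ∀ n ∈ ρ c, n ∈ lU)
    (h3 : l.all (fun c => okw lC (12 :: (ρ c).flatMap σ) && okw lC (τ c ++ [12]) &&
      Nat.beq (MC.pw (12 :: (ρ c).flatMap σ)) (MC.pw (τ c ++ [12]))) = true) :
    Act el (el 12 * u * Y.ev el (13 :: β)) l τ := fun c hc => by
  have a := hu.mul (h.gr.toGf.act (13 :: β) l ρ h1) h2 c hc
  have b := h.gr.eq _ _ (List.all_eq_true.1 h3 c hc)
  rw [ev_append, ev_cons, ev_one, ← a] at b
  rw [← mul_inv_eq_iff_eq_mul.2 b]; group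

theorem CY.eta (h : CY el θ) {e : G} (he : Act el e lE se) : Act el (e * el 10) lE ses ∧
    ∃ w ∈ LE, e * el 10 * (e * el 10) * (e * el 10) = Y.ev el w ∧ MC.pw (w.flatMap ses) = MC.pw w := by
  have a : Act el (e * el 10) lE ses := (he.mul (ev_one el 10 ▸ h.gr.toGf.act [10] lE
    (fun c => [[], [1], [], [], [], [], [6], [9], [], [7, 9]].getD c []) (by decide +kernel))
    (by decide)).congr h.gr.toGf lE ses (by decide +kernel)
  have b := (a.cube (by decide)).congr h.gr.toGf lE (fun c => [c]) (by decide +kernel)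
  obtain ⟨w, hw, e1⟩ := h.cenA (b.comm (c := 1) (by decide)) (b.comm (c := 6) (by decide))
    (b.comm (c := 7) (by decide)) (b.comm (c := 9) (by decide))
  obtain ⟨o1, o2⟩ := (by decide : ∀ w ∈ LE, (∀ n ∈ w, n ∈ lE) ∧ okw lC (w.flatMap ses) = true) w hw
  exact ⟨a, w, hw, e1, (h.gr.iff o2 (ok_LE w hw)).1 (by rw [← a.ev o1, ← e1]; group)⟩

/-- relators from the action of an involution -/
theorem Act.rel {l : List ℕ} {σ : ℕ → List ℕ} (R : RuleOK el [] iv) (h : Act el (el 5) l σ) {c : ℕ} (hc : c ∈ l)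
    (hl : ∀ n ∈ σ c, n < 64) : Y.ev el ([5, c, 5] ++ invw iv (σ c)) = 1 := by
  have := h c hc
  rw [inv_eq_of_mul_eq_one_right (rule_sq R (n := 5) (by decide))] at this
  rw [ev_append, show Y.ev el (invw iv (σ c)) = (Y.ev el (σ c))⁻¹ from prod_invw R.hinv _ hl, mul_inv_eq_one]
  simpa [mul_assoc] using this

/-- the two configurations which do not occur -/
theorem CY.bad (h : CY el θ) {σ : ℕ → List ℕ} (hu : Act el (el 5) lU σ) (hx : σ 1 = [1, 6]) {w : List ℕ}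
    (hw : w ∈ LE) (he : el 14 * el 10 * (el 14 * el 10) * (el 14 * el 10) = Y.ev el w) {L rels : List (List ℕ)}
    (hL : ∀ v ∈ L, Y.ev el v = 1) (hL' : ∀ v ∈ L, ∀ n ∈ v, n ≠ 24 ∧ n ≠ ivf iv 24)
    (hd : (allLt rels && rels.all fun v => L.contains v || ([[14, 10, 14, 10, 14, 10, 24], [24, 1, 24, 1],
      [24, 6, 24, 6], [24, 7, 24, 7], [24, 9, 24, 9], [2, 24, 2, 24, 10, 2, 24, 2, 24, 11]].contains v ||
        MC.chk lC v)) = true)
    (hg : ∀ el' : ℕ → G, RuleOK el' rels iv → ∀ H : Subgroup G, (∀ n ∈ 24 :: 8 :: lC, el' n ∈ H) → el' 5 ∈ H) :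
    False := by
  have sq : Y.ev el w * Y.ev el w = 1 := by
    rw [← ev_append]
    exact h.gr.chk _ ((by decide +kernel : ∀ w ∈ LE, MC.chk lC (w ++ w) = true) w hw)
  have h' := h.upd (i := 24) (by decide) (g := Y.ev el w) fun _ => sq
  have k : ∀ n, n ≠ 24 → Y.upd el 24 (Y.ev el w) n = el n := fun n hn => upd_ne el _ ⟨hn, hn⟩
  have := hg _ (rule_or h'.rule (or_chk (mem_chk fun v hv => (ev_upd el 24 _ (hL' v hv)).trans (hL v hv))
    (or_chk (mem_chk fun v hv => ?_) h'.gr.chk)) hd) (centralizer {el 1}) fun n hn => ?_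
  · rw [k 5 (by decide), mem_centralizer_singleton_iff] at this
    have e := hu 1 (by decide)
    rw [this, mul_inv_cancel_right, hx, ← ev_one el 1] at e
    exact h.gr.ne [1] [1, 6] (by decide +kernel) e
  · rcases List.mem_cons.1 hv with rfl | hv
    · simp only [ev_cons, ev_nil, k 14 (by decide), k 10 (by decide), upd_self, mul_one]
      rw [← sq, ← he]; simp only [mul_assoc]
    · rw [ev_flat el _ (fun n => if n = 24 then w else [n]) v fun n _ => by
        split_ifs with c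
        · rw [c, upd_self]
        · rw [k n c, ev_one]]
      exact h.gr.chk _ ((by decide +kernel : ∀ w ∈ LE, ∀ v ∈ [[24, 1, 24, 1],
        [24, 6, 24, 6], [24, 7, 24, 7], [24, 9, 24, 9], [2, 24, 2, 24, 10, 2, 24, 2, 24, 11]],
          MC.chk lC (v.flatMap fun n => if n = 24 then w else [n]) = true) w hw v hv)
  · rw [mem_centralizer_singleton_iff]
    rcases List.mem_cons.1 hn with rfl | hn
    · rw [upd_self]; exact h.comm (ok_LE w hw)
    · obtain ⟨a, b⟩ := (by decide : ∀ n ∈ 8 :: lC, n ≠ 24 ∧ okw lC [n] = true) n hn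
      rw [k n a, ← ev_one el n]; exact h.comm b

end Cfsg.Agent.CONW.Y
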