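import Cfsg.Agent.H42.SylIn
import Cfsg.Agent.S0111

/-! The wreathed configuration for an involution centraliser `2 × M12` (notes/CONW.md, part 3). -/

set_option autoImplicit false

namespace Cfsg.Agent.CONW.Y

open Subgroup

variable {G : Type*} [Group G]

/-- the four-group generated by `z` and `t` -/
def InV (z t c : G) : Prop := c = 1 ∨ c = z ∨ c = t ∨ c = z * t

/-- elementary abelian subgroups of order 16 of `C(x)` contain the 2-elements which centralise them -/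
def Rk2 (x : G) : Prop := ∀ E : Subgroup G, (∀ g ∈ E, g * g = 1) → 16 ≤ Nat.card E →
  (∀ g ∈ E, g * x = x * g) → ∀ (c : G) (k : ℕ), c ^ 2 ^ k = 1 → c * x = x * c →
  (∀ g ∈ E, c * g = g * c) → c ∈ E

/-- the local data in the wreathed case -/
structure EH (x z t u e a f v s r : G) (D : Subgroup G) : Prop where
  xx : x * x = 1
  zz : z * z = 1
  tt : t * t = 1
  uu : u * u = 1
  ee : e * e = 1
  aa : a * a = 1
  ff : f * f = 1
  vv : v * v = 1
  r3 : r * r * r = 1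
  z1 : z ≠ 1
  t1 : t ≠ 1
  zt1 : z ≠ t
  zt : z * t = t * z
  xz : x * z = z * x
  xt : x * t = t * x
  uz : u * z = z * u
  ut : u * t = t * u
  ez : e * z = z * e
  et : e * t = t * e
  ue : u * e = e * u
  ux : u * x * u = x * z
  ex : e * x * e = x * t
  gen : D = closure {a, r * a * r⁻¹, r⁻¹ * a * r}
  zD : z ∈ D
  tD : t ∈ D
  aV : ¬ InV z t a
  Dx : ∀ d ∈ D, d * x = x * d
  Dz : ∀ d ∈ D, d * z = z * d
  Dt : ∀ d ∈ D, d * t = t * d
  Du : ∀ d ∈ D, d * u = u * d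
  De : ∀ d ∈ D, d * e = e * d
  Dsq : ∀ d ∈ D, InV z t (d * d)
  DZ : ∀ d ∈ D, (∀ c ∈ D, d * c = c * d) → InV z t d
  card : 32 ≤ Nat.card D
  cen : ∀ g : G, g * x = x * g → g * z = z * g → g * t = t * g → g ∈ D ∨ x * g ∈ D
  fz : f * z = z * f
  ft : f * t = t * f
  fu : f * u = u * f
  fe : f * e = e * f
  fa : f * a = a * f
  fx : f * x * f = x * a
  fD : ∀ d ∈ D, f * d * f * d⁻¹ ∈ closure {z, t, u, e}
  rx : r * x = x * r
  rz : r * z * r⁻¹ = t
  rt : r * t * r⁻¹ = z * t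
  ru : r * u * r⁻¹ = e
  re : r * e * r⁻¹ = u * e
  vx : v * x = x * v
  vz : v * z = z * v
  vu : v * u = u * v
  va : v * a = a * v
  vf : v * f = f * v
  vt : v * t * v = z * t
  ve : v * e * v = u * e
  vr : v * r * v = r⁻¹
  sx : s * x = x * s
  sz : s * z = z * s
  su : s * u = u * s
  st : s * t * s⁻¹ = a
  sa : s * a * s⁻¹ = t * a
  se : s * e * s⁻¹ = f
  sf : s * f * s⁻¹ = f * e ∨ s * f * s⁻¹ = f * e * z
  sv : s * (a * (r * a * r⁻¹) * (r⁻¹ * a * r)) * s⁻¹ = v * a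
  syl : ∀ Q : Subgroup G, IsPGroup 2 Q → x ∈ Q → v ∈ Q → D ≤ Q → (∀ g ∈ Q, g * x = x * g) →
    ∀ g ∈ Q, g ∈ D ∨ x * g ∈ D ∨ v * g ∈ D ∨ x * v * g ∈ D
  rk : Rk2 x

end Cfsg.Agent.CONW.Y
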