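import Cfsg.Agent.CONW.C3Defs
import Cfsg.Agent.CONW.YEH
import Cfsg.Agent.H14.Mathieu

/-!
Recognition of `Co3` from the centraliser `2 × M12`: letters, models, graphs (notes/CONW.md, part 3).
Letters: 1 x, 2 w, 3 v, 4 n, 5 u, 6 z, 7 t, 8 m, 9 a, 10 s, 11 s⁻¹, 12 r, 13 r⁻¹, 14 e, 15 e⁻¹, 16 f, 17 f⁻¹,
18 p, 19 p⁻¹, 20 q, 21 q⁻¹, 22 b, 23 b⁻¹, 24 y.
-/

set_option autoImplicit false
set_option maxRecDepth 100000

namespace Cfsg.Agent.CONW.Y

open Cfsg.Agent.H14 Cfsg.Agent.H58 Cfsg.Agent.H78 Subgroup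

/-- the inverse letters -/
def iv : ℕ := 543010719543472999108052023289082578152988736

/-- the value of a word -/
def ev {G : Type*} [Group G] (el : ℕ → G) (w : List ℕ) : G := (w.map el).prod

/-- the subgroup generated by some letters -/
def gen {G : Type*} [Group G] (el : ℕ → G) (l : List ℕ) : Subgroup G := closure (el '' {x | x ∈ l})

/-- all letters of `w` are in `l` up to inverses -/
def okw (l w : List ℕ) : Bool := w.all fun n => Nat.blt n 64 && (l.contains n || l.contains (ivf iv n))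

/-- all products of sublists -/
def subw : List (List ℕ) → List (List ℕ)
  | [] => [[]]
  | w :: l => subw l ++ (subw l).map (w ++ ·)

/-- a group with letters in which equations between words are decided -/
structure Md (P : Type) [Group P] where
  p : ℕ → P
  pw : List ℕ → ℕ
  eq : ∀ v w, ev p v = ev p w ↔ pw v = pw w
  rule : RuleOK p [] iv

section
variable {G : Type*} [Group G]

@[simp] theorem ev_nil (el : ℕ → G) : ev el [] = 1 := rfl
@[simp] theorem ev_cons (el : ℕ → G) (n : ℕ) (w : List ℕ) : ev el (n :: w) = el n * ev el w := rfl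
theorem ev_append (el : ℕ → G) (v w : List ℕ) : ev el (v ++ w) = ev el v * ev el w := by
  simp [ev]

theorem ev_one (el : ℕ → G) (n : ℕ) : ev el [n] = el n := mul_one _

theorem ev_flat (el el' : ℕ → G) (σ : ℕ → List ℕ) (w : List ℕ) (h : ∀ n ∈ w, el' n = ev el (σ n)) :
    ev el' w = ev el (w.flatMap σ) := by
  induction w with
  | nil => rfl
  | cons n w ih =>
    rw [List.flatMap_cons, ev_append, ev_cons, h n List.mem_cons_self,
      ih fun m hm => h m (List.mem_cons_of_mem _ hm)]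

theorem ev_congr {el el' : ℕ → G} {w : List ℕ} (h : ∀ n ∈ w, el' n = el n) : ev el' w = ev el w :=
  congrArg List.prod (List.map_congr_left h)

theorem map_ev {H : Type*} [Group H] (φ : H →* G) (el : ℕ → H) (w : List ℕ) :
    φ (ev el w) = ev (fun n => φ (el n)) w := by
  rw [ev, map_list_prod, List.map_map]; rfl

/-- conjugation acts on words by substitution -/
theorem conj_ev {el : ℕ → G} {g : G} (σ : ℕ → List ℕ) (w : List ℕ)
    (h : ∀ n ∈ w, g * el n * g⁻¹ = ev el (σ n)) : g * ev el w * g⁻¹ = ev el (w.flatMap σ) :=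
  (map_ev (MulAut.conj g).toMonoidHom el w).trans (ev_flat el _ σ w h)

theorem el_mem_gen (el : ℕ → G) {l : List ℕ} {n : ℕ} (h : n ∈ l) : el n ∈ gen el l :=
  subset_closure ⟨n, h, rfl⟩

theorem gen_le {el : ℕ → G} {l : List ℕ} {X : Subgroup G} (h : ∀ n ∈ l, el n ∈ X) : gen el l ≤ X := by
  rw [gen, closure_le]
  rintro _ ⟨n, hn, rfl⟩
  exact h n hn

theorem map_gen {H : Type*} [Group H] (φ : H →* G) (el : ℕ → H) (l : List ℕ) :
    (gen el l).map φ = gen (fun n => φ (el n)) l := by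
  rw [gen, MonoidHom.map_closure, Set.image_image]; rfl

theorem gen_congr {el el' : ℕ → G} {l : List ℕ} (h : ∀ n ∈ l, el' n = el n) : gen el' l = gen el l :=
  congrArg Subgroup.closure (Set.image_congr h)

theorem ev_mem {el : ℕ → G} {rels : List (List ℕ)} (R : RuleOK el rels iv) {X : Subgroup G} {l : List ℕ}
    (hX : ∀ n ∈ l, el n ∈ X) {w : List ℕ} (h : okw l w = true) : ev el w ∈ X := by
  refine X.list_prod_mem fun x hx => ?_
  obtain ⟨n, hn, rfl⟩ := List.mem_map.1 hx
  have := List.all_eq_true.1 h n hn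
  simp only [Bool.and_eq_true, Bool.or_eq_true, Nat.blt_eq, List.contains_iff_mem] at this
  rcases this.2 with h1 | h1
  · exact hX n h1
  · rw [← X.inv_mem_iff, ← R.hinv n this.1]; exact hX _ h1

theorem subw_mem {el : ℕ → G} {X : Subgroup G} {L : List (List ℕ)} (h : ∀ w ∈ L, ev el w ∈ X) :
    ∀ w ∈ subw L, ev el w ∈ X := by
  induction L with
  | nil => intro w hw; rw [List.mem_singleton.1 hw]; exact X.one_mem
  | cons v L ih =>
    intro w hw
    have ih' := ih fun w hw => h w (List.mem_cons_of_mem _ hw)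
    rcases List.mem_append.1 hw with hw | hw
    · exact ih' w hw
    · obtain ⟨u, hu, rfl⟩ := List.mem_map.1 hw
      rw [ev_append]; exact X.mul_mem (h v List.mem_cons_self) (ih' u hu)

/-- the inverse letters -/
theorem rule_inv {el : ℕ → G} {rels : List (List ℕ)} (R : RuleOK el rels iv) :
    el 11 = (el 10)⁻¹ ∧ el 13 = (el 12)⁻¹ ∧ el 15 = (el 14)⁻¹ ∧ el 17 = (el 16)⁻¹ ∧ el 19 = (el 18)⁻¹ ∧
      el 21 = (el 20)⁻¹ ∧ el 23 = (el 22)⁻¹ :=
  ⟨R.hinv 10 (by decide), R.hinv 12 (by decide), R.hinv 14 (by decide), R.hinv 16 (by decide),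
    R.hinv 18 (by decide), R.hinv 20 (by decide), R.hinv 22 (by decide)⟩

theorem rule_sq {el : ℕ → G} {rels : List (List ℕ)} (R : RuleOK el rels iv) {n : ℕ} (h : n ≤ 9) :
    el n * el n = 1 := by
  have := R.hinv n (by omega)
  rw [(by decide +kernel : ∀ n ≤ 9, ivf iv n = n) n h] at this
  nth_rewrite 1 [this]; exact inv_mul_cancel _

theorem rule_nil {el : ℕ → G} {rels : List (List ℕ)} (R : RuleOK el rels iv) : RuleOK el [] iv :=
  ⟨R.h0, R.hinv, fun _ h => absurd h List.not_mem_nil, rfl⟩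

theorem rule_of {el : ℕ → G} (R : RuleOK el [] iv) {rels : List (List ℕ)} (h : ∀ w ∈ rels, ev el w = 1)
    (hl : allLt rels = true) : RuleOK el rels iv := ⟨R.h0, R.hinv, h, hl⟩

/-- a new value for the letter `i` -/
def upd (el : ℕ → G) (i : ℕ) (g : G) (n : ℕ) : G :=
  if n = i then g else if n = ivf iv i then g⁻¹ else el n

theorem upd_self (el : ℕ → G) (i : ℕ) (g : G) : upd el i g i = g := if_pos rfl

theorem upd_ne (el : ℕ → G) {i n : ℕ} (g : G) (h : n ≠ i ∧ n ≠ ivf iv i) : upd el i g n = el n := by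
  rw [upd, if_neg h.1, if_neg h.2]

theorem ev_upd (el : ℕ → G) (i : ℕ) (g : G) {w : List ℕ} (h : ∀ n ∈ w, n ≠ i ∧ n ≠ ivf iv i) :
    ev (upd el i g) w = ev el w := ev_congr fun n hn => upd_ne el g (h n hn)

theorem rule_upd {el : ℕ → G} (R : RuleOK el [] iv) {i : ℕ} (hi : 1 ≤ i ∧ i ≤ 24) {g : G}
    (hg : ivf iv i = i → g * g = 1) : RuleOK (upd el i g) [] iv := by
  have key : ∀ i ≤ 24, 1 ≤ i → ivf iv i ≠ 0 ∧ ∀ x < 64, (ivf iv x = i ↔ x = ivf iv i) ∧
      (ivf iv x = ivf iv i ↔ x = i) := by decide +kernel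
  obtain ⟨k0, k⟩ := key i hi.2 hi.1
  refine ⟨(upd_ne el g ⟨by omega, k0.symm⟩).trans R.h0, fun x hx => ?_, fun _ h => absurd h List.not_mem_nil, rfl⟩
  obtain ⟨k1, k2⟩ := k x hx
  by_cases c1 : x = i
  · subst c1
    rw [upd_self, upd]
    split_ifs with c2 c3
    · exact eq_inv_of_mul_eq_one_left (hg c2)
    · rfl
    · exact absurd rfl c3
  · by_cases c2 : x = ivf iv i
    · rw [k1.2 c2, upd_self, upd, if_neg c1, if_pos c2, inv_inv]
    · rw [upd_ne el g ⟨c1, c2⟩, upd_ne el g ⟨mt k1.1 c2, mt k2.1 c1⟩, R.hinv x hx]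

theorem eq_one_of_card {A B : Type*} [Group A] [Group B] {D : Subgroup A} (f : A →* B) {n : ℕ}
    (hD : Finite D ∧ Nat.card D ≤ n) (h : n ≤ Nat.card (D.map f)) {d : A} (hd : d ∈ D) (e : f d = 1) :
    d = 1 := by
  have := hD.1
  have hs := f.subgroupMap_surjective D
  have hb := (Nat.bijective_iff_surjective_and_card _).2 ⟨hs, le_antisymm (hD.2.trans h)
    (Nat.card_le_card_of_surjective _ hs)⟩
  exact congrArg Subtype.val (hb.1 (a₁ := ⟨d, hd⟩) (a₂ := 1) (Subtype.ext (e.trans (map_one f).symm)))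

/-- a lower bound for the order from conjugates of `o` -/
theorem card_step {X H : Subgroup G} [Finite X] (hHX : H ≤ X) (o : G) (hH : ∀ h ∈ H, h * o = o * h)
    (L : List G) (hL : ∀ g ∈ L, g ∈ X) (hn : (L.map fun g => g * o * g⁻¹).Nodup) :
    L.length * Nat.card H ≤ Nat.card X := by
  have key : Function.Injective fun a : Fin L.length × H =>
      (⟨L[a.1] * a.2, X.mul_mem (hL _ (List.getElem_mem _)) (hHX a.2.2)⟩ : X) := by
    rintro ⟨i, h⟩ ⟨j, k⟩ e
    have e1 : L[i] * (h : G) = L[j] * k := congrArg Subtype.val e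
    have c : ∀ (g : G) (h : H), g * h * o * (g * h)⁻¹ = g * o * g⁻¹ := fun g h => by
      rw [mul_assoc g, hH h h.2]; group
    have e2 : i = j := Fin.ext ((List.Nodup.getElem_inj_iff hn (i := i) (j := j) (hi := by simp)
      (hj := by simp)).1 (by
        simp only [List.getElem_map]
        exact (c _ h).symm.trans ((congrArg (fun g => g * o * g⁻¹) e1).trans (c _ k))))
    subst e2
    exact Prod.ext rfl (Subtype.ext (mul_left_cancel e1))
  simpa using Nat.card_le_card_of_injective _ key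

variable {P : Type} [Group P] {M : Md P} {el : ℕ → G} {l : List ℕ} {Δ : Subgroup (P × G)}

/-- pairs of letters -/
abbrev pr (M : Md P) (el : ℕ → G) : ℕ → P × G := fun i => (M.p i, el i)

theorem ev_pr (M : Md P) (el : ℕ → G) (w : List ℕ) : ev (pr M el) w = (ev M.p w, ev el w) := by
  induction w with
  | nil => rfl
  | cons n w ih => rw [ev_cons, ih]; rfl

theorem Md.beq (M : Md P) (v w : List ℕ) (h : Nat.beq (M.pw v) (M.pw w) = true) : ev M.p v = ev M.p w :=
  (M.eq v w).2 (Nat.eq_of_beq_eq_true h)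

theorem rule_pr (M : Md P) {rels : List (List ℕ)} (R : RuleOK el rels iv)
    (h : rels.all (fun w => Nat.beq (M.pw w) (M.pw [])) = true) : RuleOK (pr M el) rels iv :=
  ruleOK_prod ⟨M.rule.h0, M.rule.hinv, fun w hw => M.beq w [] (List.all_eq_true.1 h w hw), R.hlt⟩ R

/-- `Δ` is the graph of a homomorphism, defined on the letters `l` -/
structure Gf (M : Md P) (el : ℕ → G) (l : List ℕ) (Δ : Subgroup (P × G)) : Prop where
  rule : RuleOK el [] iv
  mem : ∀ n ∈ l, pr M el n ∈ Δ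
  fn : ∀ g, ((1 : P), g) ∈ Δ → g = 1

/-- `Δ` is the graph of an injective homomorphism, defined on the letters `l` -/
structure Gr (M : Md P) (el : ℕ → G) (l : List ℕ) (Δ : Subgroup (P × G)) : Prop extends Gf M el l Δ where
  inj : ∀ x, (x, (1 : G)) ∈ Δ → x = 1

theorem Gf.pair (h : Gf M el l Δ) {w : List ℕ} (hw : okw l w = true) : (ev M.p w, ev el w) ∈ Δ :=
  ev_pr M el w ▸ ev_mem (rule_pr M h.rule rfl) h.mem hw

theorem Gf.eq_of (h : Gf M el l Δ) {x : P} {g k : G} (h1 : (x, g) ∈ Δ) (h2 : (x, k) ∈ Δ) : g = k := by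
  have h3 : (x * x⁻¹, g * k⁻¹) ∈ Δ := Δ.mul_mem h1 (Δ.inv_mem h2)
  rw [mul_inv_cancel] at h3
  exact mul_inv_eq_one.1 (h.fn _ h3)

/-- equations between words are decided in the model: `h.eq [1, 7] [7, 1] (by decide +kernel)` -/
theorem Gf.eq (h : Gf M el l Δ) (v w : List ℕ)
    (hd : (okw l v && okw l w && Nat.beq (M.pw v) (M.pw w)) = true) : ev el v = ev el w := by
  simp only [Bool.and_eq_true] at hd
  exact h.eq_of (h.pair hd.1.1) (M.beq v w hd.2 ▸ h.pair hd.1.2)

theorem Gf.rels (h : Gf M el l Δ) (L : List (List ℕ))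
    (hd : L.all (fun w => okw l w && okw l [] && Nat.beq (M.pw w) (M.pw [])) = true) :
    ∀ w ∈ L, ev el w = 1 := fun w hw => h.eq w [] (List.all_eq_true.1 hd w hw)

theorem Gr.eq_iff (h : Gr M el l Δ) {x y : P} {g k : G} (h1 : (x, g) ∈ Δ) (h2 : (y, k) ∈ Δ) :
    g = k ↔ x = y := by
  refine ⟨fun e => mul_inv_eq_one.1 (h.inj _ ?_), fun e => h.eq_of h1 (e ▸ h2)⟩
  have h3 : (x * y⁻¹, g * k⁻¹) ∈ Δ := Δ.mul_mem h1 (Δ.inv_mem h2)
  rwa [e, mul_inv_cancel] at h3

theorem Gr.iff (h : Gr M el l Δ) {v w : List ℕ} (hv : okw l v = true) (hw : okw l w = true) :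
    ev el v = ev el w ↔ M.pw v = M.pw w :=
  (h.eq_iff (h.pair hv) (h.pair hw)).trans (M.eq v w)

theorem Gr.ne (h : Gr M el l Δ) (v w : List ℕ)
    (hd : (okw l v && okw l w && !Nat.beq (M.pw v) (M.pw w)) = true) : ev el v ≠ ev el w := by
  simp only [Bool.and_eq_true, Bool.not_eq_true'] at hd
  intro e
  have := hd.2
  rw [(h.iff hd.1.1 hd.1.2).1 e, Nat.beq_refl] at this
  exact absurd this (by decide)

theorem Gr.nodup (h : Gr M el l Δ) (L : List (List ℕ))
    (hL : (L.all (okw l) && decide (L.map M.pw).Nodup) = true) : (L.map (ev el)).Nodup := by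
  simp only [Bool.and_eq_true, List.all_eq_true, decide_eq_true_eq] at hL
  exact (List.nodup_map_iff_inj_on (List.Nodup.of_map _ hL.2)).2
    fun v hv w hw e => List.inj_on_of_nodup_map hL.2 hv hw ((h.iff (hL.1 v hv) (hL.1 w hw)).1 e)

theorem length_le_card [Finite G] {X : Subgroup G} {L : List G} (hn : L.Nodup) (hX : ∀ g ∈ L, g ∈ X) :
    L.length ≤ Nat.card X := by
  classical
  rw [← List.toFinset_card_of_nodup hn, ← Set.ncard_coe_finset]
  exact Set.ncard_le_ncard (t := (X : Set G)) (fun y hy => hX y (List.mem_toFinset.1 hy))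

theorem mem_of_card [Finite G] {X : Subgroup G} {L : List G} (hn : L.Nodup) (hX : ∀ g ∈ L, g ∈ X)
    (hc : Nat.card X ≤ L.length) {x : G} (hx : x ∈ X) : x ∈ L := by
  classical
  have he := Set.eq_of_subset_of_ncard_le (s := (L.toFinset : Set G)) (t := (X : Set G))
    (fun y hy => hX y (List.mem_toFinset.1 hy)) (by
      rw [Set.ncard_coe_finset, List.toFinset_card_of_nodup hn]; exact hc)
  exact List.mem_toFinset.1 (he.ge hx)

theorem gf_of_card (R : RuleOK el [] iv) {n : ℕ}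
    (hD : Finite (gen (pr M el) l) ∧ Nat.card (gen (pr M el) l) ≤ n) (h1 : n ≤ Nat.card (gen M.p l)) :
    Gf M el l (gen (pr M el) l) :=
  ⟨R, fun _ h => el_mem_gen _ h, fun _ hg => congrArg Prod.snd
    (eq_one_of_card (MonoidHom.fst P G) hD ((map_gen (MonoidHom.fst P G) _ l).symm ▸ h1) hg rfl)⟩

theorem gr_of_card (R : RuleOK el [] iv) {n : ℕ}
    (hD : Finite (gen (pr M el) l) ∧ Nat.card (gen (pr M el) l) ≤ n) (h1 : n ≤ Nat.card (gen M.p l))
    (h2 : n ≤ Nat.card (gen el l)) : Gr M el l (gen (pr M el) l) :=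
  ⟨gf_of_card R hD h1, fun _ hg => congrArg Prod.fst
    (eq_one_of_card (MonoidHom.snd P G) hD ((map_gen (MonoidHom.snd P G) _ l).symm ▸ h2) hg rfl)⟩

/-- the graph generated by some words -/
def grw (M : Md P) (el : ℕ → G) (L : List (List ℕ)) : Subgroup (P × G) :=
  closure (ev (pr M el) '' {w | w ∈ L})

theorem mem_grw {L : List (List ℕ)} {w : List ℕ} (h : w ∈ subw L) : (ev M.p w, ev el w) ∈ grw M el L :=
  ev_pr M el w ▸ subw_mem (X := grw M el L) (fun w hw => Subgroup.subset_closure ⟨w, hw, rfl⟩) w h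

theorem Gf.grw_le (h : Gf M el l Δ) {L : List (List ℕ)} (hL : L.all (okw l) = true) : grw M el L ≤ Δ := by
  rw [grw, closure_le]
  rintro _ ⟨w, hw, rfl⟩
  exact ev_pr M el w ▸ h.pair (List.all_eq_true.1 hL w hw)

theorem nz_of [Finite P] [Finite G] {L : List (List ℕ)} {g : P × G}
    (h : ∀ w ∈ L, g * (ev M.p w, ev el w) * g⁻¹ ∈ grw M el L) :
    g ∈ normalizer (grw M el L : Set (P × G)) := by
  refine mem_normalizer_fintype fun x hx => ?_
  have : grw M el L ≤ (grw M el L).comap (MulAut.conj g).toMonoidHom := by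
    rw [grw, closure_le]
    rintro _ ⟨w, hw, rfl⟩
    exact ev_pr M el w ▸ h w hw
  exact this hx

/-- the word `g` normalises the graph generated by `L`; `I` lists the images -/
theorem Gf.nz [Finite P] [Finite G] (h : Gf M el l Δ) (L I : List (List ℕ)) (g : List ℕ)
    (hd : L.all (fun w => I.any fun v => (subw L).contains v && (okw l (g ++ w) && okw l (v ++ g) &&
      Nat.beq (M.pw (g ++ w)) (M.pw (v ++ g)))) = true) :
    (ev M.p g, ev el g) ∈ normalizer (grw M el L : Set (P × G)) := by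
  refine nz_of fun w hw => ?_
  obtain ⟨v, -, hv⟩ := List.any_eq_true.1 (List.all_eq_true.1 hd w hw)
  rw [Bool.and_eq_true, List.contains_iff_mem] at hv
  have e1 := h.eq _ _ hv.2
  have e2 := M.beq _ _ (Bool.and_eq_true _ _ ▸ hv.2).2
  rw [ev_append, ev_append] at e1 e2
  have : (ev M.p g, ev el g) * (ev M.p w, ev el w) * (ev M.p g, ev el g)⁻¹ = (ev M.p v, ev el v) :=
    mul_inv_eq_iff_eq_mul.2 (Prod.ext e2 e1)
  exact this ▸ mem_grw hv.1

theorem Gf.cent (h : Gf M el l Δ) {D : Subgroup (P × G)} (hD : D ≤ Δ) {g : G}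
    (hg : ((1 : P), g) ∈ normalizer (D : Set (P × G))) {x : P} {y : G} (hx : (x, y) ∈ D) :
    g * y = y * g := by
  have := hD ((mem_normalizer_iff.1 hg _).1 hx)
  exact mul_inv_eq_iff_eq_mul.1 (h.eq_of (by simpa using this) (hD hx))

end

/-! ### The model of the centraliser -/

/-- the letters of `M12` as packed permutations of the 24 points -/
def LC : List ℕ := [nat_lit 0xbdab49ca307b9ac5a928398a418820,
  nat_lit 0xbdab49ca307b9ac5a928398a418820,
  nat_lit 0xa457739ac12a868ab80c9c9e269209,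
  nat_lit 0x3b9f3a3548ada412c450b8d6032584,
  nat_lit 0xa1eb79a6307a88c2ba41b196d10d00,
  nat_lit 0xbdab49ca307b9ac5a928398a418820,
  nat_lit 0x71eaa8a6707dc4c5d248b00a323426,
  nat_lit 0x759ea9ca2cadc502d1213996323500,
  nat_lit 0x746b4382cc7dc502a8c89a5641b432,
  nat_lit 0xbd8aa8a6615b8487d24c39aa41b600,
  nat_lit 0xa5973b8dd07aa412c48c39aa26a500,
  nat_lit 0x9d8b7a35507c468ab8413996991180,
  nat_lit 0x7dce551280b56069ac7270a280b12d,
  nat_lit 0xb3dd15a0adb9c0254c24ab29249870]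

theorem valid_LC : allL LC (valid (nat_lit 5) (nat_lit 32) (nat_lit 24)) = true := by decide +kernel

theorem inG_LC : ∀ P ∈ LC, GE.InG Spor.M12 P := by
  have : ∀ P ∈ LC, valid (nat_lit 5) (nat_lit 32) (nat_lit 24) P = true ∧ inM24 P = true ∧
    img (nat_lit 5) (nat_lit 32) (nat_lit 24) P 340831 = 340831 := by decide +kernel
  intro P hP
  rw [M12_eq]
  exact inG_setStab (inG_M24 (this P hP).1 (this P hP).2.1) (this P hP).2.2

/-- the group `2 × M12` -/
abbrev PC : Type := Multiplicative (ZMod 2) × Spor.M12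

/-- the letters in `2 × M12` -/
noncomputable def pC (n : ℕ) : PC :=
  (if n = 1 then Multiplicative.ofAdd 1 else 1, ⟨elP GE LC n, (Enc.inG_nthD inG_LC n).perm_mem⟩)

/-- the packed value of a word in `2 × M12` -/
noncomputable def pwC (w : List ℕ) : ℕ :=
  Nat.add (Nat.mul 2 (prodP (nat_lit 5) (nat_lit 32) (nat_lit 24) LC w)) (Nat.mod (w.count 1) 2)

theorem ev_pC_fst (w : List ℕ) : (ev pC w).1 = Multiplicative.ofAdd ((w.count 1 : ℕ) : ZMod 2) := by
  induction w with
  | nil => rfl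
  | cons n w ih =>
    rw [ev_cons, Prod.fst_mul, ih, List.count_cons]
    by_cases c : n = 1 <;> simp [pC, c, ← ofAdd_add, add_comm]

theorem ev_pC_snd (w : List ℕ) :
    GE.pk ((ev pC w).2 : Equiv.Perm GolayPt) = prodP (nat_lit 5) (nat_lit 32) (nat_lit 24) LC w := by
  rw [← pk_prod_elP GE valid_LC]
  exact congrArg GE.pk (map_ev (Spor.M12.subtype.comp (MonoidHom.snd (Multiplicative (ZMod 2)) Spor.M12)) pC w)

/-- the model `2 × M12` -/
noncomputable def MC : Md PC where
  p := pC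
  pw := pwC
  eq v w := by
    rw [Prod.ext_iff, ev_pC_fst, ev_pC_fst, Subtype.ext_iff, ← GE.pk_inj, ev_pC_snd, ev_pC_snd,
      Multiplicative.ofAdd.apply_eq_iff_eq, ZMod.natCast_eq_natCast_iff']
    change _ ↔ 2 * _ + _ % 2 = 2 * _ + _ % 2
    omega
  rule := by
    have R := ruleOK_pk GE (by decide +kernel : pkOK (nat_lit 5) (nat_lit 32) (nat_lit 24) LC [] iv = true)
    refine ⟨Prod.ext rfl (Subtype.ext R.h0), fun x hx => Prod.ext ?_ (Subtype.ext (R.hinv x hx)),
      fun _ h => absurd h List.not_mem_nil, rfl⟩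
    by_cases c : x = 1
    · subst c; rfl
    · change (if ivf iv x = 1 then _ else _) = (if x = 1 then _ else _)⁻¹
      rw [if_neg c, if_neg (mt ((by decide +kernel : ∀ x < 64, ivf iv x = 1 → x = 1) x hx) c)]; rfl

/-- the letters in the centraliser of `x` -/
def lC : List ℕ := [1, 2, 3, 4, 6, 7, 8, 9, 10, 12]
/-- the Sylow 2-subgroup of `C(x)`, of order 128 -/
def lT : List ℕ := [1, 2, 3, 4, 6, 7, 8, 9]
/-- the 16 elements of `C(x, z, t, a)` -/
def LE : List (List ℕ) := subw [[1], [6], [7], [9]]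
/-- the 64 elements of `C(x, z, t)` -/
def LD : List (List ℕ) := subw [[1], [2], [4], [8], [6], [7]]
/-- the 128 elements of the Sylow 2-subgroup -/
def LT : List (List ℕ) := subw [[1], [3], [2], [4], [8], [6], [7]]
/-- the 384 elements of `C(x, z)` -/
def LK : List (List ℕ) := LT ++ LT.map (· ++ [10]) ++ LT.map (· ++ [11])

def relsT : List (List ℕ) := [[8, 3, 4, 3], [6, 4, 8, 4, 8], [7, 2, 8, 2, 8], [9, 7, 9, 7], [9, 3, 9, 3], [9, 1, 9, 1], [9, 6, 9, 6], [8, 7, 8, 7], [8, 1, 8, 1], [4, 7, 4, 7], [4, 1, 4, 1], [7, 1, 7, 1], [7, 6, 7, 6], [3, 2, 3, 2], [3, 1, 3, 1], [3, 6, 3, 6], [2, 1, 2, 1], [2, 6, 2, 6], [9, 8, 4, 7, 2], [8, 6, 8, 6], [1, 6, 1, 6]]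
def relsK : List (List ℕ) := [[9, 10, 7, 11], [10, 10, 10], [11, 3, 10, 2], [11, 1, 10, 1], [11, 6, 10, 6], [4, 10, 4, 10], [11, 9, 7, 10, 9], [9, 8, 2, 4, 6]]
def relsN : List (List ℕ) := [[12, 12, 12], [13, 7, 12, 6], [13, 2, 12, 2], [13, 1, 12, 1], [12, 3, 12, 3], [13, 9, 12, 4, 6], [13, 4, 12, 8, 7]]

/-- the outer automorphism on the letters -/
def sig (n : ℕ) : List ℕ :=
  [[], [1], [2], [2, 3], [4, 6], [5], [6], [7], [2, 9, 4], [7, 9], [11], [10], [12], [13]].getD n []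

/-- `θ` maps `2 × M12` onto the centraliser of `x` -/
structure CY {G : Type*} [Group G] (el : ℕ → G) (θ : PC →* G) : Prop where
  rule : RuleOK el [] iv
  inj : Function.Injective θ
  range : ∀ g, g ∈ θ.range ↔ g * el 1 = el 1 * g
  map : ∀ n ∈ lC, θ (pC n) = el n

section
variable {G : Type*} [Group G] {el : ℕ → G} {θ : PC →* G}

theorem CY.gr (h : CY el θ) : Gr MC el lC θ.graph :=
  ⟨⟨h.rule, fun n hn => h.map n hn, fun g hg => (show θ 1 = g from hg).symm.trans (map_one θ)⟩,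
    fun _ hx => h.inj ((show θ _ = 1 from hx).trans (map_one θ).symm)⟩

theorem CY.ev (h : CY el θ) {w : List ℕ} (hw : okw lC w = true) : θ (ev pC w) = ev el w := h.gr.pair hw

theorem CY.upd (h : CY el θ) {i : ℕ} (hi : i = 5 ∨ 14 ≤ i ∧ i ≤ 24) {g : G} (hg : ivf iv i = i → g * g = 1) :
    CY (upd el i g) θ := by
  have key := (by decide +kernel : ∀ i ≤ 24, i = 5 ∨ 14 ≤ i → ∀ n ∈ lC, n ≠ i ∧ n ≠ ivf iv i) i
    (by omega) (by omega)
  exact ⟨rule_upd h.rule (by omega) hg, h.inj, fun k => by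
    rw [upd_ne el g (key 1 (by decide))]; exact h.range k,
    fun n hn => (h.map n hn).trans (upd_ne el g (key n hn)).symm⟩

end

/-! ### The model of the third Conway group -/

def Q1 : ℕ := nat_lit 0x89c4a231087c3a1b0c85c2a130883c1a0b0481c0a03007fbf9fafc7dbe9f2f87bbd9eaf479bc9e2f077bb9daec75ba9d2e873b99cae471b89c2e06fb79badc6db69b2d86bb59aad469b49a2d067b399acc65b2992c863b198ac461b0982c05faf97abc5dae972b85bad96ab459ac962b057ab95aac55aa952a853a994aa451a8942a04fa793a9c4da6932984ba592a9449a49229047a391a8c45a29128843a190a8441a0902803f9f8fa7c3d9e8f2783b9d8ea74399c8e270379b8da6c359a8d26833998ca6431988c2602f978ba5c2d968b2582b958aa5429948a250279389a4c259289248239188a442190882401f8f87a3c1d8e872381b8d86a34198c86230178b85a2c158a85228138984a241188842200f8783a1c0d86832180b8582a14098482210078381a0c058281208038180a04018080200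
def Qx : ℕ := nat_lit 0x5b04582f10d105acc76da8d7cab6994568a13e8119c8e0a9c4f234380a4cc8d62a0c6a326bb9a20bc083b8acb51c1a45693163c958494f3781e626fb88243c858f9b24479c341a52839ed4ad033c059699668a8bc45861fdee420e0fe221d4bc242cf03c0c154194dc4dd90539a892048370a00ae5842e5527c35991a22d852ca08653638c161f5ba1998885f86c4026741a102b105401f05a390e40e9800a690a6a7b0b922746309606a869151fabb2800cc28059a2dfcfb1eabc9c9f53a11d49267be540a62cb80ea4f1db24b6362ea30c63a263b4aa7a0f3520c77301b49a570a001c8b01b88990d821b121c0261368dedc2f96114eb23971eafc063d062ba0c20948e774b29f4ae10a50fc08119184e954e14d80c34b43d702f04af5fe4b0337624ef70839aa334ea3c2e244484d5b023b1010e4a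
def Qw : ℕ := nat_lit 0x34ad04cbe49104d8427028de2dd7f38822700393053005bc1d44cd50b3932187ba20880d2eb92129c4f039dabb1cad8c81e2912466f208419810b4294610773108862352da7c642c38a1d4a23273e9f8661a3295e84620b58ac74baa928e10e4402e1f762087e067fba8f1123e1e4b00b64994be0c09308aa73308ada27f853f5f6286b3bc90f00aa69f283618287ac129c3d023a0da385e40040e0faf669219bec84c2e922805209512b3009d964b56e1e8d67454091a70410178cf0d3a916261a36b315ce92cb6d4e14569b9e6376b808c6b102159520349b9dbc3c25b3c87022789dcc9d1b0f8d4f526c321c8c5c9192a5002a41d68a2e11db0cb72b55b22e468c18cd4530aa02a025444fc7268368006f5e3a01ebf479a026f85e82536600caae0ae30ebb9e8ac582582c8b81ae076572a168f621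
def Qv : ℕ := nat_lit 0x13234d2138228c070c4110570b73b890310f7d3cd12806eb714c343440c1811153ad663b813b00cf0719550cf27b305641e1b2d598bb779c838ba18a2dfefe171190aa8021d95a37280fcfc4d6781d96e566b144e84639fd94c4079edd4bf600642cbc723810f0984251cc2f7aba4748f25101aa994d8041cd827bf44a2d870ac345a3d0412c9c55959588a0ea747ab6299c0c658581d224656f26202395cbb5b2c81c42cb3006334452446127cc84983b58288e1ab88789210000da543011622fb338cd1879488c0966b19084982c2ba8102902da69dc6c4991c10d353939a05d30abcf00a29368d47c1190a14ae690892a717a2c510836a39ce6fc3317dbe625a36d485c513dcfa0264c4d4b06218f8bc6f0fba12ee105a857d0504af4247588055f09e61aa40af90d9202e51673c41ad7868a1546e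
def Qn : ℕ := nat_lit 0x8ada2310468e1c67446428ba2a1641876ad1594926420a829f42234bf48e1a76a6196f4799a1e21e52039ee02209c0face69a48322e86b8932af6fb7934dc2d00d0a546ba78ca04738312023323a06a0f7aaacf06d402a0ac8e00b0982b00316d7a532f0bca0ac4dc48805f4f87d4ac0702ba08b8651dc9ac63a99d62ef51a700a0d59b58b8a25bb75c2f60995d2a2780b9914d138b121f0b04244d4830e049b2074412472c73e0e9d27f1991052c9550f94f0c360911eea1e989907330a25f6f2530ddaacf319b8d64f5a2ee129d5f36cb2254b314aad85e408a2b930115521b25929041d7c8d09c7a21c01d6b51f9d8de3c829f9030e3302d9a463d8c862185d390210781c20f2284a084b072683f04c20593c09087263e1ca300b859fe144ba1a262d663b940d21b3f8128b422fd42d46d3b18600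
def Qu : ℕ := nat_lit 0x73c1c8eba2dbad96c70ca21f108894180c5781bb1128e7fad05654693e851092b28c7cb0793cc30f06c1addb02870cdd28489b096c5d5438842136fb79ba2f699f1b2ef491fc1e406dbecfc610fb38069486b292c1e861d98a4256b98cc0037208124e2644034115bb94f6fe112c8b0f4050dd865a0912428e311a884a9f7b2990e99520d44e9c0a8a940592fb2440cc49b5c703a1dc00ee2c45a06030a50a190ae831af914746b34452da5a8b4f20146b181c80081c8c4041eafcda34771a8a43f33b04b864419c5a0554b871c86587ab130b1823dcc0fc299a4a22e21af096bb26921544a889108a4627b1072d4343d4de3047a408291570993c6c75074623c6e140f48c7ea68faf94e8d94a2453acdc29567b20645e02ae616f10b05d36a9702ad70736a9d4160206abd7a0803c14367066830f0c0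
def Qz : ℕ := nat_lit 0x2d42c50dc24a04ed0c8918ca0dd0cc18c4787d34913005b84c56a47640c8e2e2b26150001f9a0786d1108d8afb45100f28456248581a1f38816b46fb7a111008a79b2b36100c4e335c409a20e0f81cfe5c632195a1e63b2ddac44b35d5cb0479dd7a4e508bcbad37fa30e0e06c19162c02fb0592e70916c9af535a894afc2ca9976262a3681e670a8a86cf60530d2a653539882905fa3904b645bae0283263290ae8442361c80669f85235021b1d3045f434c274221c80cb5378ede07a53a4c04f24e0dd28b285414ea4f5781572cc5544d465800bdc869f22830a309302f152870a0ca1e1d7c840a6732a90922ea79b8c7af1370e8703933264f82d6a12862185d3e068e57ea68fb116aa804a24773bc1a2067b20901b0e3920e300b859364b7f2adb6464eb40425270a5c1208671c4bc7b6b1a4aef4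
def Qt : ℕ := nat_lit 0x2f1e1e8c246c3996428218d730800c19d90b780199e745b9ed909f311b5801a2b261c7111e0c07f036c08d8b0575abca6a60e2e92c2e7ab89327018b79bad7509f10aef6e3352897439c44a0e8099dac0f86b296cfd621d9dac71644064f9292a97a7d08b9a124c7fb2568b5111a8744775129181b55af9523e35ba0fc542ca11b6217e0d4b8070aa69c2f66a39440d5320bd2258062021ead45a283e8369a19b2a244125028e01a9578da7f0b48b122db18c300231c9a4e01e9a5f43453ac8dc18670744e93853ecea602044ca09d3b81546900cbdcaaa474afca25d278a49ab825ab90437581ccf21021c30825f78aa0def3012c472382402d3c6c05305bef249390f4c30f0a89c0032835a224772cd4095448accce7563e0ae680b8593614020497644663404c8f1b0cc12084e408b4133f8ee0e28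
def Qm : ℕ := nat_lit 0x2f410d01d6ac388c8e3c3d932ab00b88c512534088ac72b3f8ceda762887e265bc28f418238a180e801bb82afb453a83ef00dab9862116c1972b46f94424485dbf10a7f1b88a1e3343b49620e3cb2166be39a696cce8011136747299924f147b317a936d929c24c7bb24e0e0668a5a23c57b99181c8403caa6c35c0d209e41be8222e3e290b62b62b2a1263050b0408d5e30522a55fc3128ad45baca659698a9b26d5199502426c160c89f3dbd59f0b2e040eac4659c8e2b5379b908a853938d3117eb09047d4c414c24b2fc4c16774e815107e0cbfd523544831bc360a1a886b8302e84edc79c3602c626a0082407c8d07ab01d89470396b940a83e6a0bc620019281c6964e21964f224be0742411b59c8957481e20ac73834aef40b859da4f09b7542765534034522ea5c12080f018b4047780a0e30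
def Qa : ℕ := nat_lit 0x829005c5c2522a1ac475221f2ca6a41a26af7d072028e76b943ca402c0e12284d965c6e4708846c6d5988dfe5e40c2c8aa60309dfcf47ab89e68c6cb790ccc349f1be2207b5925072906c4ad067b399adc65c216a2b213196f0c0227504b9439982e4e1d995800c62ad192b6779a9625d82234e07115075523e35ba0fcfc4c210dc302a0d5849c7b84878a3009ec7a2f323547090264015ce045c39130a5fb7462a231b05d6743fa9452da4b1b0a65f1b9d8ea80081c958ad10285e07a53ac9b60d33af9749341968c24f3c3b1611024189ec5805054869f3cb4ca247302f09a8f25c3c645b28111d2462ab1c731205aa12a995d8e882913bbc53c2d0c9250aa04a4446813642acfaf873061a22477361e46f0fbf555026900066265e824ac141626804736b838d0b81f95c2c0803b9df6c3018452e1a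
def Qs : ℕ := nat_lit 0x79231c833469fcf86f5b291f2071641940b4748f14c428197136220c1e572285e1e914f469b6c184585154da306b2d5fe9a79c2d842e870917e94428219cd489a45be8883aa0be0473bc42e23741907c016d2704ef71ea79e0950786492c00e198b0c8313aa12ac7d399746541c214ab064c3daa3f44af952eb2784812ef16aae0aa16c104146a14b3d0e6c61a751c784344996d10db115c926f00d449f0319db22a2a3059b0c718585638881cd6ee01b8d4d6c77b3886c2f40178a64430329d81149aaa08dd7e0994e7556884a0573b9a068257f1381cb376c08a247308789a712592904482e9658a98680818c705c204e852029f8ed0d2d93072463d8c862692044420d70a87dfa1a57aed7a722198cdd00421583ae105be1ca02480e8fa1466404b4a34bbb876d247a59628b592641adc7abec2600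
def QS : ℕ := nat_lit 0x6da485c7b5738c7080733bd72b26bc1942657f94824207495c5263012de121a641cc06f473c4da4c552038a669542ea06cf69ad833113f9c838786ca2cc8047932d0a9f163ad5adc7983120434d3750213489a95ebc3a1048a8e4bb9504c070aa84af7132d5f23f3cc2dd5042a01c12b013a34beb85119952d630c05630a082254105443192cca7eba00c440782988e033a31b41705a561f12043d556d84ca4dbe1f599247c6f870e82b0d19bd9f4942d8e4c03d3d090984086085da983aa70605a432f968ce112ec9e6b6a9b88efe1b8448cbd2e079dc83368f0a25d539589a36259298248280d1e06c11c013c2f563358f02068586a7c3b9c4ec59880c862ec3839147073ea1136f864988b0e2683f0bc42151383abf478a184fb689f8561400a98d02d619540af10da754ade8421c76d4450619800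
def Qr : ℕ := nat_lit 0x23544351498d2eab8789488b71e020308250af9c09a62140dcac1836d96f047240aee85419dea1138a14e8f24c09dd40507b3d326d83a2cf492269c9fe9e0d21cab023e2fca6c06e2aa1c315a98818fc1995982028402a00dd1b36964761bb61c512722248cd763929cc2f0332472c64a1a864cc4d889a0191044c821b3f1785cc80e34d49058631468582382c287956c05468a2421978ae5ebd8e03a613dc865a589f614ca47a4608b85c8b15e4977b507a2a09858eeba2789976c34aa3042ce763348ab6689a0de756ac44e69f598a14aeb78a0046e72f8744810309e01d10539909c7f869ec800477048b2651f004c0e3068e106886b1b098e57ca4d52070fc0d2ce134bb6168474bf502096cb48564b5a0ec065c4ebe9e69c83378846b2e855f0fe2a37c3c6616ac0a2177d96de909292807ea6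
def QR : ℕ := nat_lit 0x532f0bc4c85b448e9b14a0408c77185d387d1736124c56e8404ccc03868661143229e2050cbb0aef83b90c54672c3a44ef42a2d468bb1e2f459010705988d37d30846be5c0dcbe764f088c6a9731a0ccac7ca0164a05bac134ff3621d92d46b409168d369c0f67c841919e1f2db05060a3ca3126fc8634862f325800b29d48c4606022e370361855c01caeb868b4d6af19380fcf63fbde246a7124174386d239dc281cc104a562428d04d723385284e38b00c0ed2eb79de8930bf5c8360a2b8566279030804a873389e3d29a88261c0321082987ab29b20f6a80c12fe37925be35102d8f08f4bae4cb09428554a45008fceb070f221623a5fb0e209965ab5a0fb5a284167a109d21e5a751ba14512aaa8d2a717834a49f5236d5105041c8249539909e0507393476cd4b3184906182cdd0440eb207d13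
def Qe : ℕ := nat_lit 0x371c1ae2805a04ce8e5a964cadd09b7942b416a1d9ac77b95c8c29088d1749d5ba0dd0dc60874947a749ad36db45325b0e3293e414cc5314505121041a1111829a8de537a404a02c81130fc756b4359e2e672195e733a01c2b006a00078e6738842ea47db004ed22b3aa090b22b6920925b3c4be0c092815284773d5a27d852a1d8be2724c34c6628a89288618cdbe5d1a91c823a561086c40043acfef6033287a3e4c2661d0c0f894a8b20cc0d66e006a701cc47e891707842978d8fa119f2264865bc9729e51aeda060461a5aaf8130ecc6b13dbfcaabc77871c49427bf09a71258fdc21817b20442b21a0122ad57289b2320296070393443cc86d72bcd2a665803de097082693ec2849dd4a72539e554310191060bf47971fc375e825da1400aacc41e72184b61b46a582c8b3b34c0507449680910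
def QE : ℕ := nat_lit 0x34b81b8001b2059c805a28c4edd02379b6b53d34dacc42b064e64e5d9b1cc5c7fa214cd7191995c2d29a9c2aa1452d9def55fb00660f7414492784ac1a10f4762c87ae988b3cbac3032e14a6166b2e02e433a19d4468027136744b8a1e6ba0e2802e54313e4ca717babe17043c9f0b02f648fc808f0908552a211b8c4abc318fa0aaa14991f076768a904831602862504f2c082b10dc30165f043ac069881328dea87b3861c4244b45486a2bbc044701301da0c76409099126cc4c686d77368bc37868c212352c8441c60569b9281a0680a143a7f2dcaa7d6c39dc4d527a7c9ad225bc53268493f5661e21a39228c252110ac12d24070390c23526fa4b0f0401d23b3206d422269f9105c96cfc72359157cdf3f841e45206274f6485e8258a1483aadf62b171d4eeac87b942c8b6321c76010f81426c2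
def Qf : ℕ := nat_lit 0x501752ee506048ec6f5cbfd5e917a02061095e385123144441b02d3413a08577b26d44d481178e27d15a9e14f21530020a81e2d4b907421c838944022c822c0e990e81e6180d5ae42482cfcd00f81cfe13630e1ccef4ab2cc62007a590f0b60a8412fa1bad1d50f41ae84e65640d475127c93124f175b6d52a6118f9a2342b38ccd053d2c8f6672cc39ce1517274848c6d1c19458572151e2f6f26a02ed410e600f562afd56d966894da93611508c505dc34eadf74b886cd5622f8529f7727954054e1b96c7c5b860c2432388480fe08899ee9014260c06c220c8485f2ac0c9a8d25ae0a4023c14ce679278f50cb0693a18e063bac5bb081dab0d4fc0d34d1d137000548cc59a05e00a649894a5135bf5d90c67888d2f31f864005a0b2f546146e228904502039f64a0dbe02f06672641ad76b16e2233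
def QF : ℕ := nat_lit 0x182c002fe5c268ec20603b608387202140f9273cd128585170443406af15e0a2cbdd09070e3b15829641ad102155ae4e63e4cb2620d4511ca042f3a22c72135524d00fd0200ce0f4190fd4ad00f81cfe2c632444eb31eb2d066f6b9ed7eea411b82d033bada164a31995ccba15a78744084a3daa36409a552e8772a04a2d0abd57d13361a92c677b2280c5688b098ee03e2b61058468c498946f04a02ff609051ce35ba1c54df66b45e0644ea7c88471dc34ead922b89e29286198fa54118d43afb4e28568da62898c255283ca24e50106136907c28c9e7a23124487821be89aae25831a6112f9e4205330255ba5d0da9884e71bac50cca5d9c564a40014a01054625df8dc77bacda575a968fc5153878bcc467b61b6e1058cc34620485d301466438b6e9618380b0f690a17b06670f0d00f6b1205c19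
def Qp : ℕ := nat_lit 0x34a5e230f1b10e1a900508c34913c3797e330836c442531bed12cd0611a12c07b1d48af417b31cc447ebfd1052303a8faf0698dce2473cc19ae1c3a388824961ac91cc8411e8650738045be9b59a785abe658e00a1f1d31906b18123540b9023c97aa872921f0b585169581b0f01c7a5d57898bcb8870c1ba5362c0d0a7f073e858946b190b67c2ca29b86100b4a18c1339989a953d9f817130413dde6b700e5006d53b84aaa51a3647c6a3127c52d4341d9eed14222d76e763ab4e65476a71185c1a8f15cce7723cac2a2f9b85c770c009a02085a6024035e04ca2e44d3d610b465035323f282889ce85596152405d3a58892649bc284b78c4126a40c886000f0eac1f80680badc6282519462245b8adaa426c33de687263e6089d0485d4686762052ca6550544efe6115c2c726d2847705362da2400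
def QP : ℕ := nat_lit 0x460062236882ae1a952baddf24d6a38808195330c563177031de2d7f28834b93abdc9cf40eaf86ee84498cd613153a87c44383c5765014b79048768c1952998101cfc1f70a7c427873a58e8590f191f8f26592c76d837b194e3d6d82d28f882b317a53388fd80ac11809704c67b69882e57994dcb52183c82bc4184100340a9180cc13d338306a6813c92568904520a01a8f2110c31365846939269faed0e0514a7362b5c248552239d29c47b59c7072e1d9ecdf36821cad31d1790803441f2267749a484c9e7f9ed30eb2fab560684ead9364205185026c543b0a24745115221b1c09db8ba723e9eaf087081ba40241f5626602b1d0cca7343cce7f823544aaa799759aa111180f22806aba0024854046458642cc5ee05a424665b0b0241c3929155a5031828c94fb46c2c2e8b590b192bf2a1692e00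
def Qq : ℕ := nat_lit 0x797590297e155870c5c854688a70a2c610982c45d4c4684400cb8341899ce3773fd6cfd423c14cec08a8d4ef226ab968022da4c42a864820e61d6f891d67d6aab07abb5e16844e6248a14af6579480a7f160e5f10247394d680131391267601f20c0432990d90f070686e4850829629c254045caa48b6a108c418ecb0d37b9b928762639dac8f30a048cb75d2810ab36a1a89625581d13ee45eaa480c5410e0de697695087002f240261b61449c0501aa5a14c78385c00664a8f1f70b440cde66d5f915b0974d860c6ca19330f4cd4f274acd11b08c54875abe4e42d431edba8d55b3d48e903804e0194d10828c1742b440a2788e8c04f2984039044907c6303590f8f00d38c39fc1e77c34fc162cb6d8cd92fb48f2775f3d416fa28b78ea126e1044e5701a619647220bdc409063d0b8d7898fd322b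
def QQ : ℕ := nat_lit 0x19ea04fe5c0a84d0c361d608a939af60634183215c807b0a5e90f36860a4c951b40340634bb076f213bdd06f06ec04903f4f3518c8c7c0260e796f8589a13112a8406502275b69352078b0ff253e4b85e06981c7113a0851100869ec80bf3386d16d76c25e16fc4c3d4a6e94a0bd628f67ba87cda25ab114e476bc5a249770f166964696cb4b03190c020e321d8dea1730cd567e4e31c98a883421826b2a13d2af353a1d34c466095b8be271743a2d0e2802a8e70944564542a88d0b962a4908fb601c176ba30be936390f9fe240573b5846a5081661c821bb382e781c309d69f48abda6b406264cc0b409082489010b9b26e530e994865a95cef093517c6305052b4a0cb0015620d208b0d20de2b355ca3d190a1c0353e2d888623909214413e851de3689adc58070cac810e223bf59abc07ba08c71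
def LY : List ℕ := [Q1, Qx, Qw, Qv, Qn, Qu, Qz, Qt, Qm, Qa, Qs, QS, Qr, QR, Qe, QE, Qf, QF, Qp, QP, Qq, QQ]

theorem valid_LY : allL LY (valid (nat_lit 9) (nat_lit 512) (nat_lit 276)) = true := by decide +kernel

/-- the new letters as words in the letters of `C3Defs` -/
def tau (n : ℕ) : List ℕ :=
  [[],
    [1, 2, 5, 8, 2, 5, 7],
    [5, 2, 5, 7, 1, 2, 8],
    [4, 5, 8, 2, 5, 7],
    [2, 7, 1, 8, 2],
    [5, 7, 2, 5, 8],
    [1, 2, 1, 2],
    [1, 7, 2, 8, 1, 7, 2, 8],
    [7, 2, 8],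
    [5, 2, 5],
    [4, 7, 2, 5, 2, 4, 8, 6, 4, 5],
    [5, 4, 6, 7, 4, 2, 5, 2, 8, 4],
    [1, 2, 4, 5, 2, 4, 9, 2, 5],
    [5, 2, 10, 4, 2, 5, 4, 2, 1],
    [2, 5, 2, 5, 7, 2, 1, 8],
    [7, 1, 2, 8, 5, 2, 5, 2],
    [3, 4, 5, 7, 1, 2, 1, 5, 8],
    [7, 5, 1, 2, 1, 8, 5, 4, 3],
    [1, 8, 2, 5, 7, 2, 5, 2, 7],
    [8, 2, 5, 2, 8, 5, 2, 7, 1],
    [5, 4, 8, 2, 1, 7],
    [8, 1, 2, 7, 4, 5]].getD n []

/-- the letters of `C3Defs` as words in the new letters -/
def om (n : ℕ) : List ℕ :=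
  [[],
    [19, 4, 18],
    [2, 6, 15],
    [3, 6, 16],
    [3, 5, 9],
    [1, 3, 4, 8, 21],
    [21, 10, 1, 16, 20, 15],
    [1, 18, 9, 8],
    [8, 9, 19, 1],
    [4, 19, 20, 13],
    [12, 21, 18, 4]].getD n []

theorem elP_tau (n : ℕ) : elP C3.EE LY n = ev C3.pK (tau n) := by
  refine C3.EE.pk_injective ?_
  rw [pk_elP C3.EE valid_LY, show ((ev C3.pK (tau n) : C3.K) : Equiv.Perm (Fin 276)) = _ from
    map_ev C3.K.subtype C3.pK (tau n)]
  refine Eq.trans ?_ (pk_prod_elP C3.EE C3.valid_LP (tau n)).symm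
  rcases Nat.lt_or_ge n 22 with h | h
  · exact (by decide +kernel : ∀ n < 22, nthD LY (idP (nat_lit 9) (nat_lit 276)) n = C3.pw (tau n)) n h
  · rw [C3.nthD_ge LY _ n h, show tau n = [] from List.getD_eq_default _ _ h]; rfl

/-- the letters in the model -/
noncomputable def pY (n : ℕ) : C3.K := ⟨elP C3.EE LY n, elP_tau n ▸ (ev C3.pK (tau n)).2⟩

theorem pY_tau (n : ℕ) : pY n = ev C3.pK (tau n) := Subtype.ext (elP_tau n)

/-- the packed value of a word -/
noncomputable def pwY (w : List ℕ) : ℕ := prodP (nat_lit 9) (nat_lit 512) (nat_lit 276) LY w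

theorem pk_pY (w : List ℕ) : C3.EE.pk ((ev pY w : C3.K) : Equiv.Perm (Fin 276)) = pwY w :=
  (congrArg C3.EE.pk (map_ev C3.K.subtype pY w)).trans (pk_prod_elP C3.EE valid_LY w)

/-- the model `Co3` -/
noncomputable def MK : Md C3.K where
  p := pY
  pw := pwY
  eq v w := by rw [Subtype.ext_iff, ← C3.EE.pk_inj, pk_pY, pk_pY]
  rule := by
    have R := ruleOK_pk C3.EE
      (by decide +kernel : pkOK (nat_lit 9) (nat_lit 512) (nat_lit 276) LY [] iv = true)
    exact ⟨Subtype.ext R.h0, fun x hx => Subtype.ext (R.hinv x hx), fun _ h => absurd h List.not_mem_nil, rfl⟩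

theorem pK_om : ∀ n ≤ 10, C3.pK n = ev pY (om n) := fun n h => Subtype.ext (C3.EE.pk_injective (by
  rw [pk_pY, C3.coe_pK, pk_elP C3.EE C3.valid_LP]
  exact (by decide +kernel : ∀ n ≤ 10, nthD C3.LP (idP (nat_lit 9) (nat_lit 276)) n = pwY (om n)) n h))

/-! ### Stages of the construction -/

/-- the relations for `u`, `e = r u r⁻¹ m w` and `f = s e s⁻¹` -/
def rels1 : List (List ℕ) := [[5, 2, 5, 2], [5, 3, 5, 3], [5, 4, 5, 4, 6], [5, 1, 5, 1, 6], [5, 6, 5, 6],
  [5, 10, 5, 11], [5, 12, 5, 12, 5, 12, 8, 2, 8, 1], [15, 12, 5, 13, 8, 2], [14, 10, 14, 10, 14, 10],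
  [17, 10, 14, 11]]

/-- the group of order 3072 -/
def lP : List ℕ := [1, 2, 3, 4, 5, 6, 7, 8, 9, 10, 14, 16]
/-- the normaliser of `V = <z, t>`, of order 27648 -/
def lN : List ℕ := [1, 2, 3, 4, 5, 6, 7, 8, 9, 12, 14, 16, 18, 20]
/-- the centraliser of `V`, of order 4608 -/
def lB : List ℕ := [1, 2, 4, 5, 6, 7, 8, 9, 14, 16, 18, 20]

structure S1 {G : Type*} [Group G] (el : ℕ → G) (θ : PC →* G) : Prop extends CY el θ where
  rels : ∀ w ∈ rels1, ev el w = 1

structure S2 {G : Type*} [Group G] (el : ℕ → G) (θ : PC →* G) : Prop extends CY el θ where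
  grP : ∃ Δ, Gr MK el lP Δ
  grN : ∃ Δ, Gr MK el lN Δ

end Cfsg.Agent.CONW.Y
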