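import Cfsg.Agent.CONW.YEH

/-! Wreathed case, part 1: tools, the groups `F0`, `F`, `Y1`. -/

set_option autoImplicit false
set_option linter.unusedSectionVars false

namespace Cfsg.Agent.CONW.Y

open Subgroup H42

namespace E45

variable {G : Type*} [Group G]

theorem inv_of {x : G} (h : x * x = 1) : x⁻¹ = x := inv_eq_of_mul_eq_one_right h

theorem cm {n g : G} {X : Subgroup G} (h : n ∈ normalizer (X : Set G)) (hg : g ∈ X) :
    n * g * n⁻¹ ∈ X := conj_mem_of_mem_normalizer h hg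

theorem cm' {n g : G} {X : Subgroup G} (h : n ∈ normalizer (X : Set G)) (hg : g ∈ X) :
    n⁻¹ * g * n ∈ X := by
  simpa using conj_mem_of_mem_normalizer (inv_mem h) hg

theorem nm_closure [Finite G] {S : Set G} {n : G} (h : ∀ s ∈ S, n * s * n⁻¹ ∈ closure S) :
    n ∈ normalizer ((closure S : Subgroup G) : Set G) := by
  apply mem_normalizer_of_conj_mem
  intro g hg
  induction hg using closure_induction with
  | mem s hs => exact h s hs
  | one => simp
  | mul a b _ _ ha hb =>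
    have := mul_mem ha hb
    rwa [show n * a * n⁻¹ * (n * b * n⁻¹) = n * (a * b) * n⁻¹ by group] at this
  | inv a _ ha =>
    have := inv_mem ha
    rwa [show (n * a * n⁻¹)⁻¹ = n * a⁻¹ * n⁻¹ by group] at this

theorem comm_closure {S : Set G} {g : G} (h : ∀ s ∈ S, g * s = s * g) :
    ∀ c ∈ closure S, g * c = c * g := by
  intro c hc
  have : closure S ≤ centralizer {g} := by
    rw [closure_le]; intro s hs
    exact mem_centralizer_singleton_iff.mpr (h s hs).symm
  exact (mem_centralizer_singleton_iff.mp (this hc)).symm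

theorem cmt_closure {S : Set G} {N : Subgroup G} {n : G}
    (hN : ∀ s ∈ closure S, s ∈ normalizer (N : Set G)) (h : ∀ s ∈ S, n * s * n⁻¹ * s⁻¹ ∈ N) :
    ∀ c ∈ closure S, n * c * n⁻¹ * c⁻¹ ∈ N := by
  intro c hc
  induction hc using closure_induction with
  | mem s hs => exact h s hs
  | one => simp
  | mul a b ha' _ ha hb =>
    have := mul_mem ha (cm (hN a ha') hb)
    rwa [show n * a * n⁻¹ * a⁻¹ * (a * (n * b * n⁻¹ * b⁻¹) * a⁻¹) = n * (a * b) * n⁻¹ * (a * b)⁻¹ by group]
      at this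
  | inv a ha' ha =>
    have := cm' (hN a ha') (inv_mem ha)
    rwa [show a⁻¹ * (n * a * n⁻¹ * a⁻¹)⁻¹ * a = n * a⁻¹ * n⁻¹ * a⁻¹⁻¹ by group] at this

/-- the extension of `N` by an element `x` which normalises it and has its square in it -/
def ext (N : Subgroup G) (x : G) (hn : x ∈ normalizer (N : Set G)) (hx : x * x ∈ N) : Subgroup G where
  carrier := {g | g ∈ N ∨ g * x ∈ N}
  one_mem' := Or.inl (one_mem _)
  mul_mem' := by
    rintro a b (ha | ha) (hb | hb)
    · exact Or.inl (mul_mem ha hb)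
    · right; rw [mul_assoc]; exact mul_mem ha hb
    · right
      have := mul_mem ha (cm' hn hb)
      rwa [show a * x * (x⁻¹ * b * x) = a * b * x by group] at this
    · left
      have := mul_mem (mul_mem ha (cm' hn hb)) (inv_mem hx)
      rwa [show a * x * (x⁻¹ * (b * x) * x) * (x * x)⁻¹ = a * b by group] at this
  inv_mem' := by
    rintro a (ha | ha)
    · exact Or.inl (inv_mem ha)
    · right
      have := mul_mem (cm hn (inv_mem ha)) hx
      rwa [show x * (a * x)⁻¹ * x⁻¹ * (x * x) = a⁻¹ * x by group] at this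

theorem mem_ext {N : Subgroup G} {x g : G} {hn : x ∈ normalizer (N : Set G)} {hx : x * x ∈ N} :
    g ∈ ext N x hn hx ↔ g ∈ N ∨ g * x ∈ N := Iff.rfl

theorem le_ext {N : Subgroup G} {x : G} {hn : x ∈ normalizer (N : Set G)} {hx : x * x ∈ N} :
    N ≤ ext N x hn hx := fun _ h => Or.inl h

theorem self_ext {N : Subgroup G} {x : G} {hn : x ∈ normalizer (N : Set G)} {hx : x * x ∈ N} :
    x ∈ ext N x hn hx := Or.inr hx

theorem ext_le {N K : Subgroup G} {x : G} {hn : x ∈ normalizer (N : Set G)} {hx : x * x ∈ N}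
    (h : N ≤ K) (hxK : x ∈ K) : ext N x hn hx ≤ K := by
  rintro g (hg | hg)
  · exact h hg
  · simpa using mul_mem (h hg) (inv_mem hxK)

theorem two_mul_le [Finite G] {A B : Subgroup G} (h : A ≤ B) {b : G} (hb : b ∈ B) (hA : b ∉ A) :
    2 * Nat.card A ≤ Nat.card B := by
  have h1 := card_mul_relIndex h
  have h2 : A.relIndex B ≠ 1 := fun h' => hA (relIndex_eq_one.mp h' hb)
  have h3 : A.relIndex B ≠ 0 := by
    intro h0; rw [h0] at h1; exact absurd h1.symm (by simpa using Nat.card_pos.ne')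
  have h4 : 2 ≤ A.relIndex B := by omega
  rw [← h1, mul_comm]; exact Nat.mul_le_mul_left _ h4

theorem card_le_of_fib [Finite G] {S T K : Subgroup G} (δ : G → G) (h1 : ∀ g ∈ S, δ g ∈ T)
    (h2 : ∀ g ∈ S, ∀ g' ∈ S, δ g = δ g' → g'⁻¹ * g ∈ K) :
    Nat.card S ≤ Nat.card T * Nat.card K := by
  classical
  have hex : ∀ g : S, ∃ g' : S, δ g' = δ g := fun g => ⟨g, rfl⟩
  let ρ : G → G := fun w => if h : ∃ g' : S, δ g' = w then (h.choose : G) else 1
  have hρ : ∀ g : S, ρ (δ g) ∈ S ∧ δ (ρ (δ g)) = δ g := by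
    intro g
    simp only [ρ, dif_pos (hex g)]
    exact ⟨(hex g).choose.2, (hex g).choose_spec⟩
  let Φ : S → T × K := fun g =>
    (⟨δ g, h1 g g.2⟩, ⟨(ρ (δ g))⁻¹ * g, h2 g g.2 _ (hρ g).1 (hρ g).2.symm⟩)
  have hinj : Function.Injective Φ := by
    intro g g' hh
    have e1 : δ g = δ g' := congrArg (fun p : T × K => (p.1 : G)) hh
    have e2 : (ρ (δ g))⁻¹ * g = (ρ (δ g'))⁻¹ * g' := congrArg (fun p : T × K => (p.2 : G)) hh
    rw [e1] at e2
    exact Subtype.ext (mul_left_cancel e2)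
  simpa [Nat.card_prod] using Nat.card_le_card_of_injective Φ hinj

theorem cmt_eq (g k : G) : g * k * g⁻¹ * k⁻¹ = g * g * (g⁻¹ * k * (g⁻¹ * k)) * (k⁻¹ * k⁻¹) := by group

theorem isP_of_four {X : Subgroup G} (h : ∀ g ∈ X, g ^ 4 = 1) : IsPGroup 2 X := by
  intro g
  exact ⟨2, Subtype.ext (by simpa using h g g.2)⟩

end E45

open E45

variable {G : Type*} [Group G]

/-- `F0 = <z,t,u,e>` -/
def F0 (z t u e : G) : Subgroup G := closure {z, t, u, e}
/-- `F = <z,t,u,e,a,f>` -/
def FF (z t u e a f : G) : Subgroup G := closure {z, t, u, e, a, f}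
/-- `Z0 = <z,u>` -/
def Z0 (z u : G) : Subgroup G := closure {z, u}

theorem z_F0 {z t u e : G} : z ∈ F0 z t u e := subset_closure (by simp)
theorem t_F0 {z t u e : G} : t ∈ F0 z t u e := subset_closure (by simp)
theorem u_F0 {z t u e : G} : u ∈ F0 z t u e := subset_closure (by simp)
theorem e_F0 {z t u e : G} : e ∈ F0 z t u e := subset_closure (by simp)
theorem z_Z0 {z u : G} : z ∈ Z0 z u := subset_closure (by simp)
theorem u_Z0 {z u : G} : u ∈ Z0 z u := subset_closure (by simp)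
theorem a_FF {z t u e a f : G} : a ∈ FF z t u e a f := subset_closure (by simp)
theorem f_FF {z t u e a f : G} : f ∈ FF z t u e a f := subset_closure (by simp)
theorem F0_le {z t u e a f : G} : F0 z t u e ≤ FF z t u e a f :=
  closure_mono (by intro g hg; simp only [Set.mem_insert_iff, Set.mem_singleton_iff] at hg ⊢; tauto)
theorem Z0_le {z t u e : G} : Z0 z u ≤ F0 z t u e :=
  closure_mono (by intro g hg; simp only [Set.mem_insert_iff, Set.mem_singleton_iff] at hg ⊢; tauto)

theorem inV_F0 {z t u e c : G} (h : InV z t c) : c ∈ F0 z t u e := by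
  rcases h with rfl | rfl | rfl | rfl
  exacts [one_mem _, z_F0, t_F0, mul_mem z_F0 t_F0]

namespace EH

variable {x z t u e a f v s r : G} {D : Subgroup G} (h : EH x z t u e a f v s r D)
include h

theorem aD : a ∈ D := by rw [h.gen]; exact subset_closure (by simp)
theorem a1D : r * a * r⁻¹ ∈ D := by rw [h.gen]; exact subset_closure (by simp)
theorem a2D : r⁻¹ * a * r ∈ D := by rw [h.gen]; exact subset_closure (by simp)

/-- every generator of `F` commutes with `F` -/
theorem gen_comm : ∀ g ∈ ({z, t, u, e, a, f} : Set G), ∀ c ∈ FF z t u e a f, g * c = c * g := by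
  have h1 := h.Dz a h.aD; have h2 := h.Dt a h.aD; have h3 := h.Du a h.aD; have h4 := h.De a h.aD
  intro g hg
  apply comm_closure
  intro s' hs
  simp only [Set.mem_insert_iff, Set.mem_singleton_iff] at hg hs
  rcases hg with rfl | rfl | rfl | rfl | rfl | rfl <;> rcases hs with rfl | rfl | rfl | rfl | rfl | rfl <;>
    first
    | rfl
    | assumption
    | (symm; assumption)
    | exact h.zt | exact h.zt.symm | exact h.uz | exact h.uz.symm | exact h.ut | exact h.ut.symm
    | exact h.ez | exact h.ez.symm | exact h.et | exact h.et.symm | exact h.ue | exact h.ue.symm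
    | exact h.fz | exact h.fz.symm | exact h.ft | exact h.ft.symm | exact h.fu | exact h.fu.symm
    | exact h.fe | exact h.fe.symm | exact h.fa | exact h.fa.symm

theorem FF_comm {b c : G} (hb : b ∈ FF z t u e a f) (hc : c ∈ FF z t u e a f) : b * c = c * b :=
  (comm_closure (fun s' hs => (h.gen_comm s' hs c hc).symm) b hb).symm

theorem FF_sq {c : G} (hc : c ∈ FF z t u e a f) : c * c = 1 := by
  induction hc using closure_induction with
  | mem s' hs =>
    simp only [Set.mem_insert_iff, Set.mem_singleton_iff] at hs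
    rcases hs with rfl | rfl | rfl | rfl | rfl | rfl
    exacts [h.zz, h.tt, h.uu, h.ee, h.aa, h.ff]
  | one => simp
  | mul b c hb hc ib ic =>
    calc b * c * (b * c) = b * (c * b) * c := by group
      _ = b * (b * c) * c := by rw [h.FF_comm hc hb]
      _ = b * b * (c * c) := by group
      _ = 1 := by rw [ib, ic, one_mul]
  | inv b _ ib => rw [inv_of ib, ib]

theorem F0_comm {b c : G} (hb : b ∈ F0 z t u e) (hc : c ∈ F0 z t u e) : b * c = c * b :=
  h.FF_comm (F0_le hb) (F0_le hc)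

theorem F0_sq {c : G} (hc : c ∈ F0 z t u e) : c * c = 1 := h.FF_sq (F0_le hc)

theorem inV_mul {b c : G} (hb : InV z t b) (hc : InV z t c) : InV z t (b * c) := by
  have h1 : z * (z * t) = t := by rw [← mul_assoc, h.zz, one_mul]
  have h2 : t * (z * t) = z := by rw [h.zt, ← mul_assoc, h.tt, one_mul]
  have h3 : z * t * z = t := by rw [mul_assoc, ← h.zt, h1]
  have h4 : z * t * t = z := by rw [mul_assoc, h.tt, mul_one]
  have h5 : z * t * (z * t) = 1 := by rw [mul_assoc, h2, h.zz]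
  unfold InV at *
  rcases hb with rfl | rfl | rfl | rfl <;> rcases hc with rfl | rfl | rfl | rfl <;>
    simp [h.zz, h.tt, h1, h2, h3, h4, h5, ← h.zt]

/-- normal form in `F0` -/
theorem F0_nf {φ : G} (hφ : φ ∈ F0 z t u e) : ∃ c k, InV z t c ∧ InV u e k ∧ φ = c * k := by
  have hk : ∀ b c, InV u e b → InV u e c → InV u e (b * c) := by
    intro b c hb hc
    have h1 : u * (u * e) = e := by rw [← mul_assoc, h.uu, one_mul]
    have h2 : e * (u * e) = u := by rw [h.ue, ← mul_assoc, h.ee, one_mul]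
    have h3 : u * e * u = e := by rw [mul_assoc, ← h.ue, h1]
    have h4 : u * e * e = u := by rw [mul_assoc, h.ee, mul_one]
    have h5 : u * e * (u * e) = 1 := by rw [mul_assoc, h2, h.uu]
    unfold InV at *
    rcases hb with rfl | rfl | rfl | rfl <;> rcases hc with rfl | rfl | rfl | rfl <;>
      simp [h.uu, h.ee, h1, h2, h3, h4, h5, ← h.ue]
  have hkF : ∀ k, InV u e k → k ∈ F0 z t u e := by
    rintro k (rfl | rfl | rfl | rfl)
    exacts [one_mem _, u_F0, e_F0, mul_mem u_F0 e_F0]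
  induction hφ using closure_induction with
  | mem s' hs =>
    simp only [Set.mem_insert_iff, Set.mem_singleton_iff] at hs
    rcases hs with rfl | rfl | rfl | rfl
    · exact ⟨_, 1, Or.inr (Or.inl rfl), Or.inl rfl, by simp⟩
    · exact ⟨_, 1, Or.inr (Or.inr (Or.inl rfl)), Or.inl rfl, by simp⟩
    · exact ⟨1, _, Or.inl rfl, Or.inr (Or.inl rfl), by simp⟩
    · exact ⟨1, _, Or.inl rfl, Or.inr (Or.inr (Or.inl rfl)), by simp⟩
  | one => exact ⟨1, 1, Or.inl rfl, Or.inl rfl, by simp⟩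
  | mul b c _ _ ib ic =>
    obtain ⟨c1, k1, hc1, hk1, rfl⟩ := ib
    obtain ⟨c2, k2, hc2, hk2, rfl⟩ := ic
    refine ⟨c1 * c2, k1 * k2, h.inV_mul hc1 hc2, hk _ _ hk1 hk2, ?_⟩
    calc c1 * k1 * (c2 * k2) = c1 * (k1 * c2) * k2 := by group
      _ = c1 * (c2 * k1) * k2 := by rw [h.F0_comm (hkF _ hk1) (inV_F0 hc2)]
      _ = _ := by group
  | inv b hb ib => rwa [inv_of (h.F0_sq hb)]

theorem kF {k : G} (hk : InV u e k) : k ∈ F0 z t u e := by
  rcases hk with rfl | rfl | rfl | rfl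
  exacts [one_mem _, u_F0, e_F0, mul_mem u_F0 e_F0]

theorem inV_x {c : G} (hc : InV z t c) : c * x = x * c := by
  rcases hc with rfl | rfl | rfl | rfl
  · simp
  · exact h.xz.symm
  · exact h.xt.symm
  · rw [mul_assoc, ← h.xt, ← mul_assoc, ← h.xz, mul_assoc]

theorem uex : u * e * x * (u * e)⁻¹ = x * (z * t) := by
  calc u * e * x * (u * e)⁻¹ = u * (e * x * e) * u := by
        rw [mul_inv_rev, inv_of h.uu, inv_of h.ee]; group
    _ = u * x * (t * u) := by rw [h.ex]; group
    _ = u * x * u * t := by rw [← h.ut]; group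
    _ = x * (z * t) := by rw [h.ux]; group

theorem zt_ne : z * t ≠ 1 := fun h' => h.zt1 (by rw [← inv_of h.tt]; exact eq_inv_of_mul_eq_one_left h')

theorem ux_ne : u * x ≠ x * u := by
  intro h'
  have := h.ux
  rw [h', mul_assoc, h.uu, mul_one] at this
  exact h.z1 (by simpa using this.symm)

theorem ex_ne : e * x ≠ x * e := by
  intro h'
  have := h.ex
  rw [h', mul_assoc, h.ee, mul_one] at this
  exact h.t1 (by simpa using this.symm)

theorem uex_ne : u * e * x ≠ x * (u * e) := by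
  intro h'
  have := h.uex
  rw [h', mul_inv_cancel_right] at this
  exact h.zt_ne (by simpa using this.symm)

theorem k_eq {k : G} (hk : InV u e k) (hx : k * x = x * k) : k = 1 := by
  rcases hk with rfl | rfl | rfl | rfl
  exacts [rfl, absurd hx h.ux_ne, absurd hx h.ex_ne, absurd hx h.uex_ne]

theorem inV_of {φ : G} (hφ : φ ∈ F0 z t u e) (hx : φ * x = x * φ) : InV z t φ := by
  obtain ⟨c, k, hc, hk, rfl⟩ := h.F0_nf hφ
  have : k * x = x * k := by
    have h1 := h.inV_x hc
    rw [mul_assoc, ← mul_assoc x, ← h1, mul_assoc] at hx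
    exact mul_left_cancel hx
  rw [h.k_eq hk this, mul_one]; exact hc

/-- step 0 -/
theorem conj_V {c : G} (hc : InV z t c) : ∃ k, InV u e k ∧ c * x = k * x * k⁻¹ := by
  rcases hc with rfl | rfl | rfl | rfl
  · exact ⟨1, Or.inl rfl, by simp⟩
  · exact ⟨u, Or.inr (Or.inl rfl), by rw [inv_of h.uu, h.ux, h.xz]⟩
  · exact ⟨e, Or.inr (Or.inr (Or.inl rfl)), by rw [inv_of h.ee, h.ex, h.xt]⟩
  · exact ⟨u * e, Or.inr (Or.inr (Or.inr rfl)), by rw [h.uex, h.inV_x (Or.inr (Or.inr (Or.inr rfl)))]⟩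

theorem inv0 {φ : G} (hφ : φ ∈ F0 z t u e) (h2 : φ * x * (φ * x) = 1) :
    ∃ k, InV u e k ∧ φ * x = k * x * k⁻¹ := by
  apply h.conj_V (h.inV_of hφ ?_)
  have := inv_of h2
  rw [mul_inv_rev, inv_of h.xx, inv_of (h.F0_sq hφ)] at this
  exact this.symm

theorem aF0 : a ∉ F0 z t u e := fun h' => h.aV (h.inV_of h' (h.Dx a h.aD))

theorem xux : x * u * x⁻¹ = z * u := by
  rw [inv_of h.xx]
  calc x * u * x = x * (u * x * u) * u := by rw [mul_assoc x (u * x * u), mul_assoc (u * x), h.uu]; group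
    _ = z * u := by rw [h.ux, ← mul_assoc, h.xx, one_mul]

theorem xex : x * e * x⁻¹ = t * e := by
  rw [inv_of h.xx]
  calc x * e * x = x * (e * x * e) * e := by rw [mul_assoc x (e * x * e), mul_assoc (e * x), h.ee]; group
    _ = t * e := by rw [h.ex, ← mul_assoc, h.xx, one_mul]

theorem xfx : x * f * x⁻¹ = a * f := by
  rw [inv_of h.xx]
  calc x * f * x = x * (f * x * f) * f := by rw [mul_assoc x (f * x * f), mul_assoc (f * x), h.ff]; group
    _ = a * f := by rw [h.fx, ← mul_assoc, h.xx, one_mul]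

theorem D_comm {d φ : G} (hd : d ∈ D) (hφ : φ ∈ F0 z t u e) : d * φ = φ * d := by
  refine comm_closure ?_ φ hφ
  intro s' hs
  simp only [Set.mem_insert_iff, Set.mem_singleton_iff] at hs
  rcases hs with rfl | rfl | rfl | rfl
  exacts [h.Dz d hd, h.Dt d hd, h.Du d hd, h.De d hd]

theorem C0v {φ : G} (hφ : φ ∈ F0 z t u e) (hv : v * φ * v⁻¹ = φ) : φ ∈ Z0 z u := by
  have hvi := inv_of h.vv
  have hz : v * z * v⁻¹ = z := by rw [h.vz]; group
  have hu : v * u * v⁻¹ = u := by rw [h.vu]; group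
  have ht : v * t * v⁻¹ = z * t := by rw [hvi, h.vt]
  have he : v * e * v⁻¹ = u * e := by rw [hvi, h.ve]
  have hm : ∀ b c : G, v * (b * c) * v⁻¹ = v * b * v⁻¹ * (v * c * v⁻¹) := fun b c => by group
  have u1 : u ≠ 1 := fun h' => h.ux_ne (by rw [h']; simp)
  have uz1 : z * u ≠ 1 := by
    intro h'
    have : u = z := by rw [← inv_of h.zz]; exact (eq_inv_of_mul_eq_one_right h')
    exact h.ux_ne (by rw [this, h.xz])
  obtain ⟨c, k, hc, hk, rfl⟩ := h.F0_nf hφ
  have hc' : (c ∈ Z0 z u ∧ v * c * v⁻¹ = c) ∨ v * c * v⁻¹ = z * c := by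
    rcases hc with rfl | rfl | rfl | rfl
    · exact Or.inl ⟨one_mem _, by simp⟩
    · exact Or.inl ⟨z_Z0, hz⟩
    · exact Or.inr ht
    · exact Or.inr (by rw [hm, hz, ht])
  have hk' : (k ∈ Z0 z u ∧ v * k * v⁻¹ = k) ∨ v * k * v⁻¹ = u * k := by
    rcases hk with rfl | rfl | rfl | rfl
    · exact Or.inl ⟨one_mem _, by simp⟩
    · exact Or.inl ⟨u_Z0, hu⟩
    · exact Or.inr he
    · exact Or.inr (by rw [hm, hu, he])
  have hcu := h.F0_comm (inV_F0 hc) (u_F0 (z := z) (t := t) (e := e))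
  rw [hm] at hv
  rcases hc' with ⟨c1, c2⟩ | c2 <;> rcases hk' with ⟨k1, k2⟩ | k2 <;> rw [c2, k2] at hv
  · exact mul_mem c1 k1
  · exact absurd (by simpa using hv) u1
  · exact absurd (by simpa using hv) h.z1
  · exfalso; apply uz1
    rw [show z * c * (u * k) = z * (c * u) * k by group, hcu,
      show z * (u * c) * k = z * u * (c * k) by group] at hv
    simpa using hv

variable [Finite G]

theorem nF0 {n : G} (h1 : n * z * n⁻¹ ∈ F0 z t u e) (h2 : n * t * n⁻¹ ∈ F0 z t u e)
    (h3 : n * u * n⁻¹ ∈ F0 z t u e) (h4 : n * e * n⁻¹ ∈ F0 z t u e) :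
    n ∈ normalizer ((F0 z t u e : Subgroup G) : Set G) := by
  have := h.xx
  apply nm_closure
  intro s' hs
  simp only [Set.mem_insert_iff, Set.mem_singleton_iff] at hs
  rcases hs with rfl | rfl | rfl | rfl <;> assumption

theorem xF0 : x ∈ normalizer ((F0 z t u e : Subgroup G) : Set G) :=
  h.nF0 (by rw [h.xz]; simpa using z_F0) (by rw [h.xt]; simpa using t_F0)
    (by rw [h.xux]; exact mul_mem z_F0 u_F0) (by rw [h.xex]; exact mul_mem t_F0 e_F0)

theorem vF0 : v ∈ normalizer ((F0 z t u e : Subgroup G) : Set G) :=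
  h.nF0 (by rw [h.vz]; simpa using z_F0) (by rw [inv_of h.vv, h.vt]; exact mul_mem z_F0 t_F0)
    (by rw [h.vu]; simpa using u_F0) (by rw [inv_of h.vv, h.ve]; exact mul_mem u_F0 e_F0)

theorem rF0 : r ∈ normalizer ((F0 z t u e : Subgroup G) : Set G) :=
  h.nF0 (by rw [h.rz]; exact t_F0) (by rw [h.rt]; exact mul_mem z_F0 t_F0)
    (by rw [h.ru]; exact e_F0) (by rw [h.re]; exact mul_mem u_F0 e_F0)

theorem xFF : x ∈ normalizer ((FF z t u e a f : Subgroup G) : Set G) := by
  apply nm_closure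
  intro s' hs
  simp only [Set.mem_insert_iff, Set.mem_singleton_iff] at hs
  rcases hs with rfl | rfl | rfl | rfl | rfl | rfl
  · exact F0_le (cm h.xF0 z_F0)
  · exact F0_le (cm h.xF0 t_F0)
  · exact F0_le (cm h.xF0 u_F0)
  · exact F0_le (cm h.xF0 e_F0)
  · rw [← h.Dx _ h.aD, mul_inv_cancel_right]; exact a_FF
  · rw [h.xfx]; exact mul_mem a_FF f_FF

theorem sFF : s ∈ normalizer ((FF z t u e a f : Subgroup G) : Set G) := by
  apply nm_closure
  intro s' hs
  simp only [Set.mem_insert_iff, Set.mem_singleton_iff] at hs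
  rcases hs with rfl | rfl | rfl | rfl | rfl | rfl
  · rw [h.sz, mul_inv_cancel_right]; exact F0_le z_F0
  · rw [h.st]; exact a_FF
  · rw [h.su, mul_inv_cancel_right]; exact F0_le u_F0
  · rw [h.se]; exact f_FF
  · rw [h.sa]; exact mul_mem (F0_le t_F0) a_FF
  · rcases h.sf with h' | h' <;> rw [h']
    · exact mul_mem f_FF (F0_le e_F0)
    · exact mul_mem (mul_mem f_FF (F0_le e_F0)) (F0_le z_F0)

theorem xZ0 : x ∈ normalizer ((Z0 z u : Subgroup G) : Set G) := by
  apply nm_closure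
  intro s' hs
  simp only [Set.mem_insert_iff, Set.mem_singleton_iff] at hs
  rcases hs with rfl | rfl
  · rw [h.xz, mul_inv_cancel_right]; exact z_Z0
  · rw [h.xux]; exact mul_mem z_Z0 u_Z0

theorem xD : x ∈ normalizer (D : Set G) :=
  mem_normalizer_of_conj_mem fun d hd => by rw [← h.Dx d hd]; simpa using hd

theorem rD : r ∈ normalizer (D : Set G) := by
  have h1 := h.aD; have h2 := h.a1D; have h3 := h.a2D
  have hr : r * r = r⁻¹ := eq_inv_of_mul_eq_one_left h.r3
  rw [h.gen] at h1 h2 h3 ⊢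
  apply nm_closure
  intro s' hs
  simp only [Set.mem_insert_iff, Set.mem_singleton_iff] at hs
  rcases hs with rfl | rfl | rfl
  · exact h2
  · rw [show r * (r * a * r⁻¹) * r⁻¹ = r * r * a * (r * r)⁻¹ by group, hr, inv_inv]; exact h3
  · rw [show r * (r⁻¹ * a * r) * r⁻¹ = a by group]; exact h1

theorem v_conj {g : G} (hg : v * g = g * v) :
    v * (r * g * r⁻¹) * v⁻¹ = r⁻¹ * g * r ∧ v * (r⁻¹ * g * r) * v⁻¹ = r * g * r⁻¹ := by
  have h1 : v * r * v⁻¹ = r⁻¹ := by rw [inv_of h.vv, h.vr]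
  have h2 : v * g * v⁻¹ = g := by rw [hg]; group
  constructor
  · rw [show v * (r * g * r⁻¹) * v⁻¹ = v * r * v⁻¹ * (v * g * v⁻¹) * (v * r * v⁻¹)⁻¹ by group, h1, h2, inv_inv]
  · rw [show v * (r⁻¹ * g * r) * v⁻¹ = (v * r * v⁻¹)⁻¹ * (v * g * v⁻¹) * (v * r * v⁻¹) by group, h1, h2,
      inv_inv]

theorem vD : v ∈ normalizer (D : Set G) := by
  have h1 := h.aD; have h2 := h.a1D; have h3 := h.a2D
  obtain ⟨h4, h5⟩ := h.v_conj h.va
  rw [h.gen] at h1 h2 h3 ⊢
  apply nm_closure
  intro s' hs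
  simp only [Set.mem_insert_iff, Set.mem_singleton_iff] at hs
  rcases hs with rfl | rfl | rfl
  · rw [h.va]; simpa using h1
  · rw [h4]; exact h3
  · rw [h5]; exact h2

theorem card_F0 : 16 ≤ Nat.card (F0 z t u e) := by
  set B2 : Subgroup G := F0 z t u e ⊓ centralizer {x}
  set B1 : Subgroup G := B2 ⊓ centralizer {v}
  have hz2 : z ∈ B2 := ⟨z_F0, mem_centralizer_singleton_iff.mpr h.xz.symm⟩
  have c1 := two_mul_le (A := ⊥) (B := B1) bot_le (b := z)
    ⟨hz2, mem_centralizer_singleton_iff.mpr h.vz.symm⟩ (by simpa using h.z1)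
  have c2 := two_mul_le (A := B1) (B := B2) inf_le_left (b := t)
    ⟨t_F0, mem_centralizer_singleton_iff.mpr h.xt.symm⟩ (by
      rintro ⟨-, h'⟩
      have h1 := mem_centralizer_singleton_iff.mp h'
      have h2 := h.vt
      rw [← h1, mul_assoc, h.vv, mul_one] at h2
      exact h.z1 (by simpa using h2.symm))
  have hn : u ∈ normalizer (B2 : Set G) := mem_normalizer_of_conj_mem fun g hg => by
    rw [h.F0_comm u_F0 hg.1]; simpa using hg
  have hu : u * u ∈ B2 := by rw [h.uu]; exact one_mem _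
  have c3 := two_mul_le (le_ext (hn := hn) (hx := hu)) self_ext
    (fun h' => h.ux_ne (mem_centralizer_singleton_iff.mp h'.2))
  have c4 := two_mul_le (ext_le (hn := hn) (hx := hu) (K := F0 z t u e) inf_le_left u_F0) e_F0 (by
    rintro (h' | h')
    · exact h.ex_ne (mem_centralizer_singleton_iff.mp h'.2)
    · apply h.uex_ne; rw [h.ue]; exact mem_centralizer_singleton_iff.mp h'.2)
  simp only [card_bot] at c1
  omega

theorem yF0 {φ : G} (hφ : φ ∈ F0 z t u e) : φ * x * φ⁻¹ * x ∈ F0 z t u e := by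
  have := mul_mem hφ (cm h.xF0 (inv_mem hφ))
  rwa [inv_of h.xx, show φ * (x * φ⁻¹ * x) = φ * x * φ⁻¹ * x by group] at this

theorem yf : f * x * f⁻¹ * x = a := by
  rw [inv_of h.ff, h.fx, ← h.Dx a h.aD, mul_assoc, h.xx, mul_one]

theorem card_FF : 64 ≤ Nat.card (FF z t u e a f) := by
  have hn : a ∈ normalizer ((F0 z t u e : Subgroup G) : Set G) := mem_normalizer_of_conj_mem fun g hg => by
    rw [h.D_comm h.aD hg]; simpa using hg
  have hu : a * a ∈ F0 z t u e := by rw [h.aa]; exact one_mem _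
  have c3 := two_mul_le (le_ext (hn := hn) (hx := hu)) self_ext h.aF0
  have c4 := two_mul_le (ext_le (hn := hn) (hx := hu) (K := FF z t u e a f) F0_le a_FF) f_FF (by
    rintro (h' | h')
    · exact h.aF0 (h.yf ▸ h.yF0 h')
    · apply h.aF0
      have := h.yF0 h'
      rwa [show f * a * x * (f * a)⁻¹ * x = f * (a * x) * a⁻¹ * f⁻¹ * x by group, h.Dx a h.aD,
        show f * (x * a) * a⁻¹ * f⁻¹ * x = f * x * f⁻¹ * x by group, h.yf] at this)
  have := h.card_F0
  omega

end EH

end Cfsg.Agent.CONW.Y
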