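import Cfsg.Agent.CONW.YE1

/-! Wreathed case, part 2: the groups `Y1`, `Y2`, `H0`. -/

set_option autoImplicit false
set_option linter.unusedSectionVars false

namespace Cfsg.Agent.CONW.Y

open Subgroup H42 E45

variable {G : Type*} [Group G]

/-- `Y = C(F0)` -/
def YY (z t u e : G) : Subgroup G := centralizer ((F0 z t u e : Subgroup G) : Set G)

theorem mem_YY {z t u e g : G} : g ∈ YY z t u e ↔ ∀ φ ∈ F0 z t u e, φ * g = g * φ := mem_centralizer_iff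

theorem YY_conj {z t u e g φ : G} (hg : g ∈ YY z t u e) (hφ : φ ∈ F0 z t u e) : g * φ * g⁻¹ = φ := by
  rw [← mem_YY.mp hg φ hφ]; group

theorem nYY {z t u e n : G} (hn : n ∈ normalizer ((F0 z t u e : Subgroup G) : Set G)) :
    n ∈ normalizer ((YY z t u e : Subgroup G) : Set G) := normalizer_le_normalizer_centralizer _ hn

/-- membership in `Y1 = D F0` -/
def M1 (z t u e : G) (D : Subgroup G) (y : G) : Prop := ∃ d ∈ D, ∃ φ ∈ F0 z t u e, y = φ * d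

/-- membership in `Y2` -/
def M2 (x z t u e : G) (D : Subgroup G) (g : G) : Prop :=
  g ∈ YY z t u e ∧ (∀ d ∈ D, g * d * g⁻¹ * d⁻¹ ∈ F0 z t u e) ∧ M1 z t u e D (g * x * g⁻¹ * x)

namespace EH

variable {x z t u e a f v s r : G} {D : Subgroup G} (h : EH x z t u e a f v s r D)
include h

theorem D_YY {d : G} (hd : d ∈ D) : d ∈ YY z t u e := mem_YY.mpr fun _ hφ => (h.D_comm hd hφ).symm

theorem FF_YY {d : G} (hd : d ∈ FF z t u e a f) : d ∈ YY z t u e :=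
  mem_YY.mpr fun _ hφ => h.FF_comm (F0_le hφ) hd

theorem x_YY : x ∉ YY z t u e := fun h' => h.ux_ne (mem_YY.mp h' u u_F0)

/-- step 1 -/
theorem P0 {g : G} (hg : g ∈ YY z t u e) (hy : g * x * g⁻¹ * x ∈ F0 z t u e) : M1 z t u e D g := by
  have e1 : g * x * g⁻¹ * x * x = g * x * g⁻¹ := by rw [mul_assoc _ x x, h.xx, mul_one]
  obtain ⟨k, hk, e2⟩ := h.inv0 hy (by
    rw [e1, show g * x * g⁻¹ * (g * x * g⁻¹) = g * (x * x) * g⁻¹ by group, h.xx]; group)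
  rw [e1] at e2
  have hkY : k ∈ YY z t u e := h.FF_YY (F0_le (h.kF hk))
  have hm : k⁻¹ * g ∈ YY z t u e := mul_mem (inv_mem hkY) hg
  have hx : k⁻¹ * g * x = x * (k⁻¹ * g) := by
    calc k⁻¹ * g * x = k⁻¹ * (g * x * g⁻¹) * g := by group
      _ = _ := by rw [e2]; group
  rcases h.cen _ hx (mem_YY.mp hm z z_F0).symm (mem_YY.mp hm t t_F0).symm with h1 | h1
  · exact ⟨_, h1, k, h.kF hk, by group⟩
  · exact absurd (by have := mul_mem (h.D_YY h1) (inv_mem hm); rwa [mul_inv_cancel_right] at this) h.x_YY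

theorem M1_mul {a' b : G} (ha : M1 z t u e D a') (hb : M1 z t u e D b) : M1 z t u e D (a' * b) := by
  obtain ⟨d, hd, φ, hφ, rfl⟩ := ha
  obtain ⟨d', hd', φ', hφ', rfl⟩ := hb
  refine ⟨_, mul_mem hd hd', _, mul_mem hφ hφ', ?_⟩
  rw [show φ * d * (φ' * d') = φ * (d * φ') * d' by group, h.D_comm hd hφ']; group

theorem M1_inv {a' : G} (ha : M1 z t u e D a') : M1 z t u e D a'⁻¹ := by
  obtain ⟨d, hd, φ, hφ, rfl⟩ := ha
  exact ⟨_, inv_mem hd, _, inv_mem hφ, by rw [mul_inv_rev, h.D_comm (inv_mem hd) (inv_mem hφ)]⟩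

theorem M1_cmt {g y : G} (hg : g ∈ YY z t u e) (hc : ∀ d ∈ D, g * d * g⁻¹ * d⁻¹ ∈ F0 z t u e)
    (hy : M1 z t u e D y) : ∃ c ∈ F0 z t u e, g * y * g⁻¹ = c * y := by
  obtain ⟨d, hd, φ, hφ, rfl⟩ := hy
  refine ⟨_, hc d hd, ?_⟩
  calc g * (φ * d) * g⁻¹ = g * φ * g⁻¹ * (g * d * g⁻¹ * d⁻¹) * d := by group
    _ = φ * (g * d * g⁻¹ * d⁻¹) * d := by rw [YY_conj hg hφ]
    _ = _ := by rw [h.F0_comm hφ (hc d hd)]; group

theorem M1_F0 {φ : G} (hφ : φ ∈ F0 z t u e) : M1 z t u e D φ := by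
  have := h.xx
  exact ⟨1, one_mem _, φ, hφ, by simp⟩

theorem M1_D {d : G} (hd : d ∈ D) : M1 z t u e D d := by
  have := h.xx
  exact ⟨d, hd, 1, one_mem _, by simp⟩

theorem y_mul {g k : G} (hg : M2 x z t u e D g) (hk : M2 x z t u e D k) :
    ∃ c ∈ F0 z t u e, g * k * x * (g * k)⁻¹ * x = c * (k * x * k⁻¹ * x) * (g * x * g⁻¹ * x) := by
  obtain ⟨c, hc, e1⟩ := h.M1_cmt hg.1 hg.2.1 hk.2.2
  refine ⟨c, hc, ?_⟩
  rw [← e1]
  calc g * k * x * (g * k)⁻¹ * x = g * (k * x * k⁻¹ * (x * x)) * g⁻¹ * x := by rw [h.xx]; group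
    _ = _ := by group

/-- the group `Y2` -/
def Y2 : Subgroup G where
  carrier := {g | M2 x z t u e D g}
  one_mem' := ⟨one_mem _, fun d _ => by simp, by simpa [h.xx] using h.M1_F0 (one_mem _)⟩
  mul_mem' := by
    intro g k hg hk
    refine ⟨mul_mem hg.1 hk.1, fun d hd => ?_, ?_⟩
    · have := mul_mem (hk.2.1 d hd) (hg.2.1 d hd)
      rw [← YY_conj hg.1 (hk.2.1 d hd)] at this
      rwa [show g * (k * d * k⁻¹ * d⁻¹) * g⁻¹ * (g * d * g⁻¹ * d⁻¹) = g * k * d * (g * k)⁻¹ * d⁻¹ by group]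
        at this
    · obtain ⟨c, hc, e1⟩ := h.y_mul hg hk
      rw [e1]
      exact h.M1_mul (h.M1_mul (h.M1_F0 hc) hk.2.2) hg.2.2
  inv_mem' := by
    intro g hg
    have hc : ∀ d ∈ D, g⁻¹ * d * g⁻¹⁻¹ * d⁻¹ ∈ F0 z t u e := by
      intro d hd
      have := inv_mem (hg.2.1 d hd)
      rw [← YY_conj (inv_mem hg.1) this] at this
      rwa [show g⁻¹ * (g * d * g⁻¹ * d⁻¹)⁻¹ * g⁻¹⁻¹ = g⁻¹ * d * g⁻¹⁻¹ * d⁻¹ * (d * (d⁻¹ * g⁻¹ * g)) by group,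
        show d * (d⁻¹ * g⁻¹ * g) = 1 by group, mul_one] at this
    refine ⟨inv_mem hg.1, hc, ?_⟩
    obtain ⟨c, hc', e1⟩ := h.M1_cmt (inv_mem hg.1) hc (h.M1_inv hg.2.2)
    have e2 : g⁻¹ * x * g⁻¹⁻¹ * x = g⁻¹ * (g * x * g⁻¹ * x)⁻¹ * g⁻¹⁻¹ := by
      simp only [mul_inv_rev, inv_inv, inv_of h.xx]; group
    rw [e2, e1]
    exact h.M1_mul (h.M1_F0 hc') (h.M1_inv hg.2.2)

theorem mem_Y2 {g : G} : g ∈ h.Y2 ↔ M2 x z t u e D g := Iff.rfl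

theorem Y2_YY : h.Y2 ≤ YY z t u e := fun _ hg => hg.1

variable [Finite G]

theorem F0_Y2 : F0 z t u e ≤ h.Y2 := fun φ hφ =>
  ⟨h.FF_YY (F0_le hφ), fun d hd => by rw [← h.D_comm hd hφ]; simp, h.M1_F0 (h.yF0 hφ)⟩

theorem D_cmt {d d' : G} (hd : d ∈ D) (hd' : d' ∈ D) : d * d' * d⁻¹ * d'⁻¹ ∈ F0 z t u e := by
  rw [cmt_eq]
  exact mul_mem (mul_mem (inV_F0 (h.Dsq _ hd)) (inV_F0 (h.Dsq _ (mul_mem (inv_mem hd) hd'))))
    (inV_F0 (h.Dsq _ (inv_mem hd')))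

theorem yD {d : G} (hd : d ∈ D) : d * x * d⁻¹ * x = 1 := by rw [h.Dx d hd, mul_inv_cancel_right, h.xx]

theorem D_Y2 : D ≤ h.Y2 := fun d hd =>
  ⟨h.D_YY hd, fun _ hd' => h.D_cmt hd hd', by rw [h.yD hd]; exact h.M1_F0 (one_mem _)⟩

theorem M1_Y2 {y : G} (hy : M1 z t u e D y) : y ∈ h.Y2 := by
  obtain ⟨d, hd, φ, hφ, rfl⟩ := hy
  exact mul_mem (h.F0_Y2 hφ) (h.D_Y2 hd)

theorem f_Y2 : f ∈ h.Y2 :=
  ⟨h.FF_YY f_FF, fun d hd => by rw [inv_of h.ff]; exact h.fD d hd, by rw [h.yf]; exact h.M1_D h.aD⟩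

theorem FF_Y2 : FF z t u e a f ≤ h.Y2 := by
  rw [FF, closure_le]
  intro s' hs
  simp only [Set.mem_insert_iff, Set.mem_singleton_iff] at hs
  rcases hs with rfl | rfl | rfl | rfl | rfl | rfl
  exacts [h.F0_Y2 z_F0, h.F0_Y2 t_F0, h.F0_Y2 u_F0, h.F0_Y2 e_F0, h.D_Y2 h.aD, h.f_Y2]

theorem nY2 {n : G} (hx : n * x = x * n) (hD : n ∈ normalizer (D : Set G))
    (hF : n ∈ normalizer ((F0 z t u e : Subgroup G) : Set G)) : n ∈ normalizer (h.Y2 : Set G) := by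
  apply mem_normalizer_of_conj_mem
  intro g hg
  refine ⟨cm (nYY hF) hg.1, fun d hd => ?_, ?_⟩
  · have := cm hF (hg.2.1 _ (cm' hD hd))
    rwa [show n * (g * (n⁻¹ * d * n) * g⁻¹ * (n⁻¹ * d * n)⁻¹) * n⁻¹ = n * g * n⁻¹ * d * (n * g * n⁻¹)⁻¹ * d⁻¹
      by group] at this
  · obtain ⟨d, hd, φ, hφ, e1⟩ := hg.2.2
    refine ⟨_, cm hD hd, _, cm hF hφ, ?_⟩
    have hx' : x = n * x * n⁻¹ := by rw [hx]; group
    calc n * g * n⁻¹ * x * (n * g * n⁻¹)⁻¹ * x = n * g * n⁻¹ * (n * x * n⁻¹) * (n * g * n⁻¹)⁻¹ * (n * x * n⁻¹) := by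
          rw [← hx']
      _ = n * (g * x * g⁻¹ * x) * n⁻¹ := by group
      _ = _ := by rw [e1]; group

theorem xY2 : x ∈ normalizer (h.Y2 : Set G) := h.nY2 rfl h.xD h.xF0
theorem vY2 : v ∈ normalizer (h.Y2 : Set G) := h.nY2 h.vx h.vD h.vF0
theorem rY2 : r ∈ normalizer (h.Y2 : Set G) := h.nY2 h.rx h.rD h.rF0

theorem f1_Y2 : r * f * r⁻¹ ∈ h.Y2 := cm h.rY2 h.f_Y2
theorem f2_Y2 : r⁻¹ * f * r ∈ h.Y2 := cm' h.rY2 h.f_Y2

theorem yf1 : r * f * r⁻¹ * x * (r * f * r⁻¹)⁻¹ * x = r * a * r⁻¹ := by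
  have hx' : x = r * x * r⁻¹ := by rw [h.rx]; group
  rw [← h.yf]
  calc r * f * r⁻¹ * x * (r * f * r⁻¹)⁻¹ * x = r * f * r⁻¹ * (r * x * r⁻¹) * (r * f * r⁻¹)⁻¹ * (r * x * r⁻¹) := by
        rw [← hx']
    _ = _ := by group

theorem yf2 : r⁻¹ * f * r * x * (r⁻¹ * f * r)⁻¹ * x = r⁻¹ * a * r := by
  have hx' : x = r⁻¹ * x * r := by rw [mul_assoc, ← h.rx]; group
  rw [← h.yf]
  calc r⁻¹ * f * r * x * (r⁻¹ * f * r)⁻¹ * x = r⁻¹ * f * r * (r⁻¹ * x * r) * (r⁻¹ * f * r)⁻¹ * (r⁻¹ * x * r) := by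
        rw [← hx']
    _ = _ := by group

theorem Y2_sq {g : G} (hg : g ∈ h.Y2) : g * g ∈ F0 z t u e := by
  have hD : ∀ d ∈ D, g * g * d = d * (g * g) := by
    intro d hd
    have hc := hg.2.1 d hd
    have e2 : g * g * d * (g * g)⁻¹ = d := by
      calc g * g * d * (g * g)⁻¹ = g * (g * d * g⁻¹ * d⁻¹) * g⁻¹ * (g * d * g⁻¹ * d⁻¹) * d := by group
        _ = d := by rw [YY_conj hg.1 hc, h.F0_sq hc, one_mul]
    exact mul_inv_eq_iff_eq_mul.mp e2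
  obtain ⟨c, hc, e1⟩ := h.y_mul hg hg
  have hy : g * g * x * (g * g)⁻¹ * x ∈ F0 z t u e := by
    obtain ⟨d, hd, φ, hφ, e2⟩ := hg.2.2
    rw [e1, e2, show c * (φ * d) * (φ * d) = c * φ * (d * φ) * d by group, h.D_comm hd hφ,
      show c * φ * (φ * d) * d = c * φ * φ * (d * d) by group]
    exact mul_mem (mul_mem (mul_mem hc hφ) hφ) (inV_F0 (h.Dsq d hd))
  obtain ⟨d, hd, φ, hφ, e2⟩ := h.P0 (mul_mem hg.1 hg.1) hy
  rw [e2]
  refine mul_mem hφ (inV_F0 (h.DZ d hd fun c' hc' => ?_))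
  have := hD c' hc'
  rw [e2, ← mul_assoc, h.D_comm hc' hφ, mul_assoc, mul_assoc] at this
  exact mul_left_cancel this

theorem Y2_four {g : G} (hg : g ∈ h.Y2) : g ^ 4 = 1 := by
  rw [show g ^ 4 = g * g * (g * g) by simp [pow_succ, mul_assoc], h.F0_sq (h.Y2_sq hg)]

theorem Y2_cmt {g k : G} (hg : g ∈ h.Y2) (hk : k ∈ h.Y2) : g * k * g⁻¹ * k⁻¹ ∈ F0 z t u e := by
  rw [cmt_eq]
  exact mul_mem (mul_mem (h.Y2_sq hg) (h.Y2_sq (mul_mem (inv_mem hg) hk))) (h.Y2_sq (inv_mem hk))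

theorem exists_y {d : G} (hd : d ∈ D) : ∃ k ∈ h.Y2, ∃ φ ∈ F0 z t u e, k * x * k⁻¹ * x = φ * d := by
  have hD : ∀ d ∈ closure {a, r * a * r⁻¹, r⁻¹ * a * r}, d ∈ D := fun d hd => h.gen ▸ hd
  rw [h.gen] at hd
  induction hd using closure_induction with
  | mem s' hs =>
    simp only [Set.mem_insert_iff, Set.mem_singleton_iff] at hs
    rcases hs with rfl | rfl | rfl
    · exact ⟨_, h.f_Y2, 1, one_mem _, by rw [h.yf, one_mul]⟩
    · exact ⟨_, h.f1_Y2, 1, one_mem _, by rw [h.yf1, one_mul]⟩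
    · exact ⟨_, h.f2_Y2, 1, one_mem _, by rw [h.yf2, one_mul]⟩
  | one => exact ⟨1, one_mem _, 1, one_mem _, by simp [h.xx]⟩
  | mul b c hb hc ib ic =>
    obtain ⟨k, hk, φ, hφ, e1⟩ := ib
    obtain ⟨k', hk', φ', hφ', e2⟩ := ic
    obtain ⟨c', hc', e3⟩ := h.y_mul hk' hk
    refine ⟨_, mul_mem hk' hk, _, mul_mem (mul_mem hc' hφ) hφ', ?_⟩
    rw [e3, e1, e2, show c' * (φ * b) * (φ' * c) = c' * φ * (b * φ') * c by group, h.D_comm (hD b hb) hφ']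
    group
  | inv b hb ib =>
    obtain ⟨k, hk, φ, hφ, e1⟩ := ib
    exact ⟨k, hk, _, mul_mem hφ (inV_F0 (h.Dsq b (hD b hb))), by rw [e1]; group⟩

/-- step 3 -/
theorem I2 {g : G} (hg : g ∈ h.Y2) (h2 : g * x * (g * x) = 1) : ∃ k ∈ h.Y2, g * x = k * x * k⁻¹ := by
  have e0 : x * g⁻¹ * x = g := by
    have := inv_of h2
    rw [mul_inv_rev, inv_of h.xx] at this
    rw [this, mul_assoc, h.xx, mul_one]
  have hy : g * x * g⁻¹ * x ∈ F0 z t u e := by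
    rw [show g * x * g⁻¹ * x = g * (x * g⁻¹ * x) by group, e0]; exact h.Y2_sq hg
  obtain ⟨d, hd, φ, hφ, rfl⟩ := h.P0 hg.1 hy
  obtain ⟨k, hk, ψ, hψ, e1⟩ := h.exists_y hd
  have hm := mul_mem hφ (inv_mem hψ)
  have e2 : φ * d * x = k * (φ * ψ⁻¹ * x) * k⁻¹ := by
    calc φ * d * x = φ * ψ⁻¹ * (ψ * d) * x := by group
      _ = φ * ψ⁻¹ * (k * x * k⁻¹) * (x * x) := by rw [← e1]; group
      _ = k * (φ * ψ⁻¹) * k⁻¹ * (k * x * k⁻¹) := by rw [h.xx, YY_conj hk.1 hm, mul_one]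
      _ = _ := by group
  obtain ⟨k', hk', e3⟩ := h.inv0 hm (by
    rw [e2] at h2
    have : φ * ψ⁻¹ * x * (φ * ψ⁻¹ * x) = k⁻¹ * (k * (φ * ψ⁻¹ * x) * k⁻¹ * (k * (φ * ψ⁻¹ * x) * k⁻¹)) * k := by
      group
    rw [this, h2]; group)
  exact ⟨_, mul_mem hk (h.F0_Y2 (h.kF hk')), by rw [e2, e3]; group⟩

/-- step 4 -/
theorem card_Y2 : 1024 ≤ Nat.card h.Y2 := by
  have hex : ∀ d : D, ∃ k : h.Y2, ∃ κ, InV u e κ ∧ (k : G) * x * (k : G)⁻¹ = κ * d * x := by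
    intro d
    obtain ⟨k, hk, φ, hφ, e1⟩ := h.exists_y d.2
    obtain ⟨c, κ, hc, hκ, rfl⟩ := h.F0_nf hφ
    obtain ⟨k', hk', e2⟩ := h.conj_V hc
    refine ⟨⟨k * k', mul_mem hk (h.F0_Y2 (h.kF hk'))⟩, κ, hκ, ?_⟩
    have hcF : c ∈ F0 z t u e := inV_F0 hc
    calc k * k' * x * (k * k')⁻¹ = k * (k' * x * k'⁻¹) * k⁻¹ := by group
      _ = k * c * k⁻¹ * (k * x * k⁻¹ * (x * x)) := by rw [← e2, h.xx]; group
      _ = c * (k * x * k⁻¹ * x) * x := by rw [YY_conj hk.1 hcF]; group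
      _ = c * c * κ * d * x := by rw [e1]; group
      _ = _ := by rw [h.F0_sq hcF, one_mul]
  choose k κ hκ hk using hex
  let Φ : D × D → h.Y2 := fun p => k p.1 * ⟨p.2, h.D_Y2 p.2.2⟩
  have hinj : Function.Injective Φ := by
    rintro ⟨d, d1⟩ ⟨d', d2⟩ hh
    have e1 : (k d : G) * d1 = k d' * d2 := congrArg Subtype.val hh
    have e2 : ∀ (d d1 : D), (k d : G) * d1 * x * ((k d : G) * d1)⁻¹ = κ d * d * x := by
      intro d d1
      rw [← hk d, mul_assoc _ _ x, h.Dx _ d1.2]; group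
    have e3 : κ d * d = κ d' * d' := by
      have := e2 d d1
      rw [e1, e2 d' d2] at this
      exact (mul_right_cancel this).symm
    have e4 : (κ d')⁻¹ * κ d = d' * (d : G)⁻¹ := by
      calc (κ d')⁻¹ * κ d = (κ d')⁻¹ * (κ d * d) * (d : G)⁻¹ := by group
        _ = _ := by rw [e3]; group
    have e5 : κ d = κ d' := by
      obtain ⟨c, κ', hc, hκ', e6⟩ := h.F0_nf (mul_mem (inv_mem (h.kF (hκ d'))) (h.kF (hκ d)))
      have hx : (κ d')⁻¹ * κ d * x = x * ((κ d')⁻¹ * κ d) := by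
        rw [e4]; exact h.Dx _ (mul_mem d'.2 (inv_mem d.2))
      have hK : InV u e ((κ d')⁻¹ * κ d) := by
        have h1 : u * (u * e) = e := by rw [← mul_assoc, h.uu, one_mul]
        have h2 : e * (u * e) = u := by rw [h.ue, ← mul_assoc, h.ee, one_mul]
        have h3 : u * e * u = e := by rw [mul_assoc, ← h.ue, h1]
        have h4 : u * e * e = u := by rw [mul_assoc, h.ee, mul_one]
        have h5 : u * e * (u * e) = 1 := by rw [mul_assoc, h2, h.uu]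
        rw [inv_of (h.F0_sq (h.kF (hκ d')))]
        have a1 := hκ d; have a2 := hκ d'
        unfold InV at *
        rcases a1 with a1 | a1 | a1 | a1 <;> rcases a2 with a2 | a2 | a2 | a2 <;> rw [a1, a2] <;>
          simp [h.uu, h.ee, h1, h2, h3, h4, h5, ← h.ue]
      have := h.k_eq hK hx
      exact (inv_mul_eq_one.mp this).symm
    have e6 : d = d' := by rw [e5] at e3; exact Subtype.ext (mul_left_cancel e3)
    subst e6
    exact Prod.ext rfl (Subtype.ext (mul_left_cancel e1))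
  have := Nat.card_le_card_of_injective Φ hinj
  rw [Nat.card_prod] at this
  have h32 := h.card
  nlinarith

end EH

end Cfsg.Agent.CONW.Y
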