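import Cfsg.Agent.CONW.YH1
import Cfsg.Agent.CONW.C3Top
import Cfsg.Agent.CONW.Cert.ZHe

/-! The homomorphism from the model of `Co3`, obtained from the two graphs. -/

set_option autoImplicit false
set_option maxRecDepth 100000

namespace Cfsg.Agent.CONW.Y

open Cfsg.Agent.H14 Cfsg.Agent.H58 Cfsg.Agent.H78 Subgroup

namespace Hm

variable {G : Type*} [Group G] {el : ℕ → G} {θ : PC →* G} {P N : Subgroup (C3.K × G)}
  [Finite G] (h : S2 el θ) (hP : Gr MK el lP P) (hN : Gr MK el lN N)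
include h hP hN

theorem card_H : Finite (gen (pr MK el) lH) ∧ Nat.card (gen (pr MK el) lH) ≤ 2903040 := by
  have h1 := card_le_of_relIndex (ZP.relIndex_le (rule_pr MK (rule_or h.rule hP.chk (by decide +kernel))
    (by decide +kernel)) _ fun _ => el_mem_gen _) h.card_prT
  have e : ∀ l : List ℕ, (∀ n ∈ l, n ≠ 22 ∧ n ≠ ivf iv 22) → gen (pr MK (upd el 22 (ev el []))) l = gen (pr MK el) l :=
    fun l hl => gen_congr fun n hn => Prod.ext rfl (upd_ne el _ (hl n hn))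
  have h2 := ZHc.relIndex_le (rule_pr MK (rule_c h hP hN (u := []) (by decide) (rel_c h hP hN)) mod_c)
    (gen (pr MK (upd el 22 (ev el []))) lP) fun _ => el_mem_gen _
  change relIndex _ (gen _ _) ≠ 0 ∧ relIndex _ (gen _ _) ≤ 15 at h2
  rw [e lP (by decide +kernel), e _ (by decide +kernel)] at h2
  exact card_le_of_relIndex (ZHe.relIndex_le (rule_pr MK (rule_or h.rule (or_chk (mem_chk (L := [wa, wb, wc]) (by
      simp only [List.mem_cons, List.not_mem_nil, or_false, forall_eq_or_imp, forall_eq]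
      exact ⟨rel_a h hP hN, rel_b h hP hN, rel_c h hP hN⟩)) (or_chk hP.chk hN.chk)) (by decide +kernel))
    (by decide +kernel)) _ fun x hx => el_mem_gen _ ((by decide : ∀ x ∈ [1, 2, 3, 4, 5, 6, 7, 8, 9, 10, 14, 16, 20],
      x ∈ [1, 2, 3, 4, 5, 6, 7, 8, 9, 14, 16, 10, 20]) x hx)) (card_le_of_relIndex h2 h1)

omit hP in
theorem rel_5 {w : List ℕ} (hw : NZ el L5 w) (hm : Nat.beq (MK.pw (rp w 5)) (MK.pw []) = true)
    (hd : ∀ u ∈ subw L5, Nat.beq (atP (w ++ u) (1 : Fin 276)) (atP (u ++ w) (1 : Fin 276)) = true → u = []) :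
    ev el (rp w 5) = 1 := by
  obtain ⟨u, hu, e⟩ := surv h hN 1 tst5 (hw.rp 5) hm
  have h1 := hN.grw_le (L := L5) (by decide +kernel)
  have h2 := (hN.eq_iff (h1 ((mem_normalizer_iff.1 hw _).1 (mem_grw hu))) (h1 (mem_grw hu))).1 (by
    change ev el w * ev el u * (ev el w)⁻¹ = _
    rw [← e, ev_rp, ← conj_pow, mul_inv_cancel_right])
  rw [e, hd u hu (atP_of (by rw [ev_append, ev_append]; exact mul_inv_eq_iff_eq_mul.1 h2) 1), ev_nil]

end Hm

open Hm

theorem S2.exists_hom {G : Type*} [Group G] [Finite G] {el : ℕ → G} {θ : PC →* G} (h : S2 el θ) :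
    ∃ ψ : C3.K →* G, ∀ n ≤ 21, ψ (pY n) = el n := by
  obtain ⟨P, hP⟩ := h.grP
  obtain ⟨N, hN⟩ := h.grN
  obtain ⟨L, hL, hC⟩ := C3.exists_cf
  have e1 : ∀ n ≤ 8, ((L.el 1 n : C3.K), ev el (om n)) ∈ gen (pr MK el) lH := fun n hn => by
    have e := L.map_el (centralizer ({C3.LK.z} : Set C3.K)).subtype 1 n
    rw [hL, C3.Lt.el_le _ _ C3.gK hn, C3.el_K, pK_om n (by omega)] at e
    rw [show (L.el 1 n : C3.K) = ev MK.p (om n) from e.symm, ← ev_pr]
    exact ev_mem (rule_pr MK h.rule rfl) (fun _ => el_mem_gen _)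
      ((by decide +kernel : ∀ n ≤ 8, okw lH (om n) = true) n hn)
  obtain ⟨φ, hφ, -⟩ := exists_hom_of_graph_le (centralizer ({C3.LK.z} : Set C3.K)) (gen (pr MK el) lH)
    (fun a ha => by
      obtain ⟨⟨_, g⟩, k, rfl⟩ := ((closure_le (((gen (pr MK el) lH).map (MonoidHom.fst _ _)).comap
        (centralizer ({C3.LK.z} : Set C3.K)).subtype)).2 fun b hb => by
          simp only [C3.Lt.gens, Set.mem_insert_iff, Set.mem_singleton_iff] at hb
          rcases hb with rfl | rfl | rfl | rfl | rfl | rfl | rfl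
          exacts [⟨_, e1 1 (by decide), rfl⟩, ⟨_, e1 2 (by decide), rfl⟩, ⟨_, e1 3 (by decide), rfl⟩,
            ⟨_, e1 4 (by decide), rfl⟩, ⟨_, e1 5 (by decide), rfl⟩, ⟨_, e1 6 (by decide), rfl⟩,
            ⟨_, e1 7 (by decide), rfl⟩]) (hC.gen.ge (mem_top ⟨a, ha⟩))
      exact ⟨g, k⟩) (hC.card ▸ card_H h hP hN)
  have hD : Gf MK el lH (gen (pr MK el) lH) :=
    ⟨h.rule, fun _ => el_mem_gen _, fun g hg => (hφ 1 g hg).symm.trans (map_one φ)⟩
  have e2 : ∀ n ≤ 10, (L.map φ).el (ev el (om 9)) n = ev el (om n) := fun n hn => by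
    rcases Nat.lt_or_ge n 9 with c | c
    · rw [C3.Lt.el_le _ _ (φ 1) (by omega), C3.Lt.map_el, hφ _ _ (e1 n (by omega))]
    · interval_cases n
      · rfl
      · exact (eq_inv_of_mul_eq_one_left ((ev_append el _ _).symm.trans
          (hN.chk (om 10 ++ om 9) (by decide +kernel)))).symm
  have n6 : NZ el L5 (om 6) := hD.nz L5 [[6], [6, 7, 1, 4, 8, 5, 14], [1, 4, 8, 5, 14], [6, 4, 6, 7]] _
    (by decide +kernel)
  obtain ⟨ψ, hψ⟩ := hC.exists_hom φ (g := ev el (om 9)) fun w hw => by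
    obtain ⟨k1, k2⟩ := (by decide +kernel : ∀ w ∈ C3.relsG, (∀ n ∈ w, n ≤ 10) ∧
      ([rp (om 9 ++ om 6) 5, rp (om 10 ++ om 7 ++ om 6) 5].contains (w.flatMap om) ||
        MK.chk lN (w.flatMap om)) = true) w hw
    refine (ev_flat el _ om w fun n hn => e2 n (k1 n hn)).trans (or_chk (mem_chk fun w hw => ?_) hN.chk _ k2)
    rcases List.mem_pair.1 hw with rfl | rfl
    · exact rel_5 h hN (NZ.app (hN.nz L5 [[6, 7], [6], [1, 4, 8, 5, 14, 4, 6, 7], [1, 4, 8, 5, 14]] _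
        (by decide +kernel)) n6) (by decide +kernel) (by decide +kernel)
    · exact rel_5 h hN (NZ.app (NZ.app (hN.nz L5 [[7], [6, 7], [4, 6, 7], [1, 4, 8, 5, 14, 4, 6, 7]] _
        (by decide +kernel)) (hN.nz L5 [[6], [7], [4, 6, 7], [1, 4, 8, 5, 14, 4, 6, 7]] _ (by decide +kernel))) n6)
        (by decide +kernel) (by decide +kernel)
  refine ⟨ψ, fun n hn => ?_⟩
  obtain ⟨k1, k2⟩ := (by decide +kernel : ∀ n ≤ 21, (∀ m ∈ tau n, m ≤ 10) ∧ (n = 0 ∨
    (okw lH ((tau n).flatMap om) && okw lH [n] && Nat.beq (MK.pw ((tau n).flatMap om)) (MK.pw [n])) = true ∨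
    (okw lN ((tau n).flatMap om) && okw lN [n] && Nat.beq (MK.pw ((tau n).flatMap om)) (MK.pw [n])) = true)) n hn
  rw [pY_tau, map_ev, ev_flat el _ om _ fun m hm => (hψ m).trans (e2 m (k1 m hm))]
  rcases k2 with rfl | k2 | k2
  exacts [h.rule.h0.symm, (hD.eq _ _ k2).trans (ev_one el n), (hN.eq _ _ k2).trans (ev_one el n)]

end Cfsg.Agent.CONW.Y
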