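import Cfsg.Agent.CONW.YK
import Cfsg.Agent.CONW.Cert.ZT
import Cfsg.Agent.CONW.Cert.ZV
import Cfsg.Agent.CONW.Cert.ZP

/-! The graphs of the groups of order 128, 1536 and 3072. -/

set_option autoImplicit false
set_option maxRecDepth 100000

namespace Cfsg.Agent.CONW.Y

open Cfsg.Agent.H58 Cfsg.Agent.H78 Subgroup

variable {G : Type*} [Group G] {el : ℕ → G} {θ : PC →* G}

section
variable {P P' : Type} [Group P] [Group P'] {M : Md P} {M' : Md P'} {l l' : List ℕ} {Δ : Subgroup (P × G)}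
  {Δ' : Subgroup (P' × G)}

/-- the word `w` in the letters `l` is trivial in the model -/
def Md.chk (M : Md P) (l w : List ℕ) : Bool := okw l w && okw l [] && Nat.beq (M.pw w) (M.pw [])

theorem Gf.chk (h : Gf M el l Δ) (w : List ℕ) (hw : M.chk l w = true) : ev el w = 1 := h.eq w [] hw

theorem rule_or (R : RuleOK el [] iv) {rels : List (List ℕ)} {p : List ℕ → Bool}
    (hp : ∀ w, p w = true → ev el w = 1) (hd : (allLt rels && rels.all p) = true) : RuleOK el rels iv := by
  rw [Bool.and_eq_true] at hd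
  exact rule_of R (fun w hw => hp w (List.all_eq_true.1 hd.2 w hw)) hd.1

theorem or_chk {p q : List ℕ → Bool} (hp : ∀ w, p w = true → ev el w = 1) (hq : ∀ w, q w = true → ev el w = 1) :
    ∀ w, (p w || q w) = true → ev el w = 1 := fun w h => (Bool.or_eq_true _ _ ▸ h).elim (hp w) (hq w)

theorem mem_chk {L : List (List ℕ)} (h : ∀ w ∈ L, ev el w = 1) : ∀ w, L.contains w = true → ev el w = 1 :=
  fun w hw => h w (List.contains_iff_mem.1 hw)

theorem Md.gr (M : Md P) (l : List ℕ) : Gr M M.p l (MonoidHom.id P).graph :=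
  ⟨⟨M.rule, fun _ _ => rfl, fun _ h => Eq.symm h⟩, fun _ h => h⟩

theorem Gf.mono (h : Gf M el l Δ) (hl : ∀ n ∈ l', pr M el n ∈ Δ) : Gf M el l' Δ := ⟨h.rule, hl, h.fn⟩

theorem Gr.mono (h : Gr M el l Δ) (hl : ∀ n ∈ l', pr M el n ∈ Δ) : Gr M el l' Δ := ⟨h.toGf.mono hl, h.inj⟩

/-- the graph for other values of the remaining letters -/
theorem Gr.congr (h : Gr M el l Δ) {el' : ℕ → G} (R : RuleOK el' [] iv) (e : ∀ n ∈ l, el' n = el n) :
    Gr M el' l Δ := ⟨⟨R, fun n hn => by rw [pr, e n hn]; exact h.mem n hn, h.fn⟩, h.inj⟩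

theorem card_list [Finite G] (h : Gr M el l Δ) (L : List (List ℕ))
    (hL : (L.all (okw l) && decide (L.map M.pw).Nodup) = true) {k : List ℕ} (hk : L.all (okw k) = true) :
    L.length ≤ Nat.card (gen el k) := by
  rw [← List.length_map (ev el)]
  refine length_le_card (h.nodup L hL) fun g hg => ?_
  obtain ⟨w, hw, rfl⟩ := List.mem_map.1 hg
  exact ev_mem h.rule (fun _ => el_mem_gen el) (List.all_eq_true.1 hk w hw)

/-- `L` lists pairs `(g, v)` with `g o g⁻¹ = v` -/
theorem card_step_w [Finite G] (hf : Gf M el l Δ) (hr : Gr M' el l' Δ') (k : List ℕ) (o : ℕ)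
    (L : List (List ℕ × List ℕ))
    (h1 : k.all (fun n => l.contains n && (okw l [n, o] && okw l [o, n] && Nat.beq (M.pw [n, o]) (M.pw [o, n]))) = true)
    (h2 : L.all (fun a => okw l a.1 && (okw l (a.1 ++ [o]) && okw l (a.2 ++ a.1) &&
      Nat.beq (M.pw (a.1 ++ [o])) (M.pw (a.2 ++ a.1)))) = true)
    (h3 : ((L.map Prod.snd).all (okw l') && decide ((L.map Prod.snd).map M'.pw).Nodup) = true) :
    L.length * Nat.card (gen el k) ≤ Nat.card (gen el l) := by
  simp only [List.all_eq_true] at h1 h2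
  have e : (L.map fun a => ev el a.1).map (fun g => g * el o * g⁻¹) = (L.map Prod.snd).map (ev el) := by
    rw [List.map_map, List.map_map]
    refine List.map_congr_left fun a ha => mul_inv_eq_iff_eq_mul.2 ?_
    have := hf.eq _ _ (Bool.and_eq_true _ _ ▸ h2 a ha).2
    rwa [ev_append, ev_append, ev_one] at this
  rw [← List.length_map fun a : List ℕ × List ℕ => ev el a.1]
  refine card_step (gen_le fun n hn => el_mem_gen el (List.contains_iff_mem.1 (Bool.and_eq_true _ _ ▸ h1 n hn).1))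
    (el o) (fun g hg => mem_centralizer_singleton_iff.1 (gen_le (X := centralizer {el o}) (fun n hn =>
      mem_centralizer_singleton_iff.2 ?_) hg)) _ (fun g hg => ?_) (e ▸ hr.nodup _ h3)
  · have := hf.eq _ _ (Bool.and_eq_true _ _ ▸ h1 n hn).2
    rwa [ev_cons, ev_cons el o [n], ev_one, ev_one] at this
  · obtain ⟨a, ha, rfl⟩ := List.mem_map.1 hg
    exact ev_mem hf.rule (fun _ => el_mem_gen el) (Bool.and_eq_true _ _ ▸ h2 a ha).1

end

instance : Finite C3.K := inferInstanceAs (Finite (Subtype _))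

def lK : List ℕ := [1, 2, 3, 4, 6, 7, 8, 9, 10]
def lNC : List ℕ := [1, 2, 3, 4, 6, 7, 8, 9, 12]
def lV : List ℕ := [1, 2, 3, 4, 5, 6, 7, 8, 9, 12, 14]

def oZ : List (List ℕ × List ℕ) := [([], [6]), ([12], [7]), ([13], [6, 7])]
def oV : List (List ℕ × List ℕ) := [([], [1]), ([5], [1, 6]), ([14], [1, 7]), ([5, 14], [1, 6, 7])]
def oP : List (List ℕ × List ℕ) := oV ++ oV.map fun a => (a.1 ++ [16], a.2 ++ [9])

theorem cardY_T : 128 ≤ Nat.card (gen pY lT) := card_list (MK.gr lT) LT (by decide +kernel) (by decide +kernel)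

theorem cardY_K : 384 ≤ Nat.card (gen pY lK) := card_list (MK.gr lK) LK (by decide +kernel) (by decide +kernel)

theorem cardY_NC : 384 ≤ Nat.card (gen pY lNC) :=
  (Nat.mul_le_mul_left 3 cardY_T).trans (card_step_w (MK.gr lNC).toGf (MK.gr lNC) lT 6 oZ (by decide +kernel)
    (by decide +kernel) (by decide +kernel))

theorem cardY_V : 1536 ≤ Nat.card (gen pY lV) :=
  (Nat.mul_le_mul_left 4 cardY_NC).trans (card_step_w (MK.gr lV).toGf (MK.gr lV) lNC 1 oV (by decide +kernel)
    (by decide +kernel) (by decide +kernel))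

theorem cardY_P : 3072 ≤ Nat.card (gen pY lP) :=
  (Nat.mul_le_mul_left 8 cardY_K).trans (card_step_w (MK.gr lP).toGf (MK.gr lP) lK 1 oP (by decide +kernel)
    (by decide +kernel) (by decide +kernel))

theorem CY.card_K [Finite G] (h : CY el θ) : 384 ≤ Nat.card (gen el lK) :=
  card_list h.gr LK (by decide +kernel) (by decide +kernel)

theorem CY.card_NC [Finite G] (h : CY el θ) : 384 ≤ Nat.card (gen el lNC) :=
  (Nat.mul_le_mul_left 3 h.card_T.ge).trans (card_step_w (h.gr.toGf.mono (l' := lNC) fun n hn =>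
    h.gr.mem n ((by decide : ∀ n ∈ lNC, n ∈ lC) n hn)) h.gr lT 6 oZ (by decide +kernel)
    (by decide +kernel) (by decide +kernel))

theorem CY.card_prT (h : CY el θ) : Finite (gen (pr MK el) lT) ∧ Nat.card (gen (pr MK el) lT) ≤ 128 :=
  card_le_of_relIndex_bot (ZT.relIndex_le (rule_pr MK (rule_or h.rule h.gr.chk (by decide +kernel))
    (by decide +kernel)) ⊥ fun _ h => absurd h List.not_mem_nil)

/-- the relations for `u` and `e` -/
def relsV : List (List ℕ) := [[5, 2, 5, 2], [5, 3, 5, 3], [5, 4, 5, 4, 6], [5, 1, 5, 1, 6], [5, 6, 5, 6],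
  [5, 12, 5, 12, 5, 12, 8, 2, 8, 1], [15, 12, 5, 13, 8, 2]]

theorem CY.card_prV (h : CY el θ) (hr : ∀ w ∈ relsV, Y.ev el w = 1) :
    Finite (gen (pr MK el) lV) ∧ Nat.card (gen (pr MK el) lV) ≤ 1536 :=
  card_le_of_relIndex (ZV.relIndex_le (rule_pr MK (rule_or h.rule (or_chk (mem_chk hr) h.gr.chk)
    (by decide +kernel)) (by decide +kernel)) _ fun _ => el_mem_gen _) h.card_prT

theorem CY.grV [Finite G] (h : CY el θ) (hr : ∀ w ∈ relsV, Y.ev el w = 1) :
    Gr MK el lV (gen (pr MK el) lV) :=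
  gr_of_card h.rule (h.card_prV hr) cardY_V ((Nat.mul_le_mul_left 4 h.card_NC).trans
    (card_step_w (gf_of_card h.rule (h.card_prV hr) cardY_V) h.gr lNC 1 oV (by decide +kernel)
      (by decide +kernel) (by decide +kernel)))

theorem S1.grV [Finite G] (h : S1 el θ) : Gr MK el lV (gen (pr MK el) lV) :=
  h.toCY.grV fun w hw => h.rels w ((by decide : ∀ w ∈ relsV, w ∈ rels1) w hw)

theorem S1.card_prP [Finite G] (h : S1 el θ) :
    Finite (gen (pr MK el) lP) ∧ Nat.card (gen (pr MK el) lP) ≤ 3072 :=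
  card_le_of_relIndex (ZP.relIndex_le (rule_pr MK (rule_or h.rule
    (or_chk (mem_chk h.rels) (or_chk h.gr.chk h.grV.chk)) (by decide +kernel)) (by decide +kernel)) _
      fun _ => el_mem_gen _) h.card_prT

theorem S1.grP [Finite G] (h : S1 el θ) : Gr MK el lP (gen (pr MK el) lP) :=
  gr_of_card h.rule h.card_prP cardY_P ((Nat.mul_le_mul_left 8 h.card_K).trans
    (card_step_w (gf_of_card h.rule h.card_prP cardY_P) h.gr lK 1 oP (by decide +kernel)
      (by decide +kernel) (by decide +kernel)))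

end Cfsg.Agent.CONW.Y
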