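import Cfsg.Agent.CONW.YV
import Cfsg.Agent.CONW.YN1
import Cfsg.Agent.CONW.Cert.ZHa
import Cfsg.Agent.CONW.Cert.ZHb
import Cfsg.Agent.CONW.Cert.ZHc

/-! Automatic relators for the homomorphism from the model of `Co3`. -/

set_option autoImplicit false
set_option maxRecDepth 100000

namespace Cfsg.Agent.CONW.Y

open Cfsg.Agent.H14 Cfsg.Agent.H58 Cfsg.Agent.H78 Subgroup

namespace Hm

variable {G : Type*} [Group G] {el : ℕ → G} {θ : PC →* G} {P N D : Subgroup (C3.K × G)} {l : List ℕ}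
  {L : List (List ℕ)}

/-- the image of one point under a word -/
noncomputable def atP (w : List ℕ) (i : ℕ) : ℕ :=
  List.rec i (fun c _ ih => app (nat_lit 9) (nat_lit 512) (nthD LY (idP (nat_lit 9) (nat_lit 276)) c) ih) w

theorem atP_eq (w : List ℕ) (a : Fin 276) :
    atP w (C3.EE.ix a) = C3.EE.ix (((ev pY w : C3.K) : Equiv.Perm (Fin 276)) a) := by
  induction w with
  | nil => rfl
  | cons c w ih =>
    change app _ _ _ (atP w _) = _
    rw [ih, ← pk_elP C3.EE valid_LY, C3.EE.app_pk]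
    rfl

theorem atP_of {v w : List ℕ} (e : ev pY v = ev pY w) (a : Fin 276) : Nat.beq (atP v a) (atP w a) = true :=
  Nat.beq_eq ▸ (atP_eq v a).trans ((congrArg (fun g : C3.K => C3.EE.ix ((g : Equiv.Perm (Fin 276)) a)) e).trans
    (atP_eq w a).symm)

/-- the elements of `C(z, t)` that commute with `L` at the point `i` are listed in `U` -/
noncomputable def tst (L U : List (List ℕ)) (i : ℕ) : Bool :=
  L.all (okw lN) && L.contains [6] && L.contains [7] && H18.all fun k => LR.all fun w => okw lN (k ++ w) &&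
    (!(L.all fun c => Nat.beq (atP ((k ++ w) ++ c) i) (atP (c ++ (k ++ w)) i)) ||
      U.any fun u => Nat.beq (atP (k ++ w) i) (atP u i) &&
        (okw lN (k ++ w) && okw lN u && Nat.beq (MK.pw (k ++ w)) (MK.pw u)))

/-- the pair of values of `w` normalises the graph generated by `L` -/
def NZ (el : ℕ → G) (L : List (List ℕ)) (w : List ℕ) : Prop :=
  (ev MK.p w, ev el w) ∈ normalizer (grw MK el L : Set (C3.K × G))

theorem NZ.app {v w : List ℕ} (h : NZ el L v) (k : NZ el L w) : NZ el L (v ++ w) := by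
  unfold NZ at h k ⊢
  rw [ev_append MK.p v w, ev_append el v w, ← Prod.mk_mul_mk]
  exact Subgroup.mul_mem _ h k

/-- repetition of a word -/
def rp (w : List ℕ) : ℕ → List ℕ
  | 0 => []
  | n + 1 => w ++ rp w n

theorem NZ.rp {w : List ℕ} (h : NZ el L w) : ∀ n, NZ el L (rp w n)
  | 0 => one_mem _
  | n + 1 => h.app (NZ.rp h n)

theorem ev_rp (w : List ℕ) : ∀ n, ev el (rp w n) = ev el w ^ n
  | 0 => (pow_zero _).symm
  | n + 1 => by rw [rp, ev_append, ev_rp w n, pow_succ']

theorem self_subw {w : List ℕ} : ∀ {L : List (List ℕ)}, w ∈ L → w ∈ subw L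
  | v :: L, h => by
    rcases List.mem_cons.1 h with rfl | h
    · refine List.mem_append_right _ (List.mem_map.2 ⟨[], ?_, List.append_nil _⟩)
      clear h
      induction L with
      | nil => exact List.mem_singleton_self _
      | cons _ _ ih => exact List.mem_append_left _ ih
    · exact List.mem_append_left _ (self_subw h)

/-- an automatic relator -/
theorem surv [Finite G] (h : S2 el θ) (hN : Gr MK el lN N) {U : List (List ℕ)} (i : Fin 276)
    (ht : tst L U i = true) {w : List ℕ} (hw : NZ el L w) (hm : Nat.beq (MK.pw w) (MK.pw []) = true) :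
    ∃ u ∈ U, ev el w = ev el u := by
  simp only [tst, Bool.and_eq_true (_ && _), Bool.and_eq_true (L.all _), List.contains_iff_mem] at ht
  obtain ⟨⟨⟨h1, h2⟩, h3⟩, h4⟩ := ht
  rw [NZ, MK.beq _ _ hm] at hw
  have hc : ∀ c ∈ L, ev el w * ev el c = ev el c * ev el w := fun c hc =>
    hN.cent (hN.grw_le h1) hw (mem_grw (self_subw hc))
  obtain ⟨k, hk, v, hv, e⟩ := h.mem_B (ev_one el 6 ▸ hc _ h2) (ev_one el 7 ▸ hc _ h3)
  have h5 := List.all_eq_true.1 (List.all_eq_true.1 h4 k hk) v hv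
  rw [Bool.and_eq_true, List.all_eq_true.2 fun c hc' => atP_of ((MK.eq _ _).2
    ((hN.iff (okw_app h5.1 (List.all_eq_true.1 h1 c hc')) (okw_app (List.all_eq_true.1 h1 c hc') h5.1)).1
      (by rw [ev_append el (k ++ v), ev_append el c, ← e, hc c hc']))) i] at h5
  obtain ⟨u, hu, h6⟩ := List.any_eq_true.1 h5.2
  exact ⟨u, hu, e.trans (hN.eq _ _ (Bool.and_eq_true _ _ ▸ h6).2)⟩

/-- substitute `u` for the letter `i` -/
def sb (i : ℕ) (u : List ℕ) (n : ℕ) : List ℕ := if n = i then u else if n = ivf iv i then u.reverse else [n]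

/-- the relators hold after the substitution -/
noncomputable def ck (rels E : List (List ℕ)) (i : ℕ) (u : List ℕ) : Bool :=
  MK.chk lN (u.reverse ++ u) && MK.chk lN (if ivf iv i = i then u ++ u else []) &&
    (allLt rels && rels.all fun w => E.contains (w.flatMap (sb i u)) ||
      (MK.chk lP (w.flatMap (sb i u)) || MK.chk lN (w.flatMap (sb i u))))

theorem rule_sb (hP : Gr MK el lP P) (hN : Gr MK el lN N) {rels E : List (List ℕ)} (hE : ∀ w ∈ E, ev el w = 1)
    {i : ℕ} (hi : 1 ≤ i ∧ i ≤ 24) {u : List ℕ} (hc : ck rels E i u = true) : RuleOK (upd el i (ev el u)) rels iv := by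
  simp only [ck, Bool.and_eq_true (_ && _), Bool.and_eq_true (MK.chk _ _)] at hc
  refine rule_or (rule_upd hP.rule hi fun e => ?_) (fun w hw => ?_) hc.2
  · rw [← ev_append, ← hN.chk _ hc.1.2, if_pos e]
  · refine (ev_flat el _ (sb i u) w fun n _ => ?_).trans (or_chk (mem_chk hE) (or_chk hP.chk hN.chk) _ hw)
    rw [upd, sb]
    split_ifs
    · rfl
    · exact (eq_inv_of_mul_eq_one_left ((ev_append el _ _).symm.trans (hN.chk _ hc.1.1))).symm
    · exact (ev_one el n).symm

/-- a central letter is trivial -/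
theorem central (hP : Gr MK el lP P) {i : ℕ} (hi : i = 22 ∨ i = 24) {g : G} {rels : List (List ℕ)}
    (R : RuleOK (upd el i g) rels iv) (hm : rels.all (fun w => Nat.beq (MK.pw w) (MK.pw [])) = true)
    (goal : RuleOK (pr MK (upd el i g)) rels iv → (∀ x ∈ lP, pr MK (upd el i g) x ∈ P) → pr MK (upd el i g) i ∈ P) :
    g = 1 := by
  have := goal (rule_pr MK R hm) (hP.congr (rule_nil R) fun n hn => upd_ne el g
    ((by decide +kernel : ∀ i ≤ 24, i = 22 ∨ i = 24 → ∀ n ∈ lP, n ≠ i ∧ n ≠ ivf iv i) i (by omega) hi n hn)).mem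
  rw [pr, upd_self, show MK.p i = 1 from (ev_one _ i).symm.trans (MK.beq [i] [] (by
    rcases hi with rfl | rfl <;> decide +kernel))] at this
  exact hP.fn g this

def L1 : List (List ℕ) := [[1], [2], [3], [5], [6], [7], [9]]
def L4 : List (List ℕ) := [[6], [7], [9], [5, 1], [2, 14], [3, 16]]
def L5 : List (List ℕ) := [[6], [7], [1, 4, 8, 5, 14], [4, 6, 7]]
def U4 : List (List ℕ) := [[], [6], [1, 5], [1, 5, 6]]
def wa : List ℕ := rp ([18] ++ [10]) 3
def wb : List ℕ := rp ([20] ++ [10]) 5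
def wc : List ℕ := rp ([20] ++ [11]) 8
def lH : List ℕ := [1, 2, 3, 4, 5, 6, 7, 8, 9, 14, 16, 10, 20, 18]

theorem tst4 : tst L4 U4 (0 : Fin 276) = true := by decide +kernel

theorem tst5 : tst L5 (subw L5) (1 : Fin 276) = true := by decide +kernel

variable [Finite G] (h : S2 el θ) (hP : Gr MK el lP P) (hN : Gr MK el lN N)
include h hP hN

theorem rel_a : ev el wa = 1 := by
  obtain ⟨u, hu, e⟩ := surv h hN (L := L1) (U := [[], [6]]) 0 (by decide +kernel) (w := wa)
    (NZ.rp (NZ.app (hN.nz L1 [[2, 6], [1, 2, 6], [1, 2, 3, 6], [5, 9], [6], [7], [5, 7]] [18] (by decide +kernel))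
      (hP.nz L1 [[1], [3], [2, 3], [5], [6], [9], [7, 9]] [10] (by decide +kernel))) 3) (by decide +kernel)
  obtain ⟨h1, h2⟩ := (by decide +kernel : ∀ u ∈ [[], [6]], ck ZHa.rels [wa ++ u] 24 u = true ∧
    MK.chk lN (u ++ u) = true) u hu
  exact e.trans (central hP (Or.inr rfl) (rule_sb hP hN (fun w hw => by
    rw [List.mem_singleton.1 hw, ev_append, e, ← ev_append, hN.chk _ h2]) (by decide) h1) (by decide +kernel)
    fun R k => ZHa.goal24 R P fun x hx => k x ((by decide : ∀ x ∈ [2, 3, 4, 5, 6, 7, 8, 9, 10, 14, 16], x ∈ lP) x hx))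

omit h hP in
theorem nz_q : NZ el L4 [20] :=
  hN.nz L4 [[6], [7], [7, 2, 14], [5, 1], [6, 7, 9, 5, 1, 2, 14], [6, 5, 1, 2, 14, 3, 16]] [20] (by decide +kernel)

theorem rel_b : ev el wb = 1 := by
  obtain ⟨u, hu, e⟩ := surv h hN 0 tst4 (w := wb) (NZ.rp (NZ.app (nz_q hN)
    (hP.nz L4 [[6], [9], [7, 9], [5, 1], [3, 16], [5, 1, 2, 14, 3, 16]] [10] (by decide +kernel))) 5)
    (by decide +kernel)
  obtain ⟨h1, h2⟩ := (by decide +kernel : ∀ u ∈ U4, ck ZHb.rels [wb ++ u.reverse] 22 u = true ∧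
    MK.chk lN (u ++ u.reverse) = true) u hu
  exact e.trans (central hP (Or.inl rfl) (rule_sb hP hN (fun w hw => by
    rw [List.mem_singleton.1 hw, ev_append, e, ← ev_append, hN.chk _ h2]) (by decide) h1) (by decide +kernel)
    fun R k => ZHb.goal22 R P fun x hx => k x ((by decide : ∀ x ∈ [1, 2, 3, 4, 5, 6, 7, 8, 10, 14, 16], x ∈ lP) x hx))

theorem rule_c {u : List ℕ} (hu : u ∈ U4) (e : ev el wc = ev el u) : RuleOK (upd el 22 (ev el u)) ZHc.rels iv := by
  obtain ⟨h1, h2⟩ := (by decide +kernel : ∀ u ∈ U4, ck ZHc.rels [wb, wc ++ u.reverse] 22 u = true ∧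
    MK.chk lN (u ++ u.reverse) = true) u hu
  refine rule_sb hP hN (fun w hw => ?_) (by decide) h1
  rcases List.mem_pair.1 hw with rfl | rfl
  · exact rel_b h hP hN
  · rw [ev_append, e, ← ev_append, hN.chk _ h2]

omit [Finite G] h hP hN in
theorem mod_c : ZHc.rels.all (fun w => Nat.beq (MK.pw w) (MK.pw [])) = true := by decide +kernel

theorem rel_c : ev el wc = 1 := by
  obtain ⟨u, hu, e⟩ := surv h hN 0 tst4 (w := wc) (NZ.rp (NZ.app (nz_q hN)
    (hP.nz L4 [[6], [7, 9], [7], [5, 1], [5, 1, 2, 14, 3, 16], [2, 14]] [11] (by decide +kernel))) 8)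
    (by decide +kernel)
  exact e.trans (central hP (Or.inl rfl) (rule_c h hP hN hu e) mod_c fun R k => ZHc.goal22 R P k)

end Hm

end Cfsg.Agent.CONW.Y
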