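import Cfsg.Agent.CONW.YMod

/-! Facts on the centraliser of `x`, moved from the model to `G`. -/

set_option autoImplicit false
set_option maxRecDepth 100000

namespace Cfsg.Agent.CONW.Y

open Cfsg.Agent.H58 Subgroup

variable {G : Type*} [Group G] {el : ℕ → G} {θ : PC →* G}

theorem iv_lC : ∀ x < 64, (x ≤ 13 ↔ ivf iv x ≤ 13 ∧ x ≤ 24) ∧ (25 ≤ x → ivf iv x = 0) := by decide +kernel

theorem exists_cy {x : G} (hx : orderOf x = 2) (hC : Nonempty (centralizer ({x} : Set G) ≃* PC)) :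
    ∃ (el : ℕ → G) (θ : PC →* G), CY el θ ∧ el 1 = x := by
  obtain ⟨e⟩ := hC
  let θ : PC →* G := (centralizer ({x} : Set G)).subtype.comp e.symm.toMonoidHom
  have hxC : x ∈ centralizer ({x} : Set G) := mem_centralizer_singleton_iff.2 rfl
  have h1 : θ (pC 1) = x := by
    rcases center_C (e ⟨x, hxC⟩) (fun g => by
      obtain ⟨g, rfl⟩ := e.surjective g
      rw [← map_mul, ← map_mul]
      exact congrArg e (Subtype.ext (mem_centralizer_singleton_iff.1 g.2))) with c | c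
    · have : x = 1 := congrArg Subtype.val (e.injective (c.trans (map_one e).symm))
      rw [this, orderOf_one] at hx; exact absurd hx (by decide)
    · rw [← c]; simp [θ]
  refine ⟨fun n => θ (pC n), θ, ⟨⟨?_, fun n hn => ?_, fun _ h => absurd h List.not_mem_nil, rfl⟩,
    Subtype.val_injective.comp e.symm.injective, fun g => ?_, fun _ _ => rfl⟩, h1⟩
  · exact (congrArg θ MC.rule.h0).trans (map_one θ)
  · exact (congrArg θ (MC.rule.hinv n hn)).trans (map_inv θ _)
  · rw [h1, ← mem_centralizer_singleton_iff]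
    exact ⟨fun ⟨k, hk⟩ => hk ▸ (e.symm k).2, fun hg => ⟨e ⟨g, hg⟩, by simp [θ]⟩⟩

theorem CY.map_gen (h : CY el θ) {l : List ℕ} (hl : ∀ n ∈ l, n ∈ lC) : (gen pC l).map θ = gen el l :=
  (Y.map_gen θ pC l).trans (gen_congr fun n hn => h.map n (hl n hn))

theorem CY.cenC (h : CY el θ) {g : G} (hx : g * el 1 = el 1 * g) : g ∈ gen el lC := by
  obtain ⟨k, rfl⟩ := (h.range g).2 hx
  exact h.map_gen (fun _ h => h) ▸ mem_map_of_mem θ (gen_C ▸ mem_top k)

theorem CY.comm (h : CY el θ) {w : List ℕ} (hw : okw lC w = true) : Y.ev el w * el 1 = el 1 * Y.ev el w :=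
  (h.range _).1 ⟨_, h.ev hw⟩

theorem ok_LK : ∀ w ∈ LK, okw lC w = true := by decide +kernel
theorem ok_LT : ∀ w ∈ LT, okw lC w = true := by decide +kernel
theorem ok_LD : ∀ w ∈ LD, okw lC w = true := by decide +kernel
theorem ok_LE : ∀ w ∈ LE, okw lC w = true := by decide +kernel

theorem okw_app {l v w : List ℕ} (hv : okw l v = true) (hw : okw l w = true) : okw l (v ++ w) = true := by
  rw [okw, List.all_append, Bool.and_eq_true]; exact ⟨hv, hw⟩

theorem CY.cenz (h : CY el θ) {g : G} (hx : g * el 1 = el 1 * g) (hz : g * el 6 = el 6 * g) :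
    ∃ w ∈ LK, g = Y.ev el w := by
  obtain ⟨k, rfl⟩ := (h.range g).2 hx
  obtain ⟨w, hw, rfl⟩ := cen_z k (h.inj (by rw [map_mul, map_mul, h.map 6 (by decide), hz]))
  exact ⟨w, hw, h.ev (ok_LK w hw)⟩

/-- a word commutes with a letter in `G` only if it does so in the model -/
theorem Gr.comm {P : Type} [Group P] {M : Md P} {l : List ℕ} {Δ : Subgroup (P × G)} (h : Gr M el l Δ)
    {w : List ℕ} (hw : okw l w = true) {n : ℕ} (hn : okw l [n] = true)
    (e : ev el w * el n = el n * ev el w) : M.pw (w ++ [n]) = M.pw ([n] ++ w) :=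
  (h.iff (okw_app hw hn) (okw_app hn hw)).1 (by rw [ev_append, ev_append, ev_one, e])

theorem CY.cenV (h : CY el θ) {g : G} (hx : g * el 1 = el 1 * g) (hz : g * el 6 = el 6 * g)
    (ht : g * el 7 = el 7 * g) : ∃ w ∈ LD, g = Y.ev el w := by
  obtain ⟨w, hw, rfl⟩ := h.cenz hx hz
  exact ⟨w, (by decide +kernel : ∀ w ∈ LK, MC.pw (w ++ [7]) = MC.pw ([7] ++ w) → w ∈ LD) w hw
    (h.gr.comm (ok_LK w hw) (by decide) ht), rfl⟩

theorem CY.cenA (h : CY el θ) {g : G} (hx : g * el 1 = el 1 * g) (hz : g * el 6 = el 6 * g)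
    (ht : g * el 7 = el 7 * g) (ha : g * el 9 = el 9 * g) : ∃ w ∈ LE, g = Y.ev el w := by
  obtain ⟨w, hw, rfl⟩ := h.cenV hx hz ht
  obtain ⟨v, hv, e⟩ := (by decide +kernel : ∀ w ∈ LD, MC.pw (w ++ [9]) = MC.pw ([9] ++ w) →
    ∃ v ∈ LE, MC.pw w = MC.pw v) w hw (h.gr.comm (ok_LD w hw) (by decide) ha)
  exact ⟨v, hv, (h.gr.iff (ok_LD w hw) (ok_LE v hv)).2 e⟩

theorem CY.card_gen (h : CY el θ) {l : List ℕ} (hl : ∀ n ∈ l, n ∈ lC) :
    Nat.card (gen el l) = Nat.card (gen pC l) := by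
  rw [← h.map_gen hl]; exact card_map_of_injective h.inj

theorem CY.card_T (h : CY el θ) : Nat.card (gen el lT) = 128 := (h.card_gen (by decide)).trans Y.card_T

theorem CY.mem_T (h : CY el θ) {g : G} (hg : g ∈ gen el lT) : ∃ w ∈ LT, g = Y.ev el w := by
  rw [← h.map_gen (by decide)] at hg
  obtain ⟨k, hk, rfl⟩ := hg
  obtain ⟨w, hw, rfl⟩ := Y.mem_T hk
  exact ⟨w, hw, h.ev (ok_LT w hw)⟩

theorem CY.syl (h : CY el θ) {Q : Subgroup G} (hQ : IsPGroup 2 Q) (hT : gen el lT ≤ Q)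
    (hc : ∀ g ∈ Q, g * el 1 = el 1 * g) : Q = gen el lT := by
  have : Fact (Nat.Prime 2) := ⟨Nat.prime_two⟩
  have hle : Q ≤ θ.range := fun g hg => (h.range g).2 (hc g hg)
  have : Finite θ.range := Finite.of_surjective _ θ.rangeRestrict_surjective
  have : Finite Q := Finite.of_injective _ (inclusion_injective hle)
  have h1 := card_dvd_of_le hle
  rw [← Nat.card_congr (MonoidHom.ofInjective h.inj).toEquiv, card_PC] at h1
  obtain ⟨k, hk⟩ := IsPGroup.iff_card.1 hQ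
  have h2 : k ≤ 7 := by
    by_contra c
    have := (pow_dvd_pow 2 (show 8 ≤ k by omega)).trans (hk ▸ h1)
    omega
  refine (eq_of_le_of_card_ge hT ?_).symm
  rw [h.card_T, hk]
  exact Nat.pow_le_pow_right (by decide) h2

theorem CY.nsq (h : CY el θ) {y : G} (hy : IsConj (el 1) y) (g : G) : g * g ≠ y := by
  obtain ⟨c, rfl⟩ := isConj_iff.1 hy
  intro e
  have e1 : c⁻¹ * g * c * (c⁻¹ * g * c) = el 1 := by
    calc _ = c⁻¹ * (g * g) * c := by group
      _ = _ := by rw [e]; group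
  obtain ⟨k, hk⟩ := (h.range (c⁻¹ * g * c)).2 (by rw [← e1]; group)
  have e2 : k * k = pC 1 := h.inj (by rw [map_mul, hk, e1, h.map 1 (by decide)])
  exact (by decide : ∀ a : Multiplicative (ZMod 2), a * a ≠ Multiplicative.ofAdd 1) k.1 (congrArg Prod.fst e2)

theorem CY.not_conj (h : CY el θ) : ¬ IsConj (el 1) (el 6) := fun c =>
  h.nsq c (Y.ev el [4, 8]) (by
    rw [← ev_append, h.gr.eq ([4, 8] ++ [4, 8]) [6] (by decide +kernel), ev_one])

theorem CY.rk2 (h : CY el θ) : Rk2 (el 1) := by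
  intro E h1 h2 h3 c k h4 h5 h6
  obtain ⟨c, rfl⟩ := (h.range c).2 h5
  refine rk2_C (E.comap θ) (fun g hg => h.inj (by rw [map_mul, h1 _ hg, map_one])) ?_
    (fun g _ => h.inj (by rw [map_mul, map_mul, h.map 1 (by decide)]; exact (h.range _).1 ⟨g, rfl⟩)) c k
    (h.inj (by rw [map_pow, h4, map_one])) (h.inj (by rw [map_mul, map_mul, h.map 1 (by decide), h5]))
    fun g hg => h.inj (by rw [map_mul, map_mul, h6 _ hg])
  rw [← card_map_of_injective h.inj, map_comap_eq_self fun g hg => (h.range g).2 (h3 g hg)]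
  exact h2

theorem CY.center (h : CY el θ) {g : G} (hg : ∀ n ∈ lC, g * el n = el n * g) : g = 1 ∨ g = el 1 := by
  obtain ⟨k, rfl⟩ := (h.range g).2 (hg 1 (by decide))
  have : gen pC lC ≤ centralizer {k} := gen_le fun n hn => mem_centralizer_singleton_iff.2
    (h.inj (by rw [map_mul, map_mul, h.map n hn, hg n hn]))
  rcases center_C k (fun a => mem_centralizer_singleton_iff.1 (this (gen_C ▸ mem_top a))) with e | e
  · exact Or.inl (by rw [e, map_one])
  · exact Or.inr (by rw [e, h.map 1 (by decide)])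

theorem CY.odd (h : CY el θ) (N : Subgroup G) (hN : N.Normal) (ho : Odd (Nat.card N)) {g : G} (hg : g ∈ N)
    (hx : g * el 1 = el 1 * g) : g = 1 := by
  obtain ⟨k, rfl⟩ := (h.range g).2 hx
  have := odd_normal (N.comap θ) (hN.comap θ) (ho.of_dvd_nat (by
    rw [← card_map_of_injective h.inj]; exact card_dvd_of_le (map_comap_le θ N)))
  rw [mem_bot.1 (this.le (hg : k ∈ N.comap θ)), map_one]

/-- the letters twisted by the outer automorphism -/
theorem CY.twist (h : CY el θ) : ∃ (el' : ℕ → G) (θ' : PC →* G), CY el' θ' ∧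
    (∀ n ≤ 13, el' n = Y.ev el (sig n)) ∧ ∀ n, 14 ≤ n → el' n = el n := by
  obtain ⟨α, hα⟩ := exists_aut
  have k1 : ∀ n ≤ 13, (if n ≤ 13 then Y.ev el (sig n) else el n) = Y.ev el (sig n) := fun n hn => if_pos hn
  refine ⟨fun n => if n ≤ 13 then Y.ev el (sig n) else el n, θ.comp α.toMonoidHom,
    ⟨⟨rfl, fun x hx => ?_, fun _ h => absurd h List.not_mem_nil, rfl⟩, h.inj.comp α.injective, fun g => ?_,
    fun n hn => ?_⟩, k1, fun n hn => if_neg (by omega)⟩
  · by_cases c : x ≤ 13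
    · rw [k1 x c, k1 _ ((iv_lC x hx).1.1 c).1]
      by_cases c5 : x = 5
      · subst c5
        exact (congrArg (· * 1) (h.rule.hinv 5 (by decide))).trans (by simp [sig])
      · obtain ⟨a, b⟩ := (by decide +kernel : ∀ x ≤ 13, x ≠ 5 → okw lC (sig (ivf iv x) ++ sig x) = true ∧
          MC.pw (sig (ivf iv x) ++ sig x) = MC.pw []) x c c5
        refine eq_inv_of_mul_eq_one_left ?_
        rw [← ev_append]
        exact (h.gr.iff a rfl).2 b
    · rw [if_neg c, ← h.rule.hinv x hx]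
      by_cases c2 : x ≤ 24
      · exact if_neg fun a => c ((iv_lC x hx).1.2 ⟨a, c2⟩)
      · rw [(iv_lC x hx).2 (by omega), h.rule.h0]; rfl
  · rw [k1 1 (by decide), show Y.ev el (sig 1) = el 1 from ev_one el 1, ← h.range]
    exact ⟨fun ⟨k, hk⟩ => ⟨_, hk⟩, fun ⟨k, hk⟩ => ⟨α.symm k, by simpa using hk⟩⟩
  · obtain ⟨a, b⟩ := (by decide : ∀ n ∈ lC, n ≤ 13 ∧ okw lC (sig n) = true) n hn
    rw [k1 n a, ← h.ev b, ← hα n hn]; rfl

end Cfsg.Agent.CONW.Y
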