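import Cfsg.Agent.CONW.YDefs
import Cfsg.Agent.H14.Search
import Cfsg.Agent.H43.Basic

/-! Facts about the model `2 × M12` (notes/CONW.md, part 3). -/

set_option autoImplicit false
set_option maxRecDepth 100000

namespace Cfsg.Agent.CONW.Y

open Cfsg.Agent.H14 Cfsg.Agent.H58 Cfsg.Agent.H78 Subgroup

namespace YM

/-- evaluate the members of a list -/
noncomputable def forceL (l : List ℕ) : (List ℕ → Bool) → Bool :=
  List.rec (fun κ => κ []) (fun a _ ih κ => force a fun v => ih fun vs => κ (v :: vs)) l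

theorem forceL_eq (l : List ℕ) (κ : List ℕ → Bool) : forceL l κ = κ l := by
  induction l generalizing κ with
  | nil => rfl
  | cons a l ih =>
    have : forceL (a :: l) κ = force a fun v => forceL l fun vs => κ (v :: vs) := rfl
    rw [this, force_eq, ih]

/-- membership -/
noncomputable def memL (l : List ℕ) (a : ℕ) : Bool := anyL l fun b => Nat.beq b a

theorem memL_iff {l : List ℕ} {a : ℕ} : memL l a = true ↔ a ∈ l := by
  simp only [memL, anyL_iff, beq_iff]
  exact ⟨fun ⟨_, h, e⟩ => e ▸ h, fun h => ⟨a, h, rfl⟩⟩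

/-- the code of an element -/
noncomputable def cd (k : PC) : ℕ :=
  2 * GE.pk (k.2 : Equiv.Perm GolayPt) + (Multiplicative.toAdd k.1).val

theorem val_lt (k : PC) : (Multiplicative.toAdd k.1).val < 2 := ZMod.val_lt _

theorem cd_div (k : PC) : cd k / 2 = GE.pk (k.2 : Equiv.Perm GolayPt) := by
  have := val_lt k
  rw [cd]; omega

theorem cd_inj : Function.Injective cd := fun a b h => by
  have h1 := val_lt a
  have h2 := val_lt b
  rw [cd, cd] at h
  exact Prod.ext (Multiplicative.toAdd.injective (ZMod.val_injective 2 (by omega)))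
    (Subtype.ext (GE.pk_injective (by omega)))

theorem cd_ev (w : List ℕ) : cd (ev pC w) = pwC w := by
  rw [cd, ev_pC_fst, ev_pC_snd, toAdd_ofAdd, ZMod.val_natCast]; rfl

theorem eq_ev {k : PC} {L : List (List ℕ)} (h : cd k ∈ L.map pwC) : ∃ w ∈ L, k = ev pC w := by
  obtain ⟨w, hw, e⟩ := List.mem_map.1 h
  exact ⟨w, hw, cd_inj (by rw [cd_ev, e])⟩

/-- the product of codes -/
noncomputable def mulC (a b : ℕ) : ℕ :=
  Nat.add (Nat.mul 2 (comp (nat_lit 5) (nat_lit 32) (nat_lit 24) (Nat.div a 2) (Nat.div b 2)))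
    (Nat.mod (Nat.add a b) 2)

theorem cd_mul (a b : PC) : cd (a * b) = mulC (cd a) (cd b) := by
  change _ = 2 * comp _ _ _ (cd a / 2) (cd b / 2) + (cd a + cd b) % 2
  rw [cd_div, cd_div, ← GE.pk_mul, cd, cd, cd, Prod.fst_mul, toAdd_mul, ZMod.val_add]
  change 2 * GE.pk (_ * _) + _ = _
  omega

/-- a necessary condition for commuting -/
noncomputable def cm (a b : ℕ) : Bool :=
  force (Nat.div a 2) fun P => force (Nat.div b 2) fun Q => allN (nat_lit 5) fun i =>
    Nat.beq (app (nat_lit 5) (nat_lit 32) P (app (nat_lit 5) (nat_lit 32) Q i))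
      (app (nat_lit 5) (nat_lit 32) Q (app (nat_lit 5) (nat_lit 32) P i))

theorem cm_of {a b : PC} (h : a * b = b * a) : cm (cd a) (cd b) = true := by
  simp only [cm, force_eq, allN_iff, beq_iff]
  intro i hi
  have hi' : i < nat_lit 24 := hi.trans (by decide)
  change app _ _ (cd a / 2) (app _ _ (cd b / 2) i) = app _ _ (cd b / 2) (app _ _ (cd a / 2) i)
  rw [cd_div, cd_div, GE.app_pk_of_lt _ hi', GE.app_pk_of_lt _ hi', GE.app_pk, GE.app_pk]
  exact congrArg (fun k : PC => GE.ix ((k.2 : Equiv.Perm GolayPt) (GE.pt i))) h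

theorem card_le {G : Type*} [Group G] (X : Subgroup G) {f : G → ℕ} (hf : Function.Injective f)
    {L : List ℕ} (h : ∀ g ∈ X, f g ∈ L) : Nat.card X ≤ L.length := by
  have := Nat.card_le_card_of_injective (fun g : X => (⟨f g, List.mem_toFinset.2 (h g g.2)⟩ : L.toFinset))
    fun a b e => Subtype.ext (hf (congrArg Subtype.val e))
  rw [Nat.card_eq_fintype_card (α := L.toFinset), Fintype.card_coe] at this
  exact this.trans L.toFinset_card_le

theorem snd_one {k : PC} (h : k.2 = 1) : k = 1 ∨ k = pC 1 := by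
  have e : (pC 1).2 = 1 := Subtype.ext (GE.pk_injective (by
    rw [← ev_one pC 1, ev_pC_snd]; exact Eq.trans (by decide +kernel) GE.pk_one.symm))
  exact ((by decide : ∀ a : Multiplicative (ZMod 2), a = 1 ∨ a = Multiplicative.ofAdd 1) k.1).imp
    (fun h1 => Prod.ext h1 h) fun h1 => Prod.ext h1 (h.trans e.symm)

theorem ev_lC {w : List ℕ} (h : okw lC w = true) : ev pC w ∈ gen pC lC :=
  ev_mem MC.rule (fun _ hn => el_mem_gen pC hn) h

/-- the permutation which induces the outer automorphism -/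
noncomputable def pi : Equiv.Perm GolayPt := GE.perm (nat_lit 0x6818394d2f80af54122b31c2aa38b6)

theorem pi_conj : ∀ n ∈ lC, pi * ((pC n).2 : Equiv.Perm GolayPt) * pi⁻¹ = (ev pC (sig n)).2 := by
  have e : GE.pk pi = nat_lit 0x6818394d2f80af54122b31c2aa38b6 := GE.pk_perm (by decide +kernel)
  intro n hn
  refine GE.pk_injective ?_
  rw [GE.pk_mul3, GE.pk_inv, e, ← ev_one pC n, ev_pC_snd, ev_pC_snd]
  revert n
  decide +kernel

end YM

open YM

theorem card_PC : Nat.card PC = 190080 := by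
  rw [Nat.card_prod, card_M12, Nat.card_eq_fintype_card]; rfl

theorem gen_C : gen pC lC = ⊤ := by
  rw [eq_top_iff]
  rintro k -
  have h1 : GE.grp m12Gens ≤ (gen pC lC).map (Spor.M12.subtype.comp (MonoidHom.snd _ _)) := by
    refine Enc.grp_le fun P hP => ?_
    obtain ⟨w, -, hw, rfl⟩ := (by decide +kernel : ∀ P ∈ m12Gens,
      ∃ w ∈ [[13, 10, 12, 8, 11, 12, 10, 12, 10, 12, 11], [12, 10, 12, 11, 13, 10, 13, 10, 13, 10, 3]],
        okw lC w = true ∧ prodP (nat_lit 5) (nat_lit 32) (nat_lit 24) LC w = P) P hP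
    exact ⟨_, ⟨ev pC w, ev_lC hw, rfl⟩, ev_pC_snd w⟩
  obtain ⟨g, hg, e⟩ := h1 (M12_eq_grp.le k.2.2)
  have e2 : (k * g⁻¹).2 = 1 := mul_inv_eq_one.2 (Subtype.ext e.symm)
  rw [← (gen pC lC).mul_mem_cancel_right ((gen pC lC).inv_mem hg)]
  rcases snd_one e2 with h | h <;> rw [h]
  · exact one_mem _
  · exact el_mem_gen pC (by decide)

theorem cen_z (k : PC) (h : k * pC 6 = pC 6 * k) : ∃ w ∈ LK, k = ev pC w := by
  have key : forceL (LK.map pwC) (fun C => allI (nat_lit 5) (nat_lit 32) (nat_lit 24) m12CertL 0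
      [(nthD LC (idP (nat_lit 5) (nat_lit 24)) 6, nthD LC (idP (nat_lit 5) (nat_lit 24)) 6)] []
      fun H => memL C (Nat.mul 2 H) && memL C (Nat.add (Nat.mul 2 H) 1)) = true := by decide +kernel
  rw [forceL_eq] at key
  have h2 := m12_chain.forall_of_allI (GE.fixes_zero _) key k.2 k.2.2 ⟨fun c hc => by
    rw [List.mem_singleton.1 hc]
    exact congrArg (fun k : PC => (k.2 : Equiv.Perm GolayPt)) h, fun _ hd => absurd hd List.not_mem_nil⟩
  rw [Bool.and_eq_true, memL_iff, memL_iff] at h2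
  refine eq_ev ?_
  rw [cd]
  generalize GE.pk _ = P at h2 ⊢
  rcases (by have := val_lt k; omega : (Multiplicative.toAdd k.1).val = 0 ∨ (Multiplicative.toAdd k.1).val = 1)
    with e | e <;> rw [e]
  exacts [h2.1, h2.2]

theorem mem_T {k : PC} (h : k ∈ gen pC lT) : ∃ w ∈ LT, k = ev pC w := by
  have key : forceL (LT.map pwC) (fun C => allL lT fun n => force (pwC [n]) fun a => allL C fun c =>
      force (mulC a c) (memL C)) = true := by decide +kernel
  simp only [forceL_eq, force_eq, allL_iff, memL_iff] at key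
  have step : ∀ n ∈ lT, ∀ y : PC, cd y ∈ LT.map pwC → cd (pC n * y) ∈ LT.map pwC := fun n hn y hy => by
    rw [cd_mul, ← ev_one pC n, cd_ev]; exact key n hn _ hy
  refine eq_ev ?_
  induction h using closure_induction_left with
  | one => exact List.mem_map.2 ⟨[], by decide, (cd_ev []).symm⟩
  | mul_left x hx y _ ih =>
    obtain ⟨n, hn, rfl⟩ := hx
    exact step n hn y ih
  | inv_mul_cancel x hx y _ ih =>
    obtain ⟨n, hn, rfl⟩ := hx
    have : (pC n)⁻¹ = pC n :=
      inv_eq_of_mul_eq_one_right (rule_sq MC.rule ((by decide : ∀ n ∈ lT, n ≤ 9) n hn))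
    rw [this]; exact step n hn y ih

theorem card_T : Nat.card (gen pC lT) = 128 := by
  refine le_antisymm ((card_le _ cd_inj (L := LT.map pwC) fun g hg => ?_).trans (by decide +kernel)) ?_
  · obtain ⟨w, hw, rfl⟩ := mem_T hg
    exact cd_ev w ▸ List.mem_map_of_mem hw
  · have key : forceL (LT.map pwC) (fun C => decide C.Nodup) = true := by decide +kernel
    rw [forceL_eq, decide_eq_true_eq, ← funext cd_ev, ← Function.comp_def cd, ← List.map_map] at key
    refine le_trans (by decide +kernel) (length_le_card key.of_map fun g hg => ?_)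
    obtain ⟨w, hw, rfl⟩ := List.mem_map.1 hg
    exact ev_mem MC.rule (fun _ hn => el_mem_gen pC hn)
      ((by decide +kernel : ∀ w ∈ LT, okw lT w = true) w hw)

theorem not_comm : pC 12 * pC 6 ≠ pC 6 * pC 12 := fun h =>
  absurd (cm_of h) (by rw [← ev_one pC 12, ← ev_one pC 6, cd_ev, cd_ev]; decide +kernel)

theorem center_C (k : PC) (h : ∀ g : PC, g * k = k * g) : k = 1 ∨ k = pC 1 := by
  have := simple_M12
  refine snd_one ?_
  rcases (inferInstance : (center Spor.M12).Normal).eq_bot_or_eq_top with e | e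
  · exact mem_bot.1 (e ▸ mem_center_iff.2 fun g => congrArg Prod.snd (h (1, g)))
  · exact absurd (Prod.ext (mul_comm _ _) (mem_center_iff.1 (e ▸ mem_top _) _)) not_comm

theorem odd_normal (N : Subgroup PC) (hN : N.Normal) (ho : Odd (Nat.card N)) : N = ⊥ := by
  have := simple_M12
  rcases (hN.map (MonoidHom.snd _ _) Prod.snd_surjective).eq_bot_or_eq_top with e | e
  · refine eq_bot_iff.2 fun k hk => mem_bot.2 ?_
    have h2 : k * k = 1 := by
      rcases snd_one (k := k) (mem_bot.1 (e.le (mem_map_of_mem _ hk))) with h | h <;> rw [h]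
      exacts [mul_one _, rule_sq MC.rule (by decide)]
    exact orderOf_eq_one_iff.1 (Nat.eq_one_of_dvd_coprimes (Nat.coprime_two_left.2 ho)
      (orderOf_dvd_of_pow_eq_one ((pow_two k).trans h2)) (N.orderOf_dvd_natCard hk))
  · have h := N.card_map_dvd (MonoidHom.snd _ _)
    rw [e, card_top, card_M12] at h
    exact absurd (ho.of_dvd_nat h) (by decide)

theorem rk2_C : Rk2 (pC 1) := by
  have key : forceL (LT.map pwC) (fun C => forceL [pwC [], pwC [1], pwC [6], pwC [1, 6]] fun Z =>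
      allL C fun a => bimp (!(memL Z a) && Nat.beq (mulC a a) (pwC []))
        (forceL (C.filter (cm a)) fun Ca => forceL (Z ++ Z.map (mulC a)) fun Za =>
          allL Ca fun b => bimp (!(memL Za b) && Nat.beq (mulC b b) (pwC []))
            (Nat.ble (Ca.filter (cm b)).length 16))) = true := by decide +kernel
  simp only [forceL_eq, allL_iff, bimp_iff, Bool.and_eq_true, Bool.not_eq_true', ← Bool.not_eq_true,
    memL_iff, beq_iff, ble_iff] at key
  intro E hE h16 _ c k hc _ hcE
  have : Fact (Nat.Prime 2) := ⟨Nat.prime_two⟩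
  have hab : ∀ a ∈ E, ∀ b ∈ E, a * b = b * a := fun a ha b hb => by
    rw [← inv_eq_of_mul_eq_one_right (hE _ (E.mul_mem ha hb)), mul_inv_rev,
      inv_eq_of_mul_eq_one_right (hE a ha), inv_eq_of_mul_eq_one_right (hE b hb)]
  have hcc : zpowers c ≤ centralizer (E : Set PC) := zpowers_le.2 fun g hg => (hcE g hg).symm
  have hcen : zpowers c ⊔ E ≤ centralizer (E : Set PC) := sup_le hcc fun g hg e he => hab e he g hg
  have hP : IsPGroup 2 ↥(zpowers c ⊔ E) := by
    refine IsPGroup.to_sup_of_normal_right' ?_ (fun g => ⟨1, Subtype.ext ((pow_two _).trans (hE g g.2))⟩)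
      (hcc.trans (centralizer_le_normalizer _))
    obtain ⟨j, -, hj⟩ := (Nat.dvd_prime_pow Nat.prime_two).1 (orderOf_dvd_of_pow_eq_one hc)
    exact IsPGroup.of_card ((Nat.card_zpowers c).trans hj)
  have hT : IsPGroup 2 (gen pC lT) := IsPGroup.of_card (n := 7) card_T
  have hi := (gen pC lT).card_mul_index
  rw [card_T, card_PC] at hi
  obtain ⟨g, hg⟩ := H43.exists_conj_le_sylow (hT.toSylow (by omega)) hP
  have finj : Function.Injective fun y : PC => cd (g * y * g⁻¹) := cd_inj.comp (MulAut.conj g).injective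
  have hin : ∀ y ∈ zpowers c ⊔ E, cd (g * y * g⁻¹) ∈ LT.map pwC := fun y hy => by
    obtain ⟨w, hw, e⟩ := mem_T (hg y hy)
    rw [e, cd_ev]; exact List.mem_map_of_mem hw
  have hsq : ∀ y ∈ E, mulC (cd (g * y * g⁻¹)) (cd (g * y * g⁻¹)) = pwC [] := fun y hy => by
    rw [← cd_mul, ← cd_ev, conj_mul, hE y hy, mul_one, mul_inv_cancel]; rfl
  have hcm : ∀ e ∈ E, ∀ y ∈ zpowers c ⊔ E, cm (cd (g * e * g⁻¹)) (cd (g * y * g⁻¹)) = true :=
    fun e he y hy => cm_of (by rw [conj_mul, conj_mul, hcen hy e he])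
  have hex : ∀ L : List ℕ, L.length < 16 → ∃ a ∈ E, cd (g * a * g⁻¹) ∉ L := fun L hL => by
    by_contra hc
    push Not at hc
    exact absurd (h16.trans (card_le E finj hc)) (by omega)
  obtain ⟨a, ha, na⟩ := hex [pwC [], pwC [1], pwC [6], pwC [1, 6]] (by decide)
  obtain ⟨b, hb, nb⟩ := hex ([pwC [], pwC [1], pwC [6], pwC [1, 6]] ++
    [pwC [], pwC [1], pwC [6], pwC [1, 6]].map (mulC (cd (g * a * g⁻¹)))) (by simp)
  have hle : E ≤ zpowers c ⊔ E := le_sup_right
  have h1 := key _ (hin a (hle ha)) ⟨na, hsq a ha⟩ _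
    (List.mem_filter.2 ⟨hin b (hle hb), hcm a ha b (hle hb)⟩) ⟨nb, hsq b hb⟩
  have h2 := card_le (zpowers c ⊔ E) finj fun y hy =>
    List.mem_filter.2 ⟨List.mem_filter.2 ⟨hin y hy, hcm a ha y hy⟩, hcm b hb y hy⟩
  exact eq_of_le_of_card_ge hle (h2.trans (h1.trans h16)) ▸ mem_sup_left (mem_zpowers c)

theorem exists_aut : ∃ α : PC ≃* PC, ∀ n ∈ lC, α (pC n) = ev pC (sig n) := by
  have hπ : pi ∈ normalizer (Spor.M12 : Set (Equiv.Perm GolayPt)) := by
    refine mem_normalizer_fintype fun g hg => ?_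
    have h : gen pC lC ≤ Spor.M12.comap ((MulAut.conj pi).toMonoidHom.comp
        (Spor.M12.subtype.comp (MonoidHom.snd _ _))) := gen_le fun n hn => by
      have := (ev pC (sig n)).2.2
      rwa [← pi_conj n hn] at this
    exact h (x := (1, ⟨g, hg⟩)) (gen_C ▸ mem_top _)
  refine ⟨MulEquiv.prodCongr (MulEquiv.refl _) (Spor.M12.normalizerMonoidHom ⟨pi, hπ⟩), fun n hn =>
    Prod.ext ?_ (Subtype.ext (pi_conj n hn))⟩
  rw [ev_pC_fst, ← ev_one pC n]
  refine (ev_pC_fst [n]).trans ?_
  rw [(by decide +kernel : ∀ n ∈ lC, [n].count 1 = (sig n).count 1) n hn]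

end Cfsg.Agent.CONW.Y
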