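import Cfsg.Agent.CONW.YB1
import Cfsg.Agent.CONW.Cert.ZN

/-! The second stage: the normaliser of the four-group `V`. -/

set_option autoImplicit false
set_option maxRecDepth 100000

namespace Cfsg.Agent.CONW.Y

open Cfsg.Agent.H58 Cfsg.Agent.H78 Subgroup

section

variable {G : Type*} [Group G] {el : ℕ → G} {θ : PC →* G}

def lN0 : List ℕ := [1, 2, 3, 4, 5, 6, 7, 8, 9, 12, 14, 16]

/-- the relations for `f` -/
def relsF : List (List ℕ) := [[16, 1, 17, 7, 8, 4, 2, 1], [16, 2, 17, 6, 5, 8, 4, 1], [16, 4, 17, 7, 6, 15, 8, 2],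
  [16, 8, 17, 7, 15, 5, 8, 1], [16, 5, 17, 7, 5, 8, 4, 2], [16, 14, 17, 15], [16, 6, 17, 6], [16, 7, 17, 7],
  [16, 16, 9], [16, 3, 16, 3]]

/-- generators of the normal subgroup of order 256 -/
def gR : List (List ℕ) := [[1], [2], [4], [8], [5], [14], [6], [7]]

/-- the 72 conjugates of `x` -/
def oN : List (List ℕ × List ℕ) :=
  [([], [1]), ([5], [1, 6]), ([14], [1, 7]), ([16], [1, 2, 4, 8, 7]), ([14, 5], [1, 6, 7]), ([16, 5], [1, 2, 4,
  8, 6, 7]), ([16, 14], [1, 2, 4, 8]), ([12, 16], [1, 8, 6]), ([13, 16], [1, 4, 6]), ([8, 16], [1, 2, 4, 8, 6]),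
  ([12, 16, 5], [1, 8, 6, 7]), ([13, 16, 5], [1, 4, 7]), ([12, 16, 14], [1, 8, 7]), ([13, 16, 14], [1, 4]),
  ([16, 12, 16], [2, 4, 5, 14, 6]), ([4, 12, 16], [1, 8]), ([17, 12, 16], [2, 4, 5, 14, 7]), ([14, 13, 16], [1,
  4, 6, 7]), ([16, 13, 16], [1, 4, 14, 6]), ([17, 13, 16], [1, 4, 14, 6, 7]), ([16, 12, 16, 5], [2, 4, 5, 14, 6,
  7]), ([17, 12, 16, 5], [2, 4, 5, 14]), ([16, 13, 16, 5], [1, 4, 14, 7]), ([17, 13, 16, 5], [1, 4, 14]), ([12,
  16, 12, 16], [1, 8, 5, 6]), ([13, 16, 12, 16], [1, 2, 4, 8, 14, 7]), ([12, 17, 12, 16], [1, 8, 5]), ([13, 17,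
  12, 16], [1, 2, 4, 8, 14]), ([12, 16, 13, 16], [5, 14, 6]), ([13, 16, 13, 16], [1, 4, 5]), ([12, 17, 13, 16],
  [5, 14, 7]), ([13, 17, 13, 16], [1, 4, 5, 6]), ([12, 16, 12, 16, 5], [1, 8, 5, 7]), ([13, 16, 12, 16, 5], [1,
  2, 4, 8, 14, 6, 7]), ([12, 17, 12, 16, 5], [1, 8, 5, 6, 7]), ([13, 17, 12, 16, 5], [1, 2, 4, 8, 14, 6]), ([12,
  16, 13, 16, 5], [5, 14]), ([13, 16, 13, 16, 5], [1, 4, 5, 7]), ([12, 17, 13, 16, 5], [5, 14, 6, 7]), ([13, 17,
  13, 16, 5], [1, 4, 5, 6, 7]), ([16, 12, 16, 12, 16], [8, 14, 7]), ([17, 12, 16, 12, 16], [8, 14, 6]), ([16,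
  13, 16, 12, 16], [1, 14]), ([16, 12, 17, 12, 16], [8, 14, 6, 7]), ([17, 12, 17, 12, 16], [8, 14]), ([16, 13,
  17, 12, 16], [1, 14, 7]), ([16, 12, 16, 13, 16], [2, 4, 8, 5, 14, 6, 7]), ([16, 13, 16, 13, 16], [1, 2, 8, 5,
  14, 6, 7]), ([17, 13, 16, 13, 16], [1, 2, 8, 5, 14, 6]), ([16, 12, 17, 13, 16], [2, 4, 8, 5, 14]), ([16, 13,
  17, 13, 16], [1, 2, 8, 5, 14, 7]), ([17, 13, 17, 13, 16], [1, 2, 8, 5, 14]), ([16, 13, 16, 12, 16, 5], [1, 14,
  6]), ([16, 13, 17, 12, 16, 5], [1, 14, 6, 7]), ([16, 12, 16, 13, 16, 5], [2, 4, 8, 5, 14, 7]), ([16, 12, 17,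
  13, 16, 5], [2, 4, 8, 5, 14, 6]), ([13, 16, 12, 16, 12, 16], [2, 5, 6]), ([13, 17, 12, 16, 12, 16], [2, 5, 6,
  7]), ([13, 16, 13, 16, 12, 16], [1, 4, 8, 5]), ([13, 16, 12, 17, 12, 16], [2, 5, 7]), ([13, 17, 12, 17, 12,
  16], [2, 5]), ([13, 16, 13, 17, 12, 16], [1, 4, 8, 5, 6]), ([13, 16, 13, 16, 12, 16, 5], [1, 4, 8, 5, 6, 7]),
  ([13, 16, 13, 17, 12, 16, 5], [1, 4, 8, 5, 7]), ([16, 13, 16, 12, 16, 12, 16], [1, 2, 7]), ([17, 13, 16, 12,
  16, 12, 16], [1, 2, 6, 7]), ([16, 13, 17, 12, 16, 12, 16], [1, 2]), ([17, 13, 17, 12, 16, 12, 16], [1, 2, 6]),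
  ([16, 13, 16, 13, 16, 12, 16], [2]), ([17, 13, 16, 13, 16, 12, 16], [2, 6]), ([16, 13, 16, 13, 16, 12, 16, 5],
  [2, 6, 7]), ([17, 13, 16, 13, 16, 12, 16, 5], [2, 7])]

theorem oN1 : lNC.all (fun n => lN0.contains n && (okw lN0 [n, 1] && okw lN0 [1, n] &&
    Nat.beq (MK.pw [n, 1]) (MK.pw [1, n]))) = true := by decide +kernel

theorem oN2 : oN.all (fun a => okw lN0 a.1 && (okw lN0 (a.1 ++ [1]) && okw lN0 (a.2 ++ a.1) &&
    Nat.beq (MK.pw (a.1 ++ [1])) (MK.pw (a.2 ++ a.1)))) = true := by decide +kernel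

theorem oN3 : ((oN.map Prod.snd).all (okw lV) && decide ((oN.map Prod.snd).map MK.pw).Nodup) = true := by
  decide +kernel

theorem cardY_N : 27648 ≤ Nat.card (gen pY lN0) :=
  (Nat.mul_le_mul_left 72 cardY_NC).trans (card_step_w (MK.gr lN0).toGf (MK.gr lV) lNC 1 oN oN1 oN2 oN3)

structure SG (el : ℕ → G) (θ : PC →* G) : Prop extends CY el θ where
  rV : ∀ w ∈ relsV, ev el w = 1
  rF : ∀ w ∈ relsF, ev el w = 1

theorem conj_of_rel {rels : List (List ℕ)} (R : RuleOK el rels iv) {c : ℕ} {v : List ℕ}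
    (h : [16, c, 17] ++ invw iv v ∈ rels ∧ ∀ n ∈ v, n < 64) : el 16 * ev el [c] * (el 16)⁻¹ = ev el v := by
  have : ev el _ = 1 := R.hrel _ h.1
  rw [ev_append, show ev el (invw iv v) = (ev el v)⁻¹ from prod_invw R.hinv _ h.2, mul_inv_eq_one] at this
  simpa [(rule_inv R).2.2.2.1, mul_assoc] using this

theorem SG.inV [Finite G] (h : SG el θ) {g : List ℕ} (hg : MK.chk [12, 16] g = true) :
    ∃ v ∈ [[], [6], [7], [6, 7]], ev el g = ev el v := by
  have gV := h.grV h.rV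
  have R := rule_pr MK (rule_of h.rule h.rF rfl) (by decide +kernel)
  simp only [Md.chk, Bool.and_eq_true] at hg
  have a := ev_mem R (X := normalizer (grw MK el gR : Set (C3.K × G))) (l := [12, 16]) (fun n hn => by
    rcases List.mem_cons.1 hn with rfl | hn
    · have := gV.nz gR [[1], [2], [2, 4, 8], [4, 6, 7], [2, 8, 14], [1, 2, 4, 8, 5, 14, 6, 7], [7], [6, 7]] [12]
        (by decide +kernel)
      rwa [ev_one, ev_one] at this
    · obtain rfl := List.mem_singleton.1 hn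
      refine nz_of fun w hw => ?_
      obtain ⟨c, -, rfl, v, -, h1, h2⟩ := (by decide +kernel : ∀ w ∈ gR, ∃ c ∈ lV, w = [c] ∧
        ∃ v ∈ [[1, 2, 4, 8, 7], [1, 4, 8, 5, 6], [2, 8, 14, 6, 7], [1, 8, 5, 14, 7], [2, 4, 8, 5, 7], [14], [6], [7]],
          v ∈ subw gR ∧ [16, c, 17] ++ invw iv v ∈ relsF ∧ ∀ n ∈ v, n < 64) w hw
      rw [← ev_pr, conj_of_rel R h2, ev_pr]
      exact mem_grw h1) hg.1.1
  rw [ev_pr, MK.beq g [] hg.2, ev_nil] at a
  have c : ∀ n ∈ [1, 2, 4, 8, 5, 14, 6, 7], ev el g * el n = el n * ev el g := fun n hn =>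
    ev_one el n ▸ gV.cent (gV.grw_le (by decide)) a
      (mem_grw ((by decide +kernel : ∀ n ∈ [1, 2, 4, 8, 5, 14, 6, 7], [n] ∈ subw gR) n hn))
  obtain ⟨w, hw, e⟩ := h.cenV (c 1 (by decide)) (c 6 (by decide)) (c 7 (by decide))
  rw [e] at c ⊢
  exact ⟨w, (by decide +kernel : ∀ w ∈ LD, (∀ n ∈ [2, 4, 8], MC.pw (w ++ [n]) = MC.pw ([n] ++ w)) →
    MK.pw (w ++ [5]) = MK.pw ([5] ++ w) → w ∈ [[], [6], [7], [6, 7]]) w hw
    (fun n hn => h.gr.comm (ok_LD w hw) ((by decide : ∀ n ∈ [2, 4, 8], okw lC [n] = true) n hn)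
      (c n ((by decide : ∀ n ∈ [2, 4, 8], n ∈ [1, 2, 4, 8, 5, 14, 6, 7]) n hn)))
    (gV.comm ((by decide : ∀ w ∈ LD, okw lV w = true) w hw) (by decide) (c 5 (by decide))), rfl⟩

theorem SG.comm (h : SG el θ) {v : List ℕ} (hv : v ∈ [[], [6], [7], [6, 7]]) : Commute (el 16) (ev el v) := by
  have R := rule_of h.rule h.rF rfl
  have a : Commute (el 16) (ev el [6]) := mul_inv_eq_iff_eq_mul.1 (conj_of_rel R (by decide))
  have b : Commute (el 16) (ev el [7]) := mul_inv_eq_iff_eq_mul.1 (conj_of_rel R (by decide))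
  simp only [List.mem_cons, List.not_mem_nil, or_false] at hv
  rcases hv with rfl | rfl | rfl | rfl
  exacts [Commute.one_right _, a, b, ev_append el [6] [7] ▸ a.mul_right b]

theorem SG.six [Finite G] (h : SG el θ) : ev el [16, 12, 16, 12, 16, 12, 16, 12, 16, 12, 16, 12] = 1 := by
  obtain ⟨v, hv, e⟩ := h.inV (g := [16, 12, 16, 12, 16, 12, 16, 12, 16, 12, 16, 12]) (by decide +kernel)
  have c : Commute (el 16 * el 12) (ev el v) := by
    rw [← e, commute_iff_eq]; simp only [ev_cons, ev_nil, mul_one, mul_assoc]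
  have c2 := (h.comm hv).inv_left.mul_left c
  rw [inv_mul_cancel_left] at c2
  rw [e, (by decide +kernel : ∀ v ∈ [[], [6], [7], [6, 7]], MC.pw (v ++ [12]) = MC.pw ([12] ++ v) → v = []) v hv
    (h.gr.comm ((by decide : ∀ v ∈ [[], [6], [7], [6, 7]], okw lC v = true) v hv) (by decide) c2.eq.symm), ev_nil]

theorem SG.three [Finite G] (h : SG el θ) : ev el [12, 16, 13, 17, 12, 16, 13, 17, 12, 16, 13, 17] = 1 ∨
    ev el [12, 16, 13, 17, 12, 16, 13, 17, 12, 16, 13, 17] = ev el [6, 7] := by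
  obtain ⟨v, hv, e⟩ := h.inV (g := [12, 16, 13, 17, 12, 16, 13, 17, 12, 16, 13, 17]) (by decide +kernel)
  obtain ⟨-, iR, -, iF, -⟩ := rule_inv h.rule
  have vi : (el 3)⁻¹ = el 3 := inv_eq_of_mul_eq_one_right (rule_sq h.rule (by decide))
  have a : el 3 * el 16 * (el 3)⁻¹ = (el 16)⁻¹ := by
    rw [vi]; exact eq_inv_of_mul_eq_one_right (by simpa [mul_assoc] using h.rF [16, 3, 16, 3] (by decide))
  have b : el 3 * el 12 * (el 3)⁻¹ = (el 12)⁻¹ := by
    rw [vi]; simpa [mul_assoc, iR] using h.gr.eq [3, 12, 3] [13] (by decide +kernel)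
  have c : el 3 * ev el v * (el 3)⁻¹ = (el 12)⁻¹ * ((el 16)⁻¹ * ev el v * el 16) * el 12 := by
    have a' := congrArg (·⁻¹) a
    have b' := congrArg (·⁻¹) b
    simp only [conj_inv, inv_inv] at a' b'
    rw [← e, conj_ev (fun n => if n = 12 then [13] else if n = 13 then [12] else if n = 16 then [17] else [16]) _
      fun n hn => ?_]
    · simp [iR, iF, mul_assoc]
    · rcases (by decide : ∀ n ∈ [12, 16, 13, 17, 12, 16, 13, 17, 12, 16, 13, 17],
        n = 12 ∨ n = 13 ∨ n = 16 ∨ n = 17) n hn with rfl | rfl | rfl | rfl <;> simp [iR, iF, a, b, a', b']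
  rw [(h.comm hv).inv_left.eq, inv_mul_cancel_right] at c
  have o := (by decide : ∀ v ∈ [[], [6], [7], [6, 7]], okw lC ([12, 3] ++ v) = true ∧
    okw lC (v ++ [12, 3]) = true) v hv
  rw [e]
  rcases (by decide +kernel : ∀ v ∈ [[], [6], [7], [6, 7]], MC.pw ([12, 3] ++ v) = MC.pw (v ++ [12, 3]) →
    v = [] ∨ v = [6, 7]) v hv ((h.gr.iff o.1 o.2).1 (by
      rw [ev_append, ev_append, ev_cons, ev_one, mul_assoc, mul_inv_eq_iff_eq_mul.1 c]; group)) with rfl | rfl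
  exacts [Or.inl rfl, Or.inr rfl]

theorem SG.grN [Finite G] (h : SG el θ) (h3 : ev el [12, 16, 13, 17, 12, 16, 13, 17, 12, 16, 13, 17] = 1) :
    Gr MK el lN0 (gen (pr MK el) lN0) := by
  have c : Finite (gen (pr MK el) lN0) ∧ Nat.card (gen (pr MK el) lN0) ≤ 27648 :=
    card_le_of_relIndex (ZN.relIndex_le (rule_pr MK (rule_or h.rule (or_chk (mem_chk (L := relsF ++ [_, _])
      (List.forall_mem_append.2 ⟨h.rF, List.forall_mem_cons.2 ⟨h.six, List.forall_mem_singleton.2 h3⟩⟩))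
      (h.grV h.rV).chk) (by decide +kernel)) (by decide +kernel)) _ fun _ => el_mem_gen _) (h.card_prV h.rV)
  exact gr_of_card h.rule c cardY_N ((Nat.mul_le_mul_left 72 h.card_NC).trans
    (card_step_w (gf_of_card h.rule c cardY_N) (h.grV h.rV) lNC 1 oN oN1 oN2 oN3))

theorem S1.sg [Finite G] (h : S1 el θ) : SG el θ :=
  ⟨h.toCY, fun w hw => h.rels w ((by decide : ∀ w ∈ relsV, w ∈ rels1) w hw), h.grP.rels _ (by decide +kernel)⟩

def tw (n : ℕ) : List ℕ := if n = 16 then [16, 6] else if n = 17 then [6, 17] else [n]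
def lW : List ℕ := [1, 5, 6, 7, 9, 14, 15, 16, 17]
def sgt (n : ℕ) : List ℕ := [[], [5, 14, 6], [], [], [], [5, 7], [7], [6, 7], [], [6, 7, 9], [], [], [], [], [5, 1, 14, 9], [1, 5, 9, 15], [1, 5, 16, 15], [5, 1, 14, 17]].getD n []
def ssg (n : ℕ) : List ℕ := [[], [5, 16, 6], [], [], [], [5, 9], [9], [6, 9], [], [6, 7], [], [], [], [], [5, 1, 7, 17], [1, 5, 16, 7], [1, 5, 9, 15], [5, 1, 14, 9]].getD n []

theorem tw_upd (R : RuleOK el [] iv) (n : ℕ) : upd el 16 (el 16 * el 6) n = ev el (tw n) ∧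
    el n = ev (upd el 16 (el 16 * el 6)) (tw n) := by
  have zz := rule_sq R (n := 6) (by decide)
  have zi := inv_eq_of_mul_eq_one_right zz
  have iF := (rule_inv R).2.2.2.1
  by_cases c : n = 16
  · subst c
    exact ⟨by simp [tw, upd], show _ = el 16 * el 6 * (el 6 * 1) by rw [mul_one, mul_assoc, zz, mul_one]⟩
  by_cases c' : n = 17
  · subst c'
    exact ⟨show (el 16 * el 6)⁻¹ = el 6 * (el 17 * 1) by rw [mul_inv_rev, zi, iF, mul_one],
      show _ = el 6 * ((el 16 * el 6)⁻¹ * 1) by rw [mul_inv_rev, zi, iF, mul_one, ← mul_assoc, zz, one_mul]⟩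
  · rw [tw, if_neg c, if_neg c', ev_one, ev_one, upd_ne el _ ⟨c, c'⟩]
    exact ⟨rfl, rfl⟩

theorem S1.not_zt [Finite G] (h : S1 el θ) :
    ev el [12, 16, 13, 17, 12, 16, 13, 17, 12, 16, 13, 17] ≠ ev el [6, 7] := fun e => by
  have P := h.grP
  obtain ⟨-, iR, -, iF, -⟩ := rule_inv h.rule
  have k1 : ∀ w, ev (upd el 16 (el 16 * el 6)) w = ev el (w.flatMap tw) := fun w =>
    ev_flat _ _ _ w fun n _ => (tw_upd h.rule n).1
  have k2 : ∀ w, ev el w = ev (upd el 16 (el 16 * el 6)) (w.flatMap tw) := fun w =>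
    ev_flat _ _ _ w fun n _ => (tw_upd h.rule n).2
  have h' : SG (upd el 16 (el 16 * el 6)) θ := ⟨h.upd (by decide) fun e => absurd e (by decide),
    fun w hw => (ev_upd el 16 _ ((by decide : ∀ w ∈ relsV, ∀ n ∈ w, n ≠ 16 ∧ n ≠ ivf iv 16) w hw)).trans
      (h.sg.rV w hw), fun w hw => (k1 w).trans (P.chk _ ((by decide +kernel : ∀ w ∈ relsF,
        MK.chk lP (w.flatMap tw) = true) w hw))⟩
  have N := h'.grN (by
    have c1 : Commute (el 16) (ev el [6, 7]) := h.sg.comm (by decide)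
    have c2 : Commute (el 12 * el 16 * (el 12)⁻¹) (ev el [6, 7]) := by
      rw [← h.gr.eq [12, 7, 13] [6, 7] (by decide +kernel), ev_cons, ev_cons, ev_one, iR, ← mul_assoc]
      exact Commute.conj (ev_one el 7 ▸ h.sg.comm (v := [7]) (by decide)) _
    have a : ev el [12, 16, 13, 17] = el 12 * el 16 * (el 12)⁻¹ * (el 16)⁻¹ := by simp [iR, iF, mul_assoc]
    have c3 : Commute (ev el [12, 16, 13, 17]) (ev el [6, 7]) := a ▸ c2.mul_left c1.inv_left
    have b : ev (upd el 16 (el 16 * el 6)) [12, 16, 13, 17] = ev el [12, 16, 13, 17] * ev el [6, 7] := by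
      have b1 : ev el [6, 13, 6] = ev el ([13] ++ [6, 7]) := h.gr.eq _ _ (by decide +kernel)
      rw [k1, a, mul_assoc _ (el 16)⁻¹, c1.inv_left.eq]
      change ev el ([12, 16] ++ [6, 13, 6] ++ [17]) = _
      rw [ev_append, ev_append, b1, ev_append]; simp [iR, iF, mul_assoc]
    have e3 : ∀ el : ℕ → G, ev el [12, 16, 13, 17, 12, 16, 13, 17, 12, 16, 13, 17] = ev el [12, 16, 13, 17] ^ 3 :=
      fun el => by simp [pow_succ, mul_assoc]
    rw [e3, b, c3.mul_pow, ← e3, e, ← pow_succ']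
    simpa [pow_succ, mul_assoc] using h.gr.eq [6, 7, 6, 7, 6, 7, 6, 7] [] (by decide +kernel))
  have a1 : Act el (el 10 * ev (upd el 16 (el 16 * el 6)) [12, 16, 13, 17, 12]) lW ssg := fun c hc => by
    obtain ⟨b1, b2⟩ := (by decide +kernel : ∀ c ∈ lW, (okw lN0 ([12, 16, 13, 17, 12] ++ [c].flatMap tw) &&
      okw lN0 ((sgt c).flatMap tw ++ [12, 16, 13, 17, 12]) && Nat.beq (MK.pw ([12, 16, 13, 17, 12] ++ [c].flatMap tw))
        (MK.pw ((sgt c).flatMap tw ++ [12, 16, 13, 17, 12]))) = true ∧ (okw lP ([10] ++ sgt c) &&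
      okw lP (ssg c ++ [10]) && Nat.beq (MK.pw ([10] ++ sgt c)) (MK.pw (ssg c ++ [10]))) = true) c hc
    have e1 := N.eq _ _ b1
    have e2 := P.eq _ _ b2
    rw [ev_append, ev_append, ← k2, ← k2, ev_one] at e1
    rw [ev_append, ev_append, ev_one] at e2
    rw [← mul_inv_eq_iff_eq_mul.2 e2, ← mul_inv_eq_iff_eq_mul.2 e1]; group
  have a3 := a1.cube (by decide)
  generalize el 10 * ev (upd el 16 (el 16 * el 6)) [12, 16, 13, 17, 12] = g at a3
  have a4 : ∀ v w : List ℕ, (∀ n ∈ v, n ∈ lW) → (okw lP ([5] ++ v.flatMap (cub ssg)) && okw lP (w ++ [5]) &&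
      Nat.beq (MK.pw ([5] ++ v.flatMap (cub ssg))) (MK.pw (w ++ [5]))) = true →
      el 5 * (g * g * g) * ev el v = ev el w * (el 5 * (g * g * g)) := fun v w hv hd => by
    have := P.eq _ _ hd
    rw [ev_append, ev_append, ev_one, ← a3.ev hv] at this
    rw [← mul_assoc (ev el w), ← this]; group
  obtain ⟨w, hw, e1⟩ := h.cenA (ev_one el 1 ▸ a4 [1] [1] (by decide) (by decide +kernel))
    (ev_one el 6 ▸ a4 [6] [6] (by decide) (by decide +kernel)) (ev_one el 7 ▸ a4 [7] [7] (by decide) (by decide +kernel))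
    (ev_one el 9 ▸ a4 [9] [9] (by decide) (by decide +kernel))
  have := a4 [5, 1] [5, 1, 7, 9] (by decide) (by decide +kernel)
  rw [e1, ← ev_append, ← ev_append] at this
  exact P.ne _ _ ((by decide +kernel : ∀ w ∈ LE, (okw lP (w ++ [5, 1]) && okw lP ([5, 1, 7, 9] ++ w) &&
    !Nat.beq (MK.pw (w ++ [5, 1])) (MK.pw ([5, 1, 7, 9] ++ w))) = true) w hw) this

end

theorem S1.exists_s2 {G : Type*} [Group G] [Finite G] {el : ℕ → G} {θ : PC →* G} (h : S1 el θ) :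
    ∃ el' : ℕ → G, S2 el' θ := by
  have N := h.sg.grN (h.sg.three.resolve_right h.not_zt)
  have h' := (h.toCY.upd (i := 18) (by decide) (g := ev el [1, 16, 12, 16, 12, 17, 13, 16, 13])
    fun e => absurd e (by decide)).upd (i := 20) (by decide) (g := ev el [12, 16, 12, 14, 16, 12])
    fun e => absurd e (by decide)
  have k : ∀ n < 18, upd (upd el 18 (ev el [1, 16, 12, 16, 12, 17, 13, 16, 13])) 20
      (ev el [12, 16, 12, 14, 16, 12]) n = el n := fun n hn => by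
    rw [upd_ne _ _ ⟨by omega, by change n ≠ 21; omega⟩, upd_ne _ _ ⟨by omega, by change n ≠ 19; omega⟩]
  have N' := N.congr h'.rule fun n hn => k n ((by decide : ∀ n ∈ lN0, n < 18) n hn)
  refine ⟨_, h', ⟨_, h.grP.congr h'.rule fun n hn => k n ((by decide : ∀ n ∈ lP, n < 18) n hn)⟩,
    _, N'.mono fun n hn => ?_⟩
  rcases (by decide : ∀ n ∈ lN, n ∈ lN0 ∨ n = 18 ∨ n = 20) n hn with c | rfl | rfl
  · exact N'.mem n c
  · have := N.pair (w := [1, 16, 12, 16, 12, 17, 13, 16, 13]) (by decide)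
    rwa [← MK.beq [18] _ (by decide +kernel), ev_one] at this
  · have := N.pair (w := [12, 16, 12, 14, 16, 12]) (by decide)
    rwa [← MK.beq [20] _ (by decide +kernel), ev_one] at this

end Cfsg.Agent.CONW.Y
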