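import Cfsg.Agent.CONW.YK

/-! The centraliser of the four-group: facts on words. -/

set_option autoImplicit false
set_option maxRecDepth 100000

namespace Cfsg.Agent.CONW.Y

open Cfsg.Agent.H58 Subgroup

namespace V45

/-- the four-group -/
def LV : List (List ℕ) := subw [[6], [7]]
/-- coset representatives of `C(x, z, t)` in `R` -/
def L4 : List (List ℕ) := subw [[5], [14]]
/-- the 256 elements of `R` -/
def LR : List (List ℕ) := L4.flatMap fun k => LD.map (k ++ ·)
/-- `R` modulo the four-group -/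
def LA : List (List ℕ) := subw [[5], [14], [1], [2], [4], [8]]
/-- the elements of order 3 -/
def H9 (i : Fin 9) : List ℕ :=
  [[], [20], [21], [18], [18, 20], [18, 21], [19], [19, 20], [19, 21]].getD i []
/-- square roots in `N` of the other involutions of `R` -/
def LQ : List (List ℕ) := [[], [14], [16], [1, 5], [2, 4], [14, 16], [17, 20], [17, 18], [16, 19], [16, 21],
  [12, 16, 13], [13, 16, 12], [8, 16, 8], [1, 5, 16], [9, 21, 17], [3, 4, 17], [16, 19, 20], [2, 16, 18],
  [17, 2, 19], [18, 17, 21], [3, 8, 16], [9, 20, 16], [13, 16, 12, 21], [3, 14, 16, 18], [2, 16, 20, 18],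
  [12, 17, 13, 20], [3, 16, 18, 14], [3, 16, 18, 15], [1, 4, 21, 17], [3, 18, 15, 17], [3, 17, 19, 4],
  [3, 8, 17, 19], [1, 4, 16, 18], [1, 8, 16, 18], [1, 16, 4, 19], [1, 16, 8, 19], [3, 14, 18, 17],
  [3, 4, 17, 19], [3, 14, 16, 19], [1, 8, 20, 16]]
/-- conjugating elements for the involutions of `R f` -/
def L32 : List (List ℕ) := [[], [8], [4], [2], [1], [14], [5], [1, 8], [1, 4], [1, 2], [14, 8], [14, 4],
  [14, 2], [14, 1], [5, 8], [5, 4], [5, 2], [5, 1], [5, 14], [14, 1, 8], [14, 1, 4], [14, 1, 2], [5, 1, 8],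
  [5, 1, 4], [5, 1, 2], [5, 14, 8], [5, 14, 4], [5, 14, 2], [5, 14, 1], [5, 14, 1, 8], [5, 14, 1, 4],
  [5, 14, 1, 2]]
/-- the conjugate of the word `w` by the word `g` -/
def cw (g w : List ℕ) : List ℕ := g ++ (w ++ (g.map (ivf iv)).reverse)

theorem chkX : LR.all (fun w => !Nat.beq (MK.pw (w ++ w)) (MK.pw []) ||
    ((List.finRange 9).any fun i => [[], [5, 16]].any fun e => L4.any fun k =>
      Nat.beq (MK.pw w) (MK.pw (cw (H9 i ++ (e ++ k)) [1]))) ||
    LQ.any fun g => Nat.beq (MK.pw w) (MK.pw (g ++ g))) = true := by decide +kernel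

theorem chkX' : LR.all (fun w => !Nat.beq (MK.pw ((w ++ [5, 16]) ++ (w ++ [5, 16]))) (MK.pw []) ||
    L32.any fun k => Nat.beq (MK.pw (w ++ [5, 16])) (MK.pw (cw k [5, 16]))) = true := by decide +kernel

theorem chkF : (List.finRange 9).all (fun i => i == 0 || Nat.ble (LA.filter fun w =>
    LV.any fun u => Nat.beq (MK.pw (w ++ H9 i)) (MK.pw ((H9 i ++ w) ++ u))).length 4) = true := by
  decide +kernel

theorem chkS : LA.all (fun w => LV.any fun u => Nat.beq (MK.pw (w ++ w)) (MK.pw ([] ++ u))) = true := by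
  decide +kernel

theorem chkN : LA.all (fun v => LA.all fun w => v == w ||
    LV.all fun u => !Nat.beq (MK.pw v) (MK.pw (w ++ u))) = true := by decide +kernel

theorem chkK : LK.all (fun w => !Nat.beq (MC.pw (w ++ [7])) (MC.pw ([8, 6] ++ w))) = true := by
  decide +kernel

end V45

end Cfsg.Agent.CONW.Y
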