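import Cfsg.Agent.CONW.YV1
import Cfsg.Agent.CONW.YV2

/-! The centraliser of the four-group `<z, t>` is the group generated by the letters `lB`. -/

set_option autoImplicit false
set_option maxRecDepth 100000

namespace Cfsg.Agent.CONW.Y

open Cfsg.Agent.H58 Subgroup

namespace V45

variable {G : Type*} [Group G] {el : ℕ → G} {θ : PC →* G}

theorem ev_cw (R : RuleOK el [] iv) {l g : List ℕ} (hg : okw l g = true) (w : List ℕ) :
    ev el (cw g w) = ev el g * ev el w * (ev el g)⁻¹ := by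
  have : ev el (g.map (ivf iv)).reverse = (ev el g)⁻¹ := by
    induction g with
    | nil => simp
    | cons n g ih =>
      rw [okw, List.all_cons, Bool.and_eq_true, Bool.and_eq_true, Nat.blt_eq] at hg
      rw [List.map_cons, List.reverse_cons, ev_append, ih hg.2, ev_one, R.hinv n hg.1.1, ev_cons, mul_inv_rev]
  rw [cw, ev_append, ev_append, this, mul_assoc]

theorem okN {w : List ℕ} (h : okw lB w = true) : okw lN w = true := by
  rw [okw, List.all_eq_true] at h ⊢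
  intro n hn
  have := h n hn
  simp only [Bool.and_eq_true, Bool.or_eq_true, List.contains_iff_mem] at this ⊢
  exact ⟨this.1, this.2.imp ((by decide : ∀ n ∈ lB, n ∈ lN) _) ((by decide : ∀ n ∈ lB, n ∈ lN) _)⟩

theorem card_le_length {X : Subgroup G} {L : List G} (h : ∀ g ∈ X, g ∈ L) : Nat.card X ≤ L.length := by
  classical
  refine le_trans ?_ (List.toFinset_card_le L)
  rw [← Set.ncard_coe_finset]
  exact Set.ncard_le_ncard (s := (X : Set G)) (fun y hy => List.mem_toFinset.2 (h y hy)) (Finset.finite_toSet _)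

theorem iffN (h : S2 el θ) {v w : List ℕ} (hv : okw lN v = true) (hw : okw lN w = true) :
    ev el v = ev el w ↔ Nat.beq (MK.pw v) (MK.pw w) = true := by
  obtain ⟨Δ, hN⟩ := h.grN
  rw [hN.iff hv hw, Nat.beq_eq]

theorem eqN (h : S2 el θ) (v w : List ℕ)
    (hd : (okw lN v && okw lN w && Nat.beq (MK.pw v) (MK.pw w)) = true) : ev el v = ev el w := by
  obtain ⟨Δ, hN⟩ := h.grN
  exact hN.eq v w hd

theorem eqP (h : S2 el θ) (v w : List ℕ)
    (hd : (okw lP v && okw lP w && Nat.beq (MK.pw v) (MK.pw w)) = true) : ev el v = ev el w := by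
  obtain ⟨Δ, hN⟩ := h.grP
  exact hN.eq v w hd

/-- the centraliser of `z` and `t` -/
def YY (el : ℕ → G) : Subgroup G := centralizer {el 6, el 7}

theorem memY {g : G} : g ∈ YY el ↔ g * el 6 = el 6 * g ∧ g * el 7 = el 7 * g := by
  simp [YY, mem_centralizer_iff, eq_comm]

theorem evY (h : S2 el θ) {w : List ℕ} (hw : okw lB w = true) : ev el w ∈ YY el := by
  refine ev_mem h.rule (fun n hn => ?_) hw
  have := (by decide +kernel : ∀ n ∈ lB, (okw lN [n, 6] && okw lN [6, n] &&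
    Nat.beq (MK.pw [n, 6]) (MK.pw [6, n])) = true ∧ (okw lN [n, 7] && okw lN [7, n] &&
    Nat.beq (MK.pw [n, 7]) (MK.pw [7, n])) = true) n hn
  exact memY.2 ⟨by simpa using eqN h _ _ this.1, by simpa using eqN h _ _ this.2⟩

theorem cenV {g v : G} (hg : g ∈ YY el) (hv : v ∈ gen el [6, 7]) : g * v = v * g :=
  E45.comm_closure (fun s hs => by
    obtain ⟨n, hn, rfl⟩ := hs
    rcases (by simpa using hn : n = 6 ∨ n = 7) with rfl | rfl
    exacts [(memY.1 hg).1, (memY.1 hg).2]) v hv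

theorem ok_LV : ∀ w ∈ LV, okw lB w = true ∧ okw [6, 7] w = true := by decide +kernel
theorem LR_eq : LR = LA.flatMap fun v => LV.map (v ++ ·) := by decide +kernel
theorem ok_LR (w : List ℕ) (hw : w ∈ LR) : okw lB w = true ∧ ∃ v ∈ LA, ∃ u ∈ LV, w = v ++ u := by
  refine ⟨List.all_eq_true.1 (by decide +kernel : LR.all (okw lB) = true) w hw, ?_⟩
  obtain ⟨v, hv, h⟩ := List.mem_flatMap.1 (LR_eq ▸ hw)
  obtain ⟨u, hu, e⟩ := List.mem_map.1 h
  exact ⟨v, hv, u, hu, e.symm⟩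
theorem mem_LR {w : List ℕ} (hw : w ∈ LA) : w ∈ LR :=
  LR_eq ▸ List.mem_flatMap.2 ⟨w, hw, List.mem_map.2 ⟨[], by decide, List.append_nil w⟩⟩
theorem ok_LA (w : List ℕ) (hw : w ∈ LA) : okw lB w = true ∧ w ∈ LR := ⟨(ok_LR w (mem_LR hw)).1, mem_LR hw⟩
theorem ok_H9 : ∀ i, okw lB (H9 i) = true := by decide +kernel

theorem memV [Finite G] (h : S2 el θ) {g : G} : g ∈ gen el [6, 7] ↔ ∃ v ∈ LV, g = ev el v := by
  refine ⟨fun hg => ?_, fun ⟨v, hv, e⟩ => e ▸ ev_mem h.rule (fun _ => el_mem_gen el) (ok_LV v hv).2⟩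
  rw [gen, ← mem_toSubmonoid, closure_toSubmonoid_of_finite] at hg
  induction hg using Submonoid.closure_induction_left with
  | one => exact ⟨[], by decide, rfl⟩
  | mul_left s hs g _ ih =>
    obtain ⟨n, hn, rfl⟩ := hs
    obtain ⟨v, hv, rfl⟩ := ih
    obtain ⟨u, hu, e⟩ := (by decide +kernel : ∀ n ∈ [6, 7], ∀ v ∈ LV, ∃ u ∈ LV, (okw lN (n :: v) && okw lN u &&
      Nat.beq (MK.pw (n :: v)) (MK.pw u)) = true) n hn v hv
    exact ⟨u, hu, eqN h _ _ e⟩

theorem cenD (h : S2 el θ) {g k : G} (hg : g ∈ YY el) (hk : k ∈ YY el)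
    (e : g * el 1 * g⁻¹ = k * el 1 * k⁻¹) : ∃ d ∈ LD, g = k * ev el d := by
  have hy := memY.1 (mul_mem (inv_mem hk) hg)
  obtain ⟨d, hd, e'⟩ := h.cenV (g := k⁻¹ * g) (by
    calc _ = k⁻¹ * (g * el 1 * g⁻¹) * g := by group
      _ = _ := by rw [e]; group) hy.1 hy.2
  exact ⟨d, hd, by rw [← e', mul_inv_cancel_left]⟩

theorem listR (h : S2 el θ) {g : G} (hg : g ∈ YY el) {v : List ℕ} (hv : v ∈ LV)
    (e : g * el 1 * g⁻¹ = ev el ([1] ++ v)) : ∃ w ∈ LR, g = ev el w := by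
  obtain ⟨k, hk, hB, e'⟩ := (by decide +kernel : ∀ v ∈ LV, ∃ k ∈ L4, okw lB k = true ∧ (okw lN ([1] ++ v) &&
    okw lN (cw k [1]) && Nat.beq (MK.pw ([1] ++ v)) (MK.pw (cw k [1]))) = true) v hv
  obtain ⟨d, hd, rfl⟩ := cenD h hg (evY h hB) (by rw [e, eqN h _ _ e', ev_cw h.rule hB, ev_one])
  exact ⟨k ++ d, List.mem_flatMap.2 ⟨k, hk, List.mem_map_of_mem hd⟩, (ev_append _ _ _).symm⟩

theorem conjX (h : S2 el θ) {w : List ℕ} (hw : w ∈ LR) (hc : IsConj (el 1) (ev el w)) :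
    ∃ i, ∃ e ∈ [[], [5, 16]], ∃ k ∈ L4, okw lB (H9 i ++ (e ++ k)) = true ∧
      ev el w = ev el (H9 i ++ (e ++ k)) * el 1 * (ev el (H9 i ++ (e ++ k)))⁻¹ := by
  have hB := okN (ok_LR w hw).1
  have := List.all_eq_true.1 chkX w hw
  simp only [Bool.or_eq_true, List.any_eq_true, Bool.not_eq_true'] at this
  rcases this with (c | ⟨i, -, e, he, k, hk, c⟩) | ⟨g, hg, c⟩
  · obtain ⟨a, ha⟩ := isConj_iff.1 hc
    rw [(iffN h (okw_app hB hB) rfl).1 (by
      rw [ev_append, ← ha, conj_mul, rule_sq h.rule (by decide)]; simp)] at c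
    exact absurd c (by decide)
  · obtain ⟨o1, o2⟩ := (by decide +kernel : ∀ i, ∀ e ∈ [[], [5, 16]], ∀ k ∈ L4,
      okw lB (H9 i ++ (e ++ k)) = true ∧ okw lN (cw (H9 i ++ (e ++ k)) [1]) = true) i e he k hk
    exact ⟨i, e, he, k, hk, o1, by rw [(iffN h hB o2).2 c, ev_cw h.rule o1, ev_one]⟩
  · have o := (by decide +kernel : ∀ g ∈ LQ, okw lN (g ++ g) = true) g hg
    exact absurd ((ev_append el g g).symm.trans ((iffN h hB o).2 c).symm) (h.nsq hc _)

theorem jj (h : S2 el θ) : ev el [5, 16] * ev el [5, 16] = 1 :=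
  (ev_append _ _ _).symm.trans (eqN h _ [] (by decide +kernel))

theorem conj_j (h : S2 el θ) :
    ev el [5, 16] = el 10 * ev el [19, 21] * el 1 * (el 10 * ev el [19, 21])⁻¹ := by
  have e1 := eqN h (cw [19, 21] [1]) [5, 14] (by decide +kernel)
  have e2 := eqP h (cw [10] [5, 14]) [5, 16] (by decide +kernel)
  rw [ev_cw h.rule (l := lP) (by decide +kernel), ← e1, ev_cw h.rule (l := lN) (by decide +kernel), ev_one,
    ev_one] at e2
  rw [← e2]; group

theorem not_j (h : S2 el θ) {y : G} (hy : y ∈ YY el) : y * el 1 * y⁻¹ ≠ ev el [5, 16] := by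
  intro e
  rw [conj_j h] at e
  have hm := memY.1 (evY h (w := [19, 21]) (by decide +kernel))
  have hs : el 10 * el 6 = el 6 * el 10 := by simpa using eqP h [10, 6] [6, 10] (by decide +kernel)
  have e1 : el 7 * el 10 = el 10 * ev el [7, 9] := by
    simpa using eqP h [7, 10] [10, 7, 9] (by decide +kernel)
  have e2 : ev el [7, 9] * ev el [19, 21] = ev el [19, 21] * ev el [8, 6] := by
    rw [← ev_append, ← ev_append]; exact eqN h _ _ (by decide +kernel)
  obtain ⟨w, hw, e'⟩ := h.cenz (g := (el 10 * ev el [19, 21])⁻¹ * y) (by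
    calc _ = (el 10 * ev el [19, 21])⁻¹ * (y * el 1 * y⁻¹) * y := by group
      _ = _ := by rw [e]; group)
    (((Commute.mul_left hs hm.1).inv_left.mul_left (memY.1 hy).1).eq)
  have c := List.all_eq_true.1 chkK w hw
  rw [(h.gr.iff (v := w ++ [7]) (w := [8, 6] ++ w) (okw_app (ok_LK w hw) (by decide +kernel))
    (okw_app (by decide +kernel) (ok_LK w hw))).1 (by
    rw [ev_append, ev_append, ev_one, ← e', mul_assoc, (memY.1 hy).2, ← mul_assoc, ← mul_assoc]
    congr 1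
    rw [inv_mul_eq_iff_eq_mul, ← mul_assoc, eq_mul_inv_iff_mul_eq, ← mul_assoc, e1, mul_assoc, e2,
      mul_assoc]), Nat.beq_refl] at c
  exact absurd c (by decide)

theorem not_Rj (h : S2 el θ) {y : G} (hy : y ∈ YY el) {w : List ℕ} (hw : w ∈ LR) :
    y * el 1 * y⁻¹ ≠ ev el (w ++ [5, 16]) := by
  intro e
  have hB : okw lN (w ++ [5, 16]) = true := okw_app (okN (ok_LR w hw).1) (by decide +kernel)
  have := List.all_eq_true.1 chkX' w hw
  simp only [Bool.or_eq_true, List.any_eq_true, Bool.not_eq_true'] at this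
  rcases this with c | ⟨k, hk, c⟩
  · rw [(iffN h (okw_app hB hB) rfl).1 (by
      rw [ev_append, ← e, conj_mul, rule_sq h.rule (by decide)]; simp)] at c
    exact absurd c (by decide)
  · obtain ⟨o1, o2⟩ := (by decide +kernel : ∀ k ∈ L32, okw lB k = true ∧ okw lN (cw k [5, 16]) = true) k hk
    rw [(iffN h hB o2).2 c, ev_cw h.rule o1] at e
    refine not_j h (mul_mem (inv_mem (evY h o1)) hy) ?_
    calc _ = (ev el k)⁻¹ * (y * el 1 * y⁻¹) * ev el k := by group
      _ = _ := by rw [e]; group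

theorem not_jR (h : S2 el θ) {y : G} (hy : y ∈ YY el) {w : List ℕ} (hw : w ∈ LR) :
    y * ev el [5, 16] * y⁻¹ ≠ ev el w := by
  intro e
  obtain ⟨i, a, -, k, -, o, e'⟩ := conjX h hw (isConj_iff.2 ⟨y * (el 10 * ev el [19, 21]), by
    rw [← e, conj_j h]; group⟩)
  refine not_j h (mul_mem (inv_mem hy) (evY h o)) ?_
  calc _ = y⁻¹ * ev el w * y := by rw [e']; group
    _ = _ := by rw [← e]; group

instance : ((gen el [6, 7]).subgroupOf (YY el)).Normal :=
  ⟨fun a ha g => by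
    rw [mem_subgroupOf] at ha ⊢
    rwa [coe_mul, coe_mul, cenV g.2 ha, coe_inv, mul_inv_cancel_right]⟩

/-- the quotient by the four-group -/
abbrev ZZ (el : ℕ → G) := YY el ⧸ (gen el [6, 7]).subgroupOf (YY el)

open Classical in
/-- the letters in the centraliser -/
noncomputable def eY (el : ℕ → G) (n : ℕ) : YY el := if h : el n ∈ YY el then ⟨el n, h⟩ else 1

/-- the letters in the quotient -/
noncomputable def eZ (el : ℕ → G) (n : ℕ) : ZZ el := QuotientGroup.mk' _ (eY el n)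

theorem mk_ev (h : S2 el θ) {w : List ℕ} (hw : okw lB w = true) :
    ev (eZ el) w = ((⟨ev el w, evY h hw⟩ : YY el) : ZZ el) := by
  refine (map_ev (QuotientGroup.mk' _) (eY el) w).symm.trans (congrArg _ (Subtype.ext ?_))
  refine (map_ev (YY el).subtype (eY el) w).trans (ev_congr fun n hn => ?_)
  have : el n ∈ YY el := ev_one el n ▸ evY h (w := [n]) (by
    rw [okw, List.all_cons, List.all_eq_true.1 hw n hn]; rfl)
  rw [eY, dif_pos this]; rfl

variable [Finite G]

theorem mk_eq (h : S2 el θ) (g : YY el) {w : List ℕ} (hw : okw lB w = true) :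
    ev (eZ el) w = (g : ZZ el) ↔ ∃ u ∈ LV, (g : G) = ev el (w ++ u) := by
  rw [mk_ev h hw, QuotientGroup.eq, mem_subgroupOf, memV h]
  simp only [ev_append, coe_mul, coe_inv, inv_mul_eq_iff_eq_mul]

theorem iffZ (h : S2 el θ) {v w : List ℕ} (hv : okw lB v = true) (hw : okw lB w = true) :
    ev (eZ el) w = ev (eZ el) v ↔ LV.any (fun u => Nat.beq (MK.pw v) (MK.pw (w ++ u))) = true := by
  rw [mk_ev h hv, mk_eq h _ hw, List.any_eq_true]
  exact exists_congr fun u => and_congr_right fun hu => iffN h (okN hv) (okN (okw_app hw (ok_LV u hu).1))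

theorem eqZ (h : S2 el θ) (v w : List ℕ) (hd : (okw lB v && okw lB w &&
    LV.any fun u => Nat.beq (MK.pw v) (MK.pw (w ++ u))) = true) : ev (eZ el) v = ev (eZ el) w := by
  simp only [Bool.and_eq_true] at hd
  exact ((iffZ h hd.1.1 hd.1.2).2 hd.2).symm

/-- the image of `R` -/
def AA (el : ℕ → G) : Subgroup (ZZ el) := centralizer {eZ el 1}

theorem evA (h : S2 el θ) {w : List ℕ} (hw : w ∈ LR) : ev (eZ el) w ∈ AA el := by
  refine Subgroup.list_prod_mem _ fun x hx => ?_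
  obtain ⟨n, hn, rfl⟩ := List.mem_map.1 hx
  have := (by decide +kernel : ∀ w ∈ LR, ∀ n ∈ w, n ∈ [5, 14, 1, 2, 4, 8, 6, 7]) w hw n hn
  simpa [AA, mem_centralizer_singleton_iff] using eqZ h [n, 1] [1, n]
    ((by decide +kernel : ∀ n ∈ [5, 14, 1, 2, 4, 8, 6, 7], (okw lB [n, 1] && okw lB [1, n] &&
      LV.any fun u => Nat.beq (MK.pw [n, 1]) (MK.pw ([1, n] ++ u))) = true) n this)

theorem memA (h : S2 el θ) {g : YY el} (hg : (g : ZZ el) ∈ AA el) : ∃ w ∈ LR, (g : G) = ev el w := by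
  have h1 : okw lB [1] = true := by decide +kernel
  have e : ev (eZ el) [1] = ((g * ⟨ev el [1], evY h h1⟩ * g⁻¹ : YY el) : ZZ el) := by
    rw [QuotientGroup.mk_mul, QuotientGroup.mk_mul, ← mk_ev h h1, ev_one,
      mem_centralizer_singleton_iff.1 hg, QuotientGroup.mk_inv, mul_inv_cancel_right]
  obtain ⟨u, hu, e'⟩ := (mk_eq h _ h1).1 e
  exact listR h g.2 hu (by rw [← e', ← ev_one el 1]; rfl)

theorem listA (h : S2 el θ) {a : ZZ el} (ha : a ∈ AA el) : ∃ w ∈ LA, a = ev (eZ el) w := by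
  induction a using QuotientGroup.induction_on with | H g => ?_
  obtain ⟨w, hw, e⟩ := memA h ha
  obtain ⟨v, hv, u, hu, rfl⟩ := (ok_LR w hw).2
  exact ⟨v, hv, ((mk_eq h g (ok_LA v hv).1).2 ⟨u, hu, e⟩).symm⟩

theorem cardA (h : S2 el θ) : Nat.card (AA el) = 64 := by
  refine le_antisymm (card_le_length (L := LA.map (ev (eZ el))) fun a ha => ?_)
    (length_le_card (L := LA.map (ev (eZ el))) ?_ fun a ha => ?_)
  · obtain ⟨w, hw, rfl⟩ := listA h ha
    exact List.mem_map_of_mem hw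
  · refine (List.nodup_map_iff_inj_on (by decide +kernel)).2 fun v hv w hw e => ?_
    obtain ⟨u, hu, c⟩ := List.any_eq_true.1 ((iffZ h (ok_LA v hv).1 (ok_LA w hw).1).1 e.symm)
    rcases Bool.or_eq_true _ _ ▸ List.all_eq_true.1 (List.all_eq_true.1 chkN v hv) w hw with c' | c'
    · exact eq_of_beq c'
    · have := List.all_eq_true.1 c' u hu
      rw [c] at this
      exact absurd this (by decide)
  · obtain ⟨w, hw, rfl⟩ := List.mem_map.1 ha
    exact evA h (ok_LA w hw).2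

theorem genA (h : S2 el θ) {X : Subgroup (ZZ el)} (hX : ∀ n ∈ [5, 14, 1, 2, 4, 8], eZ el n ∈ X) :
    AA el ≤ X := fun a ha => by
  obtain ⟨w, hw, rfl⟩ := listA h ha
  refine Subgroup.list_prod_mem _ fun x hx => ?_
  obtain ⟨n, hn, rfl⟩ := List.mem_map.1 hx
  exact hX n ((by decide +kernel : ∀ w ∈ LA, ∀ n ∈ w, n ∈ [5, 14, 1, 2, 4, 8]) w hw n hn)

theorem memA' (h : S2 el θ) (v w : List ℕ) (hw : w ∈ LA) (hd : (okw lB v && okw lB w &&
    LV.any fun u => Nat.beq (MK.pw v) (MK.pw (w ++ u))) = true) : ev (eZ el) v ∈ AA el :=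
  eqZ h v w hd ▸ evA h (mem_LR hw)

theorem conjA (h : S2 el θ) (y : YY el) (hy : (y : ZZ el) * eZ el 1 * (y : ZZ el)⁻¹ ∈ AA el) :
    ∃ i, ∃ e ∈ [[], [5, 16]], ∃ w ∈ LR, (y : G) = ev el (H9 i ++ (e ++ w)) := by
  have h1 : okw lB [1] = true := by decide +kernel
  rw [← ev_one (eZ el), mk_ev h h1, ← QuotientGroup.mk_inv, ← QuotientGroup.mk_mul,
    ← QuotientGroup.mk_mul] at hy
  obtain ⟨w, hw, e⟩ := memA h hy
  have e' : y * el 1 * (y : G)⁻¹ = ev el w := by rw [← e, ← ev_one el 1]; rfl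
  obtain ⟨i, a, ha, k, hk, o, c⟩ := conjX h hw (isConj_iff.2 ⟨y, e'⟩)
  obtain ⟨d, hd, c'⟩ := cenD h y.2 (evY h o) (e'.trans c)
  exact ⟨i, a, ha, k ++ d, List.mem_flatMap.2 ⟨k, hk, List.mem_map_of_mem hd⟩, by
    rw [c', ← ev_append, List.append_assoc, List.append_assoc]⟩

theorem main (h : S2 el θ) (y : ZZ el) : y * eZ el 1 * y⁻¹ ∈ AA el := by
  have h1 : okw lB [1] = true := by decide +kernel
  have hj : okw lB [5, 16] = true := by decide +kernel
  have j2 : ev (eZ el) [5, 16] * ev (eZ el) [5, 16] = 1 :=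
    (ev_append _ _ _).symm.trans (eqZ h _ [] (by decide +kernel))
  have p1 : eZ el 19 = (eZ el 18)⁻¹ :=
    eq_inv_of_mul_eq_one_left (by simpa using eqZ h [19, 18] [] (by decide +kernel))
  have pp : ∀ n ∈ [5, 14, 1, 2, 4, 8], eZ el n * (eZ el 18 * eZ el n * (eZ el 18)⁻¹) *
      ((eZ el 18)⁻¹ * eZ el n * eZ el 18) = 1 := fun n hn => by
    simpa [p1, mul_assoc] using eqZ h [n, 18, n, 19, 19, n, 18] []
      ((by decide +kernel : ∀ n ∈ [5, 14, 1, 2, 4, 8], (okw lB [n, 18, n, 19, 19, n, 18] && okw lB [] &&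
        LV.any fun u => Nat.beq (MK.pw [n, 18, n, 19, 19, n, 18]) (MK.pw ([] ++ u))) = true) n hn)
  refine ab3 (AA el) (fun a ha => ?_) (cardA h) (j := ev (eZ el) [5, 16]) (p := eZ el 18)
    (mem_centralizer_singleton_iff.2 rfl) (fun g hg => mem_centralizer_singleton_iff.2 hg) j2 ?_
    (fun i => ev (eZ el) (H9 i)) (fun i => ?_) (fun y hy => ?_) (fun y hy => ?_) (fun y hy => ?_)
    (fun i hi => ?_) (genA h fun n hn => subset_closure (pp n hn)) ?_ (pp 1 (by decide)) ?_ y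
  · obtain ⟨w, hw, rfl⟩ := listA h ha
    have o := (ok_LA w hw).1
    rw [← ev_append]
    exact ((iffZ h (okw_app o o) rfl).2 (List.all_eq_true.1 chkS w hw)).symm
  · refine H42.mem_normalizer_of_conj_mem fun a ha => ?_
    refine genA h (X := (AA el).comap (MulAut.conj (ev (eZ el) [5, 16])).toMonoidHom) (fun n hn => ?_) ha
    obtain ⟨w, hw, c⟩ := (by decide +kernel : ∀ n ∈ [5, 14, 1, 2, 4, 8], ∃ w ∈ [[5, 2, 4, 8], [14], [1, 2, 4, 8],
      [5, 1, 4, 8], [14, 2, 8], [5, 14, 1, 8]], w ∈ LA ∧ (okw lB ([5, 16] ++ [n] ++ [5, 16]) && okw lB w &&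
        LV.any fun u => Nat.beq (MK.pw ([5, 16] ++ [n] ++ [5, 16])) (MK.pw (w ++ u))) = true) n hn
    have := memA' h _ _ c.1 c.2
    rw [ev_append, ev_append, ev_one] at this
    change _ * _ * _ ∈ AA el
    rwa [E45.inv_of j2]
  · obtain ⟨w, hw, c⟩ := (by decide +kernel : ∀ i, ∃ w ∈ [[], [5, 14, 1, 2, 4, 8], [5, 14, 8]], w ∈ LA ∧
      (okw lB (H9 i ++ H9 i ++ H9 i) && okw lB w &&
        LV.any fun u => Nat.beq (MK.pw (H9 i ++ H9 i ++ H9 i)) (MK.pw (w ++ u))) = true) i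
    rw [← ev_append, ← ev_append]
    exact memA' h _ _ c.1 c.2
  · induction y using QuotientGroup.induction_on with | H y => ?_
    obtain ⟨i, a, ha, w, hw, e⟩ := conjA h y hy
    have o : okw lB (H9 i ++ (a ++ w)) = true := okw_app (ok_H9 i) (okw_app
      ((by decide +kernel : ∀ a ∈ [[], [5, 16]], okw lB a = true) a ha) (ok_LR w hw).1)
    rw [← (mk_eq h y o).2 ⟨[], by decide, by rw [List.append_nil, e]⟩, ev_append, ev_append]
    refine ⟨i, ?_⟩
    rw [inv_mul_cancel_left]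
    rcases (by simpa using ha : a = [] ∨ a = [5, 16]) with rfl | rfl
    · exact Or.inl (by simpa using evA h hw)
    · exact Or.inr (by rw [← mul_assoc, j2, one_mul]; exact evA h hw)
  · induction y using QuotientGroup.induction_on with | H y => ?_
    rw [← ev_one (eZ el), mk_ev h h1, mk_ev h hj, ← QuotientGroup.mk_inv, ← QuotientGroup.mk_mul,
      ← QuotientGroup.mk_mul, ← QuotientGroup.mk_mul] at hy
    obtain ⟨w, hw, e⟩ := memA h hy
    refine not_Rj h y.2 hw ?_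
    rw [ev_append, ← e, ← ev_one el 1]
    exact ((mul_assoc _ _ _).trans ((congrArg _ (jj h)).trans (mul_one _))).symm
  · induction y using QuotientGroup.induction_on with | H y => ?_
    rw [mk_ev h hj, ← QuotientGroup.mk_inv, ← QuotientGroup.mk_mul, ← QuotientGroup.mk_mul] at hy
    obtain ⟨w, hw, e⟩ := memA h hy
    exact not_jR h y.2 hw e
  · have := List.all_eq_true.1 chkF i (List.mem_finRange i)
    rcases Bool.or_eq_true _ _ ▸ this with c | c
    · rw [eq_of_beq c] at hi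
      exact absurd (one_mem _) hi
    · refine (card_le_length (L := (LA.filter _).map (ev (eZ el))) fun a ha => ?_).trans
        ((List.length_map _).trans_le (Nat.le_of_ble_eq_true c))
      obtain ⟨w, hw, rfl⟩ := listA h ha.1
      have o := (ok_LA w hw).1
      refine List.mem_map_of_mem (List.mem_filter.2 ⟨hw,
        (iffZ h (okw_app o (ok_H9 i)) (okw_app (ok_H9 i) o)).1 ?_⟩)
      rw [ev_append, ev_append, mem_centralizer_singleton_iff.1 ha.2]
  · simpa [p1, mul_assoc] using memA' h [18, 1, 19] [2] (by decide +kernel) (by decide +kernel)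
  · simpa [mul_assoc] using memA' h [18, 18, 18] [] (by decide +kernel) (by decide +kernel)

end V45

/-- the 256 elements of `R` -/
def LR : List (List ℕ) := subw [[1], [2], [4], [8], [5], [14], [6], [7]]

/-- representatives of the cosets of `R` in `C(z, t)` -/
def H18 : List (List ℕ) := [[], [20], [21], [18], [18, 20], [18, 21], [19], [19, 20], [19, 21],
  [16], [20, 16], [21, 16], [18, 16], [18, 20, 16], [18, 21, 16], [19, 16], [19, 20, 16], [19, 21, 16]]

theorem V45.memA2 {G : Type*} [Group G] [Finite G] {el : ℕ → G} {θ : PC →* G} (h : S2 el θ) {g : V45.YY el}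
    (hg : (g : V45.ZZ el) ∈ V45.AA el) : ∃ w ∈ Y.LR, (g : G) = ev el w := by
  obtain ⟨v, hv, e⟩ := V45.listA h hg
  obtain ⟨w, hw, c⟩ := List.any_eq_true.1 (List.all_eq_true.1 (by decide +kernel : V45.LA.all (fun v =>
    (subw [[1], [2], [4], [8], [5], [14]]).any fun w => V45.LV.any fun u =>
      Nat.beq (MK.pw v) (MK.pw (w ++ u))) = true) v hv)
  have o := List.all_eq_true.1 (by decide +kernel :
    (subw [[1], [2], [4], [8], [5], [14]]).all (okw lB) = true) w hw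
  obtain ⟨u, hu, e'⟩ := (V45.mk_eq h g o).1 (((V45.iffZ h (V45.ok_LA v hv).1 o).2 c).trans e.symm)
  refine ⟨w ++ u, ?_, e'⟩
  rw [(by decide +kernel : Y.LR = (subw [[1], [2], [4], [8], [5], [14]]).flatMap fun v => V45.LV.map (v ++ ·))]
  exact List.mem_flatMap.2 ⟨w, hw, List.mem_map_of_mem hu⟩

theorem S2.mem_B {G : Type*} [Group G] [Finite G] {el : ℕ → G} {θ : PC →* G} (h : S2 el θ) {g : G}
    (hz : g * el 6 = el 6 * g) (ht : g * el 7 = el 7 * g) : ∃ k ∈ H18, ∃ w ∈ LR, g = ev el (k ++ w) := by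
  obtain ⟨i, a, ha, w, hw, e⟩ := V45.conjA h ⟨g, V45.memY.2 ⟨hz, ht⟩⟩ (V45.main h _)
  have o := (V45.ok_LR w hw).1
  have hk := (by decide +kernel : ∀ i, V45.H9 i ∈ H18 ∧ V45.H9 i ++ [16] ∈ H18) i
  rcases (by simpa using ha : a = [] ∨ a = [5, 16]) with rfl | rfl
  · obtain ⟨v, hv, e'⟩ := V45.memA2 h (g := ⟨_, V45.evY h o⟩) (V45.mk_ev h o ▸ V45.evA h hw)
    exact ⟨_, hk.1, v, hv, by rw [ev_append, ← e']; exact e.trans (ev_append _ _ _)⟩
  · have o' : okw lB ([17, 5, 16] ++ w) = true := okw_app (by decide +kernel) o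
    obtain ⟨v, hv, e'⟩ := V45.memA2 h (g := ⟨_, V45.evY h o'⟩) (by
      rw [← V45.mk_ev h o', ev_append]
      exact mul_mem (V45.memA' h [17, 5, 16] [5, 2, 4, 8] (by decide +kernel) (by decide +kernel))
        (V45.evA h hw))
    refine ⟨_, hk.2, v, hv, ?_⟩
    rw [ev_append, ← e', show g = _ from e]
    simp [ev_append, (rule_inv h.rule).2.2.2.1, mul_assoc]

theorem S2.cenB {G : Type*} [Group G] [Finite G] {el : ℕ → G} {θ : PC →* G} (h : S2 el θ) {g : G}
    (hz : g * el 6 = el 6 * g) (ht : g * el 7 = el 7 * g) : g ∈ gen el lB := by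
  obtain ⟨i, a, ha, w, hw, e⟩ := V45.conjA h ⟨g, V45.memY.2 ⟨hz, ht⟩⟩ (V45.main h _)
  rw [show g = _ from e]
  exact ev_mem h.rule (fun _ => el_mem_gen el) (okw_app (V45.ok_H9 i) (okw_app
    ((by decide +kernel : ∀ a ∈ [[], [5, 16]], okw lB a = true) a ha) (V45.ok_LR w hw).1))

end Cfsg.Agent.CONW.Y
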