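import Cfsg.Agent.CONW.YE1
import Cfsg.Agent.CONW.YAB

/-! The centraliser of the four-group, abstract part. -/

set_option autoImplicit false

namespace Cfsg.Agent.CONW.Y

open Subgroup H42 E45

namespace V45

theorem ab2 {X : Type*} [Group X] [Finite X] (A : Subgroup X) (hA : ∀ a ∈ A, a * a = 1)
    (hc : Nat.card A = 64) (ho : ¬ 2 ∣ A.index) {x : X} (hx : x ∈ A)
    (hC : ∀ g : X, g * x = x * g → g ∈ A) (H : Fin 9 → X)
    (hX : ∀ y : X, y * x * y⁻¹ ∈ A → ∃ i, (H i)⁻¹ * y ∈ A)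
    (hF : ∀ i, H i ∉ A → Nat.card ↥(A ⊓ centralizer ({H i} : Set X)) ≤ 4)
    {y : X} (hy : y ∈ A) (hxy : IsConj x y) (hp : IsConj x (x * y)) : A.Normal := by
  have ab : ∀ a ∈ A, ∀ b ∈ A, a * b = b * a := fun a ha b hb => by
    rw [← inv_of (hA _ (mul_mem ha hb)), mul_inv_rev, inv_of (hA a ha), inv_of (hA b hb)]
  refine normal_of_ab A hA hc ho hx hC ?_ ?_ hy hxy hp
  · have key : ∀ c : normalizer (A : Set X) ⧸ A.subgroupOf (normalizer (A : Set X)),
        ∃ i, (H i)⁻¹ * (c.out : X) ∈ A := fun c => hX _ (cm c.out.2 hx)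
    choose φ hφ using key
    have : Function.Injective φ := fun c d e => by
      rw [← c.out_eq, ← d.out_eq]
      refine QuotientGroup.eq.2 (mem_subgroupOf.2 ?_)
      have := mul_mem (inv_mem (hφ c)) (hφ d)
      rw [e] at this
      simpa [mul_assoc] using this
    exact (Nat.card_le_card_of_injective φ this).trans (by simp)
  · intro c hc hcA
    obtain ⟨i, hi⟩ := hX c (cm hc hx)
    refine le_trans (card_le_of_le ?_) (hF i fun h => hcA (by simpa using mul_mem h hi))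
    intro a ha
    refine ⟨ha.1, mem_centralizer_singleton_iff.2 ?_⟩
    have e1 := mem_centralizer_singleton_iff.1 ha.2
    have e2 := ab _ ha.1 _ hi
    calc a * H i = a * c * ((H i)⁻¹ * c)⁻¹ := by group
      _ = c * (a * ((H i)⁻¹ * c)⁻¹) := by rw [e1, mul_assoc]
      _ = c * (((H i)⁻¹ * c)⁻¹ * a) := by rw [ab _ ha.1 _ (inv_mem hi)]
      _ = H i * a := by group

theorem mem_of_cube {Z : Type*} [Group Z] {M : Subgroup Z} (hM : M.index = 2) {g : Z}
    (h : g * g * g ∈ M) : g ∈ M := by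
  have := sq_mem_of_index_two hM g
  rw [sq] at this
  exact (mul_mem_cancel_left this).1 h

theorem mem_of_cube' {Z : Type*} [Group Z] {P S : Subgroup Z} (hP : IsPGroup 2 P) {g : Z} (hg : g ∈ P)
    (h : g * g * g ∈ S) : g ∈ S := by
  obtain ⟨k, hk⟩ := hP ⟨g, hg⟩
  have hk' : g ^ 2 ^ k = 1 := by simpa using congrArg Subtype.val hk
  have hco : Nat.Coprime 3 (2 ^ k) := Nat.Coprime.pow_right k (by decide)
  obtain ⟨m, hm⟩ := exists_pow_eq_self_of_coprime (x := g) (n := 3)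
    (Nat.Coprime.coprime_dvd_right (orderOf_dvd_of_pow_eq_one hk') hco)
  rw [← hm, pow_three']
  exact pow_mem h m

theorem ab3 {Z : Type*} [Group Z] [Finite Z] (A : Subgroup Z) (hA : ∀ a ∈ A, a * a = 1)
    (hc : Nat.card A = 64) {x j p : Z} (hx : x ∈ A) (hC : ∀ g : Z, g * x = x * g → g ∈ A)
    (hj : j * j = 1) (hjn : j ∈ normalizer (A : Set Z)) (H : Fin 9 → Z) (h3 : ∀ i, H i * H i * H i ∈ A)
    (hX : ∀ y : Z, y * x * y⁻¹ ∈ A → ∃ i, (H i)⁻¹ * y ∈ A ∨ j * ((H i)⁻¹ * y) ∈ A)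
    (hX' : ∀ y : Z, y * x * y⁻¹ * j ∉ A) (hj' : ∀ y : Z, y * j * y⁻¹ ∉ A)
    (hF : ∀ i, H i ∉ A → Nat.card ↥(A ⊓ centralizer ({H i} : Set Z)) ≤ 4)
    (hp : A ≤ closure {a | a * (p * a * p⁻¹) * (p⁻¹ * a * p) = 1}) (hp1 : p * x * p⁻¹ ∈ A)
    (hp2 : x * (p * x * p⁻¹) * (p⁻¹ * x * p) = 1) (hp3 : p * p * p ∈ A) (y : Z) :
    y * x * y⁻¹ ∈ A := by
  have : Fact (Nat.Prime 2) := ⟨Nat.prime_two⟩
  have hjA : j ∉ A := by simpa using hj' 1
  have hjj : j * j ∈ A := hj ▸ one_mem A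
  have hS : IsPGroup 2 (ext A j hjn hjj) := isP_of_four fun g hg => by
    have : g * g ∈ A := by
      rcases hg with hg | hg
      · exact mul_mem hg hg
      · have := mul_mem hg (cm hjn hg)
        rwa [show g * j * (j * (g * j) * j⁻¹) = g * (j * j) * g by group, hj, mul_one] at this
    rw [show g ^ 4 = g * g * (g * g) by simp only [pow_succ, pow_zero, one_mul, mul_assoc], hA _ this]
  obtain ⟨P, hP⟩ := hS.exists_le_sylow
  have hPS : (P : Subgroup Z) = ext A j hjn hjj := by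
    by_contra hne
    obtain ⟨g, hg, hgS⟩ := SetLike.exists_of_lt (lt_inf_normalizer P.isPGroup' (lt_of_le_of_ne hP (Ne.symm hne)))
    rcases cm hg.2 (le_ext hx) with c | c
    · obtain ⟨i, hi⟩ := hX g c
      have h1 : (H i)⁻¹ * g ∈ ext A j hjn hjj := by
        rcases hi with hi | hi
        · exact le_ext hi
        · exact (mul_mem_cancel_left self_ext).1 (le_ext hi)
      have h2 : H i ∈ (P : Subgroup Z) := by
        have h4 : g ∈ (P : Subgroup Z) := hg.1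
        have h5 : (H i)⁻¹ * g ∈ (P : Subgroup Z) := hP h1
        simpa using mul_mem h4 (inv_mem h5)
      exact hgS ((mul_mem_cancel_left (inv_mem (mem_of_cube' P.isPGroup' h2 (le_ext (h3 i))))).1 h1)
    · exact hX' g c
  have hAP : A ≤ (P : Subgroup Z) := hPS ▸ le_ext
  have hjP : j ∈ (P : Subgroup Z) := hPS ▸ self_ext
  have hrel : A.relIndex (P : Subgroup Z) = 2 := by
    rw [relIndex, index_eq_two_iff]
    refine ⟨⟨j, hjP⟩, fun b => ?_⟩
    have hb : (b : Z) ∈ ext A j hjn hjj := hPS ▸ b.2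
    simp only [mem_subgroupOf, coe_mul]
    rcases hb with hb | hb
    · exact Or.inr ⟨hb, fun c => hjA ((mul_mem_cancel_left hb).1 c)⟩
    · exact Or.inl ⟨hb, fun c => hjA ((mul_mem_cancel_left c).1 hb)⟩
  have hj1 : j ≠ 1 := fun e => hjA (e ▸ one_mem A)
  rcases Cfsg.Agent.S0111.result P A hAP hrel j (orderOf_eq_prime (by rw [sq, hj]) hj1) hjP hjA with
    ⟨M, hMn, hMi, hjM⟩ | ⟨g, hg⟩
  swap
  · exact absurd hg (hj' g)
  have hAM : A ≤ M := hp.trans ((closure_le _).2 fun a ha => by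
    have e : a * (p * a * p⁻¹) * (p⁻¹ * a * p) = 1 := ha
    by_contra c
    have c1 : p * a * p⁻¹ ∉ M := fun c' => c (by simpa [mul_assoc] using hMn.conj_mem _ c' p⁻¹)
    have c2 : p⁻¹ * a * p ∉ M := fun c' => c (by simpa [mul_assoc] using hMn.conj_mem _ c' p)
    have c3 : a * (p * a * p⁻¹) ∈ M := (mul_mem_iff_of_index_two hMi).2 (iff_of_false c c1)
    exact c2 ((mul_mem_cancel_left c3).1 (e ▸ one_mem M)))
  have hHM : ∀ i, H i ∈ M := fun i => mem_of_cube hMi (hAM (h3 i))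
  have hpM : p ∈ M := mem_of_cube hMi (hAM hp3)
  have hn : (A.subgroupOf M).Normal := by
    refine ab2 (A.subgroupOf M) (fun a ha => Subtype.ext (hA _ ha))
      ((Nat.card_congr (subgroupOfEquivOfLe hAM).toEquiv).trans hc) ?_ (x := ⟨x, hAM hx⟩) hx
      (fun g hg => hC g (congrArg Subtype.val hg)) (fun i => ⟨H i, hHM i⟩) (fun g hg => ?_)
      (fun i hi => ?_) (y := ⟨p * x * p⁻¹, hAM hp1⟩) hp1 (isConj_iff.2 ⟨⟨p, hpM⟩, rfl⟩)
      (isConj_iff.2 ⟨⟨p, hpM⟩⁻¹, Subtype.ext ?_⟩)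
    · have e1 := relIndex_mul_index hAM
      have e2 := relIndex_mul_index hAP
      rw [hMi] at e1
      rw [hrel, ← e1, mul_comm] at e2
      change ¬ 2 ∣ A.relIndex M
      rw [← Nat.eq_of_mul_eq_mul_right (by decide) e2]
      exact P.not_dvd_index
    · obtain ⟨i, hi | hi⟩ := hX g hg
      · exact ⟨i, hi⟩
      · exact absurd ((mul_mem_cancel_right (mul_mem (inv_mem (hHM i)) g.2)).1 (hAM hi)) hjM
    · refine le_trans ?_ (hF i hi)
      rw [← card_map_of_injective M.subtype_injective]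
      refine card_le_of_le ?_
      rintro _ ⟨a, ha, rfl⟩
      exact ⟨ha.1, mem_centralizer_singleton_iff.2
        (congrArg Subtype.val (mem_centralizer_singleton_iff.1 ha.2))⟩
    · change p⁻¹ * x * p⁻¹⁻¹ = x * (p * x * p⁻¹)
      rw [eq_inv_of_mul_eq_one_left hp2, mul_inv_rev, mul_inv_rev, inv_of (hA x hx), mul_assoc]
  have key : ∀ g ∈ M, g * x * g⁻¹ ∈ A := fun g hg => hn.conj_mem ⟨x, hAM hx⟩ hx ⟨g, hg⟩
  by_cases c : y ∈ M
  · exact key y c
  · have := cm hjn (key (j⁻¹ * y) ((mul_mem_iff_of_index_two hMi).2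
      (iff_of_false (fun c' => hjM (inv_mem_iff.1 c')) c)))
    rwa [show j * (j⁻¹ * y * x * (j⁻¹ * y)⁻¹) * j⁻¹ = y * x * y⁻¹ by group] at this

end V45

end Cfsg.Agent.CONW.Y
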