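import Cfsg.Agent.CONW.YMod
import Cfsg.Agent.S2061

/-! A model of `Aut M12`: the letters of `YDefs` act by conjugation, the letter 5 is the outer involution `pi`. -/

set_option autoImplicit false
set_option maxRecDepth 100000

namespace Cfsg.Agent.CONW.ZK

open Cfsg.Agent.H14 Cfsg.Agent.H58 Cfsg.Agent.H78 Subgroup Y Y.YM

/-- the automorphism group of `M12` -/
abbrev AU : Type := MulAut Spor.M12

/-- the letters in `M12` -/
noncomputable def lm (n : ℕ) : Spor.M12 := (pC n).2

/-- the letters of `M12` and `pi` as packed permutations -/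
def LA : List ℕ := LC.set 5 (nat_lit 0x6818394d2f80af54122b31c2aa38b6)

theorem valid_LA : allL LA (valid (nat_lit 5) (nat_lit 32) (nat_lit 24)) = true := by decide +kernel

theorem ev_lm (w : List ℕ) : ev lm w = (ev pC w).2 := (map_ev (MonoidHom.snd _ _) pC w).symm

theorem pk_lm (w : List ℕ) : GE.pk ((ev lm w : Spor.M12) : Equiv.Perm GolayPt) =
    prodP (nat_lit 5) (nat_lit 32) (nat_lit 24) LC w := by rw [ev_lm, ev_pC_snd]

theorem gen_lm {X : Subgroup Spor.M12} (h : ∀ n ∈ lC, lm n ∈ X) : X = ⊤ := by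
  have h1 : gen pC lC ≤ X.comap (MonoidHom.snd _ _) := gen_le h
  exact eq_top_iff.2 fun l _ => h1 (x := (1, l)) (gen_C ▸ mem_top _)

theorem elA_ne {n : ℕ} (h : n ≠ 5) : elP GE LA n = (lm n : Equiv.Perm GolayPt) := by
  refine GE.pk_injective ?_
  rw [pk_elP GE valid_LA]
  refine Eq.trans ?_ (pk_elP GE valid_LC n).symm
  rcases Nat.lt_or_ge n 14 with c | c
  · exact (by decide +kernel : ∀ n < 14, n ≠ 5 → nthD LA (idP (nat_lit 5) (nat_lit 24)) n =
      nthD LC (idP (nat_lit 5) (nat_lit 24)) n) n c h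
  · rw [C3.nthD_ge LA _ n c, C3.nthD_ge LC _ n c]

theorem elA_five : elP GE LA 5 = pi := rfl

theorem pi_nz : pi ∈ normalizer (Spor.M12 : Set (Equiv.Perm GolayPt)) := by
  refine mem_normalizer_fintype fun g hg => ?_
  have h : gen pC lC ≤ Spor.M12.comap ((MulAut.conj pi).toMonoidHom.comp
      (Spor.M12.subtype.comp (MonoidHom.snd _ _))) := gen_le fun n hn => by
    have := (ev pC (sig n)).2.2
    rwa [← pi_conj n hn] at this
  exact h (x := (1, ⟨g, hg⟩)) (gen_C ▸ mem_top _)

theorem elA_nz (n : ℕ) : elP GE LA n ∈ normalizer (Spor.M12 : Set (Equiv.Perm GolayPt)) := by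
  by_cases c : n = 5
  · subst c; exact pi_nz
  · rw [elA_ne c]; exact le_normalizer (lm n).2

/-- the letters in the normaliser -/
noncomputable def nl (n : ℕ) : normalizer (Spor.M12 : Set (Equiv.Perm GolayPt)) := ⟨elP GE LA n, elA_nz n⟩

/-- the letters in `Aut M12` -/
noncomputable def al (n : ℕ) : AU := Spor.M12.normalizerMonoidHom (nl n)

theorem c_conj (l : Spor.M12) :
    Spor.M12.normalizerMonoidHom ⟨l, le_normalizer l.2⟩ = MulAut.conj l := rfl

theorem al_ne {n : ℕ} (h : n ≠ 5) : al n = MulAut.conj (lm n) := by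
  rw [al, ← c_conj]; exact congrArg _ (Subtype.ext (elA_ne h))

theorem al_five (n : ℕ) (hn : n ∈ lC) : al 5 (lm n) = ev lm (sig n) := by
  rw [ev_lm]; exact Subtype.ext (pi_conj n hn)

theorem c_inj : Function.Injective Spor.M12.normalizerMonoidHom := by
  rw [injective_iff_map_eq_one]
  intro a ha
  have hc : ∀ l : Spor.M12, (a : Equiv.Perm GolayPt) * l = l * a := fun l => by
    have : (a : Equiv.Perm GolayPt) * l * (a : Equiv.Perm GolayPt)⁻¹ = l :=
      congrArg Subtype.val (congrArg (fun f : AU => f l) ha)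
    exact mul_inv_eq_iff_eq_mul.1 this
  have key := (by decide +kernel : ∀ i < 24, ∃ p ∈ [([4], [12, 10, 13]), ([8], [10, 3]), ([8, 6], [13, 10, 12, 2]),
    ([9], [10, 12, 10, 12]), ([8], [13, 11, 12, 2]), ([10, 3], [10, 4]), ([4], [12, 10, 9, 13]),
    ([9], [12, 11, 13, 2]), ([8], [10, 7]), ([7], [10, 13, 10, 13, 6]), ([8], [13, 10, 12, 2]), ([10, 2], [11, 4]),
    ([4], [10, 2]), ([8, 9], [13, 10, 12]), ([9], [13, 10, 9, 12]), ([10], [8]), ([10], [2, 9]),
    ([4], [12, 10, 12, 3]), ([7], [11, 13, 11, 13]), ([4], [10, 13, 10, 13]), ([8], [11, 12, 11, 12]),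
    ([4], [11, 2]), ([10], [12, 10, 8, 13]), ([9], [13, 10, 12])],
    force (prodP (nat_lit 5) (nat_lit 32) (nat_lit 24) LC p.1) (fun P =>
      force (prodP (nat_lit 5) (nat_lit 32) (nat_lit 24) LC p.2) fun Q => allN 24 fun j =>
        Bool.not (Bool.xor (Nat.beq (app (nat_lit 5) (nat_lit 32) P j) j &&
          Nat.beq (app (nat_lit 5) (nat_lit 32) Q j) j) (Nat.beq j i))) = true)
  refine Subtype.ext (Equiv.ext fun q => ?_)
  obtain ⟨p, -, hp⟩ := key _ (GE.ix_lt q)
  simp only [force_eq, allN_iff, ← pk_lm] at hp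
  have h1 := hp _ (GE.ix_lt q)
  have h2 := hp _ (GE.ix_lt (a.1 q))
  simp only [GE.app_pk, Nat.beq_refl, Bool.xor_true, Bool.not_not, Bool.and_eq_true, beq_iff,
    GE.ix_inj] at h1
  have e : ∀ l : Spor.M12, l.1 q = q → l.1 (a.1 q) = a.1 q := fun l hl => by
    rw [← Equiv.Perm.mul_apply, ← hc, Equiv.Perm.mul_apply, hl]
  rw [GE.app_pk, GE.app_pk, e _ h1.1, e _ h1.2] at h2
  simp only [Nat.beq_refl, Bool.and_self, Bool.true_xor, Bool.not_not, beq_iff, GE.ix_inj] at h2
  exact h2

open scoped Pointwise in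
theorem five_not_inn : al 5 ∉ Inn Spor.M12 := by
  rintro ⟨l, hl⟩
  have h : pi = l := (congrArg Subtype.val (c_inj ((c_conj l).trans hl))).symm
  have h2 : pi ∈ Spor.M12 := h ▸ l.2
  rw [M12_eq] at h2
  have h3 : pi • H14.bits 340831 = H14.bits 340831 := h2.2
  have e : GE.pk pi = nat_lit 0x6818394d2f80af54122b31c2aa38b6 := GE.pk_perm (by decide +kernel)
  rw [smul_bits, e] at h3
  exact absurd (bits_inj (by decide +kernel) (by decide) h3) (by decide +kernel)

theorem inn_index : (Inn Spor.M12).index = 2 := Cfsg.Agent.S2061.result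

theorem aut_cases (α : AU) : ∃ l : Spor.M12, α = MulAut.conj l ∨ α = MulAut.conj l * al 5 := by
  by_cases c : α ∈ Inn Spor.M12
  · obtain ⟨l, hl⟩ := c; exact ⟨l, Or.inl hl.symm⟩
  · obtain ⟨l, hl⟩ : α * (al 5)⁻¹ ∈ Inn Spor.M12 :=
      (mul_mem_iff_of_index_two inn_index).2 (by rw [inv_mem_iff]; exact iff_of_false c five_not_inn)
    exact ⟨l, Or.inr (by rw [hl, inv_mul_cancel_right])⟩

theorem c_surj : Function.Surjective Spor.M12.normalizerMonoidHom := fun α => by
  obtain ⟨l, h | h⟩ := aut_cases α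
  · exact ⟨_, (c_conj l).trans h.symm⟩
  · exact ⟨⟨l, le_normalizer l.2⟩ * nl 5, by rw [map_mul, c_conj, h]; rfl⟩

theorem conj_inj : Function.Injective (MulAut.conj : Spor.M12 →* AU) := fun a b h =>
  Subtype.ext (congrArg (fun x : normalizer (Spor.M12 : Set (Equiv.Perm GolayPt)) => x.1)
    (c_inj ((c_conj a).trans (h.trans (c_conj b).symm))))

theorem card_AU : Nat.card AU = 190080 := by
  rw [← (Inn Spor.M12).card_mul_index, inn_index,
    ← Nat.card_congr (MonoidHom.ofInjective conj_inj).toEquiv, card_M12]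

instance : Finite AU := Nat.finite_of_card_ne_zero (by rw [card_AU]; decide)

/-- the code of an automorphism -/
noncomputable def cdA (α : AU) : ℕ :=
  GE.pk ((MulEquiv.ofBijective _ ⟨c_inj, c_surj⟩).symm α : normalizer (Spor.M12 : Set (Equiv.Perm GolayPt)))

/-- the packed value of a word -/
noncomputable def pwA (w : List ℕ) : ℕ := prodP (nat_lit 5) (nat_lit 32) (nat_lit 24) LA w

/-- the product of codes -/
noncomputable def mA (a b : ℕ) : ℕ := comp (nat_lit 5) (nat_lit 32) (nat_lit 24) a b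

theorem cdA_inj : Function.Injective cdA := fun _ _ h =>
  (MulEquiv.ofBijective _ ⟨c_inj, c_surj⟩).symm.injective (Subtype.ext (GE.pk_injective h))

theorem cdA_mul (a b : AU) : cdA (a * b) = mA (cdA a) (cdA b) := by
  rw [cdA, map_mul]; exact GE.pk_mul _ _

theorem cdA_ev (w : List ℕ) : cdA (ev al w) = pwA w := by
  have : ev al w = (MulEquiv.ofBijective _ ⟨c_inj, c_surj⟩) (ev nl w) :=
    (map_ev Spor.M12.normalizerMonoidHom nl w).symm
  rw [cdA, this, MulEquiv.symm_apply_apply]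
  exact (congrArg GE.pk (map_ev (Subgroup.subtype _) nl w)).trans (pk_prod_elP GE valid_LA w)

theorem cdA_one : cdA 1 = pwA [] := cdA_ev []

/-- the model `Aut M12` -/
noncomputable def MA : Md AU where
  p := al
  pw := pwA
  eq v w := by rw [← cdA_ev, ← cdA_ev, cdA_inj.eq_iff]
  rule := by
    have R := ruleOK_pk GE (by decide +kernel : pkOK (nat_lit 5) (nat_lit 32) (nat_lit 24) LA [] iv = true)
    refine ⟨?_, fun x hx => ?_, fun _ h => absurd h List.not_mem_nil, rfl⟩
    · rw [al, show nl 0 = 1 from Subtype.ext R.h0, map_one]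
    · rw [al, show nl (ivf iv x) = (nl x)⁻¹ from Subtype.ext (R.hinv x hx), map_inv]; rfl

/-- the letters of the Sylow 2-subgroup -/
def lS : List ℕ := [2, 3, 4, 5, 6, 7, 8, 9]
/-- its 128 elements -/
def LS : List (List ℕ) := subw [[5], [3], [2], [4], [8], [6], [7]]

theorem mem_S {k : AU} (h : k ∈ gen al lS) : cdA k ∈ LS.map pwA := by
  have key : forceL (LS.map pwA) (fun C => allL lS fun n => force (pwA [n]) fun a => allL C fun c =>
      force (mA a c) (memL C)) = true := by decide +kernel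
  simp only [forceL_eq, force_eq, allL_iff, memL_iff] at key
  have step : ∀ n ∈ lS, ∀ y : AU, cdA y ∈ LS.map pwA → cdA (al n * y) ∈ LS.map pwA := fun n hn y hy => by
    rw [cdA_mul, ← ev_one al n, cdA_ev]; exact key n hn _ hy
  induction h using closure_induction_left with
  | one => exact List.mem_map.2 ⟨[], by decide, cdA_one.symm⟩
  | mul_left x hx y _ ih =>
    obtain ⟨n, hn, rfl⟩ := hx
    exact step n hn y ih
  | inv_mul_cancel x hx y _ ih =>
    obtain ⟨n, hn, rfl⟩ := hx
    have : (al n)⁻¹ = al n :=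
      inv_eq_of_mul_eq_one_right (rule_sq MA.rule ((by decide : ∀ n ∈ lS, n ≤ 9) n hn))
    rw [this]; exact step n hn y ih

theorem mem_S' {k : AU} (h : k ∈ gen al lS) : ∃ w ∈ LS, k = ev al w := by
  obtain ⟨w, hw, e⟩ := List.mem_map.1 (mem_S h)
  exact ⟨w, hw, cdA_inj (by rw [cdA_ev, e])⟩

theorem card_S : Nat.card (gen al lS) = 128 := by
  refine le_antisymm ((card_le _ cdA_inj (L := LS.map pwA) fun g hg => mem_S hg).trans (by decide +kernel)) ?_
  have key : forceL (LS.map pwA) (fun C => decide C.Nodup) = true := by decide +kernel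
  rw [forceL_eq, decide_eq_true_eq, ← funext cdA_ev, ← Function.comp_def cdA, ← List.map_map] at key
  refine le_trans (by decide +kernel) (length_le_card key.of_map fun g hg => ?_)
  obtain ⟨w, hw, rfl⟩ := List.mem_map.1 hg
  exact ev_mem MA.rule (fun _ hn => el_mem_gen al hn)
    ((by decide +kernel : ∀ w ∈ LS, okw lS w = true) w hw)

/-- every 2-subgroup is conjugate into the Sylow subgroup by an inner automorphism -/
theorem conj_S {P : Subgroup AU} (hP : IsPGroup 2 P) :
    ∃ l : Spor.M12, ∀ y ∈ P, MulAut.conj l * y * (MulAut.conj l)⁻¹ ∈ gen al lS := by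
  have : Fact (Nat.Prime 2) := ⟨Nat.prime_two⟩
  have hT : IsPGroup 2 (gen al lS) := IsPGroup.of_card (n := 7) card_S
  have hi := (gen al lS).card_mul_index
  rw [card_S, card_AU] at hi
  obtain ⟨g, hg⟩ := H43.exists_conj_le_sylow (hT.toSylow (by omega)) hP
  have h5 : al 5 ∈ gen al lS := el_mem_gen al (by decide)
  obtain ⟨l, h | h⟩ := aut_cases g⁻¹
  · exact ⟨l⁻¹, fun y hy => by rw [map_inv, ← h, inv_inv]; exact hg y hy⟩
  · refine ⟨l⁻¹, fun y hy => ?_⟩
    have e : MulAut.conj l⁻¹ = al 5 * g := by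
      rw [map_inv, ← inv_inv g, h]; group
    have := (gen al lS).mul_mem ((gen al lS).mul_mem h5 (hg y hy)) ((gen al lS).inv_mem h5)
    rw [e]; convert this using 1; group

/-- the classes of involutions -/
theorem inv_cls {α : AU} (h2 : α * α = 1) (h1 : α ≠ 1) : ∃ l : Spor.M12,
    MulAut.conj l * α = al 6 * MulAut.conj l ∨ MulAut.conj l * α = al 2 * MulAut.conj l ∨
      MulAut.conj l * α = al 5 * MulAut.conj l := by
  have key : forceL (LS.map pwA) (fun C => allL C fun a =>
      bimp (!(Nat.beq a (pwA [])) && Nat.beq (mA a a) (pwA []))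
        (anyL [[], [3], [4], [8], [9], [10], [11], [12], [13], [3, 4], [3, 8], [3, 9], [8, 11], [10, 4], [10, 7],
          [11, 4], [11, 7], [11, 8], [12, 10], [12, 11], [13, 10], [13, 11], [12, 10, 12], [12, 10, 13],
          [12, 11, 12], [12, 11, 13], [13, 10, 12], [13, 10, 13], [13, 11, 12], [13, 11, 13]] fun w =>
          !(w.contains 5) && force (mA (pwA w) a) fun b => Nat.beq b (pwA (6 :: w)) ||
            (Nat.beq b (pwA (2 :: w)) || Nat.beq b (pwA (5 :: w))))) = true := by decide +kernel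
  simp only [forceL_eq, force_eq, allL_iff, anyL_iff, bimp_iff, Bool.and_eq_true, Bool.or_eq_true,
    Bool.not_eq_true', ← Bool.not_eq_true, beq_iff, List.contains_iff_mem] at key
  have hP : IsPGroup 2 (zpowers α) := fun g => by
    obtain ⟨_, k, rfl⟩ := g
    exact ⟨1, Subtype.ext (by
      change (α ^ k) ^ (2 ^ 1) = 1
      rw [← zpow_natCast, ← zpow_mul, mul_comm, zpow_mul, zpow_natCast, pow_one, pow_two, h2, one_zpow])⟩
  obtain ⟨l, hl⟩ := conj_S hP
  obtain ⟨w, -, h5, hw⟩ := key _ (mem_S (hl α (mem_zpowers α))) ⟨fun e => h1 (by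
    have := cdA_inj (e.trans cdA_one.symm)
    simpa using this), by rw [← cdA_mul, conj_mul, h2, mul_one, mul_inv_cancel, cdA_one]⟩
  have e : ev al w = MulAut.conj (ev lm w) := by
    rw [map_ev]; exact ev_congr fun n hn => al_ne fun c => h5 (c ▸ hn)
  simp only [← cdA_ev, ← cdA_mul, cdA_inj.eq_iff, ev_cons, e] at hw
  refine ⟨ev lm w * l, ?_⟩
  simp only [map_mul, ← mul_assoc] at hw ⊢
  simpa only [mul_inv_eq_iff_eq_mul] using hw

/-- a necessary condition for commuting -/
noncomputable def cmA (P Q : ℕ) : Bool := allN (nat_lit 5) fun i =>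
  Nat.beq (app (nat_lit 5) (nat_lit 32) P (app (nat_lit 5) (nat_lit 32) Q i))
    (app (nat_lit 5) (nat_lit 32) Q (app (nat_lit 5) (nat_lit 32) P i))

theorem cmA_of {a b : AU} (h : a * b = b * a) : cmA (cdA a) (cdA b) = true := by
  simp only [cmA, allN_iff, beq_iff]
  intro i hi
  have hi' : i < nat_lit 24 := hi.trans (by decide)
  rw [cdA, cdA, GE.app_pk_of_lt _ hi', GE.app_pk_of_lt _ hi', GE.app_pk, GE.app_pk,
    ← Equiv.Perm.mul_apply, ← Equiv.Perm.mul_apply, ← coe_mul, ← coe_mul, ← map_mul, ← map_mul, h]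

theorem d8_key : ∀ d ∈ LS.map pwA, mA d d = pwA [] → ∀ e ∈ LS.map pwA, mA e e = pwA [] →
    mA (mA d e) (mA d e) ≠ pwA [] → mA (mA (mA d e) (mA d e)) (mA (mA d e) (mA d e)) = pwA [] →
    ∀ r ∈ LS.map pwA, cmA d r = true → cmA e r = true → ∀ s ∈ LS.map pwA, cmA d s = true → cmA e s = true →
    pwA [] ∈ [r, s] ∨ r = s ∨ mA (mA d e) (mA d e) ∈ [r, s, mA r s, mA r r, mA s s, mA (mA r s) (mA r s)] := by
  have key : forceL (LS.map pwA) (fun C => force (pwA []) fun o =>
      forceL (C.filter fun a => Nat.beq (mA a a) o) fun I => allL I fun d =>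
        forceL (C.filter (cmA d)) fun Cd => allL I fun e => force (mA d e) fun p => force (mA p p) fun z =>
          bimp (!(Nat.beq z o) && Nat.beq (mA z z) o) (forceL (Cd.filter (cmA e)) fun Ce =>
            allL Ce fun r => allL Ce fun s => force (mA r s) fun q =>
              memL [r, s] o || (Nat.beq r s || memL [r, s, q, mA r r, mA s s, mA q q] z))) = true := by
    decide +kernel
  generalize LS.map pwA = C at key ⊢
  generalize pwA [] = o at key ⊢
  simp only [forceL_eq, force_eq, allL_iff, bimp_iff, Bool.and_eq_true, Bool.or_eq_true,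
    Bool.not_eq_true', ← Bool.not_eq_true, beq_iff, memL_iff, List.mem_filter] at key
  exact fun d hd dd e he ee z1 zz r hr dr er s hs ds es =>
    key d ⟨hd, dd⟩ e ⟨he, ee⟩ ⟨z1, zz⟩ r ⟨⟨hr, dr⟩, er⟩ s ⟨⟨hs, ds⟩, es⟩

/-- a 2-group of order at least 4 which centralises a dihedral group of order 8 contains its centre -/
theorem d8 {P : Subgroup AU} (hP : IsPGroup 2 P) {d e r s : AU} (hd : d ∈ P) (he : e ∈ P) (hr : r ∈ P)
    (hs : s ∈ P) (dd : d * d = 1) (ee : e * e = 1) {ζ : AU} (hζ : ζ = d * e * (d * e)) (z1 : ζ ≠ 1)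
    (dr : d * r = r * d) (er : e * r = r * e) (ds : d * s = s * d) (es : e * s = s * e) (zz : ζ * ζ = 1)
    (r1 : r ≠ 1) (s1 : s ≠ 1) (rs : r ≠ s) : ζ ∈ closure ({r, s} : Set AU) := by
  obtain ⟨l, hl⟩ := conj_S hP
  generalize MulAut.conj l = c at hl
  obtain ⟨f, hf⟩ : ∃ f : AU → ℕ, ∀ y, f y = cdA (c * y * c⁻¹) := ⟨_, fun _ => rfl⟩
  have fi : Function.Injective f := fun a b h => by
    rw [hf, hf] at h; exact (MulAut.conj c).injective (cdA_inj h)
  have fm : ∀ a b, mA (f a) (f b) = f (a * b) := fun a b => by rw [hf, hf, hf, ← cdA_mul, conj_mul]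
  have f1 : pwA [] = f 1 := by rw [hf, mul_one, mul_inv_cancel, cdA_one]
  have fc : ∀ a b, a * b = b * a → cmA (f a) (f b) = true := fun a b h => by
    rw [hf, hf]; exact cmA_of (by rw [conj_mul, conj_mul, h])
  have fS : ∀ y ∈ P, f y ∈ LS.map pwA := fun y hy => hf y ▸ mem_S (hl y hy)
  have h := d8_key (f d) (fS d hd) (by rw [fm, dd, f1]) (f e) (fS e he) (by rw [fm, ee, f1])
    (by rw [fm, fm, ← hζ, f1]; exact fi.ne z1) (by rw [fm, fm, fm, ← hζ, zz, f1])
    (f r) (fS r hr) (fc _ _ dr) (fc _ _ er) (f s) (fS s hs) (fc _ _ ds) (fc _ _ es)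
  rw [f1] at h
  simp only [fm, ← hζ, List.mem_cons, List.not_mem_nil, or_false, fi.eq_iff] at h
  have mr : r ∈ closure ({r, s} : Set AU) := subset_closure (by simp)
  have ms : s ∈ closure ({r, s} : Set AU) := subset_closure (by simp)
  rcases h with (h | h) | h | h | h | h | h | h | h
  · exact absurd h.symm r1
  · exact absurd h.symm s1
  · exact absurd h rs
  all_goals rw [h]
  exacts [mr, ms, mul_mem mr ms, mul_mem mr mr, mul_mem ms ms, mul_mem (mul_mem mr ms) (mul_mem mr ms)]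

end Cfsg.Agent.CONW.ZK
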