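import Cfsg.Agent.CONW.ZK1

/-! Conjugates of a standard subgroup `M12` whose centraliser has order divisible by 4. -/

set_option autoImplicit false
set_option maxRecDepth 100000

namespace Cfsg.Agent.CONW.ZK

open Cfsg.Agent.H14 Cfsg.Agent.H78 Subgroup Y

variable {G : Type*} [Group G]

/-- the centraliser -/
abbrev Kc (L : Subgroup G) : Subgroup G := centralizer (L : Set G)
/-- the normaliser -/
abbrev Nz (L : Subgroup G) : Subgroup G := normalizer (L : Set G)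
/-- a conjugate -/
abbrev cj (g : G) (L : Subgroup G) : Subgroup G := L.map (MulAut.conj g).toMonoidHom

theorem mem_cj {g x : G} {L : Subgroup G} : x ∈ cj g L ↔ g⁻¹ * x * g ∈ L :=
  ⟨fun ⟨y, hy, e⟩ => by
    have : g⁻¹ * x * g = y := by rw [← e]; change g⁻¹ * (g * y * g⁻¹) * g = y; group
    rwa [this], fun h => ⟨_, h, by change g * (g⁻¹ * x * g) * g⁻¹ = x; group⟩⟩

theorem mem_Kc_cj {g k : G} {L : Subgroup G} : k ∈ Kc (cj g L) ↔ g⁻¹ * k * g ∈ Kc L := by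
  refine ⟨fun h y hy => ?_, fun h y hy => ?_⟩
  · have := h (g * y * g⁻¹) (mem_cj.2 (by simpa [mul_assoc] using hy))
    calc y * (g⁻¹ * k * g) = g⁻¹ * (g * y * g⁻¹ * k) * g := by group
      _ = _ := by rw [this]; group
  · have := h _ (mem_cj.1 hy)
    calc y * k = g * (g⁻¹ * y * g * (g⁻¹ * k * g)) * g⁻¹ := by group
      _ = _ := by rw [this]; group

theorem cj_eq_iff {g : G} {L : Subgroup G} : cj g L = L ↔ g ∈ Nz L := by
  rw [← inv_mem_iff, mem_normalizer_iff, SetLike.ext_iff]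
  simp only [mem_cj, inv_inv]
  exact forall_congr' fun _ => Iff.comm

theorem conj_Kc {g k : G} {L : Subgroup G} (hg : g ∈ Nz L) (hk : k ∈ Kc L) : g * k * g⁻¹ ∈ Kc L := by
  rw [← cj_eq_iff.2 hg, mem_Kc_cj]; simpa [mul_assoc] using hk

theorem inv_of_two {ρ : G} {k : ℕ} (h : ρ ^ 2 ^ k = 1) (h1 : ρ ≠ 1) : ∃ n, ρ ^ n * ρ ^ n = 1 ∧ ρ ^ n ≠ 1 := by
  induction k generalizing ρ with
  | zero => exact absurd (by simpa using h) h1
  | succ k ih =>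
    by_cases c : ρ ^ 2 = 1
    · exact ⟨1, by rw [pow_one, ← pow_two, c], by rwa [pow_one]⟩
    · obtain ⟨n, hn⟩ := ih (ρ := ρ ^ 2) (by rw [← pow_mul, ← pow_succ', h]) c
      exact ⟨2 * n, by rwa [pow_mul]⟩

theorem exists_R0 {H : Type*} [Group H] [Finite H] (h4 : 4 ∣ Nat.card H) {k : H} (kk : k * k = 1) :
    ∃ R : Subgroup H, IsPGroup 2 R ∧ (∀ ρ ∈ R, ρ * k = k * ρ) ∧ ∃ a ∈ R, ∃ b ∈ R, a ≠ 1 ∧ b ≠ 1 ∧ a ≠ b := by
  have : Fact (Nat.Prime 2) := ⟨Nat.prime_two⟩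
  have hk : IsPGroup 2 (zpowers k) := by
    obtain ⟨j, -, hj⟩ := (Nat.dvd_prime_pow Nat.prime_two).1
      (orderOf_dvd_of_pow_eq_one (x := k) (n := 2 ^ 1) (by rw [pow_one, pow_two, kk]))
    exact IsPGroup.of_card ((Nat.card_zpowers k).trans hj)
  obtain ⟨P, hP⟩ := hk.exists_le_sylow
  have kP : k ∈ (P : Subgroup H) := hP (mem_zpowers k)
  have c4 : 4 ≤ Nat.card (P : Subgroup H) :=
    Nat.le_of_dvd Nat.card_pos (P.pow_dvd_card_of_pow_dvd_card (n := 2) h4)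
  refine ⟨P ⊓ centralizer {k}, P.2.to_inf_left, fun ρ hρ => (hρ.2 k rfl).symm, ?_⟩
  by_cases c : ∀ p ∈ (P : Subgroup H), k * p = p * k
  · have hex : ∀ a : H, ∃ b ∈ (P : Subgroup H), b ∉ [1, a] := fun a => by
      by_contra hc
      push Not at hc
      have h2 : Nat.card (P : Subgroup H) ≤ _ := (Set.ncard_le_ncard (s := ((P : Subgroup H) : Set H))
        (t := {1, a}) fun g hg => List.mem_pair.1 (hc g hg)).trans (Set.ncard_insert_le _ _)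
      rw [Set.ncard_singleton] at h2
      omega
    obtain ⟨a, ha, a1⟩ := hex 1
    obtain ⟨b, hb, b1⟩ := hex a
    simp only [List.mem_pair, not_or] at a1 b1
    exact ⟨a, ⟨ha, fun _ e => e ▸ c a ha⟩, b, ⟨hb, fun _ e => e ▸ c b hb⟩, a1.1, b1.1, fun e => b1.2 e.symm⟩
  · have : Nontrivial (P : Subgroup H) := Finite.one_lt_card_iff_nontrivial.1 (by omega)
    obtain ⟨z, z1⟩ := (nontrivial_iff_exists_ne (1 : center (P : Subgroup H))).1 P.2.center_nontrivial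
    have hz : ∀ p ∈ (P : Subgroup H), p * z.1.1 = z.1.1 * p := fun p hp =>
      congrArg Subtype.val (mem_center_iff.1 z.2 ⟨p, hp⟩)
    refine ⟨z.1.1, ⟨z.1.2, fun _ e => e ▸ hz k kP⟩, k, ⟨kP, fun _ e => e ▸ rfl⟩,
      fun e => z1 (Subtype.ext (Subtype.ext e)), fun e => c fun p _ => by rw [e, one_mul, mul_one],
      fun e => c fun p hp => e ▸ (hz p hp).symm⟩

/-- `φ` is an isomorphism from `M12` onto `L` -/
structure Em (L : Subgroup G) (φ : Spor.M12 →* G) : Prop where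
  inj : Function.Injective φ
  mem : ∀ g, g ∈ L ↔ ∃ x, φ x = g

variable {L L' : Subgroup G} {φ : Spor.M12 →* G}

theorem em_of (e : Spor.M12 ≃* L) : Em L (L.subtype.comp e.toMonoidHom) :=
  ⟨L.subtype_injective.comp e.injective, fun g => ⟨fun h => ⟨e.symm ⟨g, h⟩, by simp⟩,
    fun ⟨x, h⟩ => h ▸ (e x).2⟩⟩

theorem Em.conj (h : Em L φ) (l : Spor.M12) : Em L (φ.comp (MulAut.conj l).toMonoidHom) :=
  ⟨h.inj.comp (MulAut.conj l).injective, fun g => (h.mem g).trans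
    ⟨fun ⟨x, e⟩ => ⟨(MulAut.conj l).symm x, by rw [← e]; exact congrArg φ ((MulAut.conj l).apply_symm_apply x)⟩,
      fun ⟨_, e⟩ => ⟨_, e⟩⟩⟩

theorem Em.in (h : Em L φ) (x : Spor.M12) : φ x ∈ L := (h.mem _).2 ⟨x, rfl⟩

theorem Em.act (h : Em L φ) : ∃ ψ : Nz L →* AU, ∀ g x, φ (ψ g x) = g * φ x * (g : G)⁻¹ := by
  have hb : Function.Bijective (φ.codRestrict L h.in) := ⟨fun a b e => h.inj (congrArg Subtype.val e),
    fun y => let ⟨x, e⟩ := (h.mem y.1).1 y.2; ⟨x, Subtype.ext e⟩⟩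
  refine ⟨(MulAut.congr (MulEquiv.ofBijective _ hb).symm).toMonoidHom.comp L.normalizerMonoidHom, fun g x => ?_⟩
  exact congrArg Subtype.val ((MulEquiv.ofBijective _ hb).apply_symm_apply
    (L.normalizerMonoidHom g (MulEquiv.ofBijective _ hb x)))

theorem Em.ker (h : Em L φ) {ψ : Nz L →* AU} (hψ : ∀ g x, φ (ψ g x) = g * φ x * (g : G)⁻¹) (g : Nz L) :
    ψ g = 1 ↔ (g : G) ∈ Kc L := by
  refine ⟨fun e y hy => ?_, fun e => MulEquiv.ext fun x => h.inj ?_⟩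
  · obtain ⟨x, rfl⟩ := (h.mem y).1 hy
    have := hψ g x
    rw [e] at this
    exact eq_mul_inv_iff_mul_eq.1 this
  · rw [hψ, ← e _ (h.in x), mul_inv_cancel_right]; rfl

theorem Em.cls (h : Em L φ) {ψ : Nz L →* AU} (hψ : ∀ g x, φ (ψ g x) = g * φ x * (g : G)⁻¹) (s : Nz L)
    (ss : (s : G) * s = 1) (hs : (s : G) ∉ Kc L) : ∃ φ' : Spor.M12 →* G, Em L φ' ∧ ∃ n,
      (n = 6 ∨ n = 2 ∨ n = 5 ∧ ψ s ∉ Inn Spor.M12) ∧ ∀ x, s * φ' x * (s : G)⁻¹ = φ' (al n x) := by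
  obtain ⟨l, hl⟩ := inv_cls (α := ψ s) (by rw [← map_mul, show s * s = 1 from Subtype.ext ss, map_one])
    (mt (h.ker hψ s).1 hs)
  have key : ∀ n, MulAut.conj l * ψ s = al n * MulAut.conj l → ∀ x,
      s * φ (MulAut.conj l⁻¹ x) * (s : G)⁻¹ = φ (MulAut.conj l⁻¹ (al n x)) := fun n e x => by
    have : ψ s * MulAut.conj l⁻¹ = MulAut.conj l⁻¹ * al n := by
      rw [map_inv, eq_inv_mul_iff_mul_eq, ← mul_assoc, e, mul_inv_cancel_right]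
    rw [← hψ]; exact congrArg (fun f : AU => φ (f x)) this
  refine ⟨_, h.conj l⁻¹, ?_⟩
  rcases hl with e | e | e
  · exact ⟨6, Or.inl rfl, key 6 e⟩
  · exact ⟨2, Or.inr (Or.inl rfl), key 2 e⟩
  · refine ⟨5, Or.inr (Or.inr ⟨rfl, fun c => five_not_inn ?_⟩), key 5 e⟩
    rw [← mul_inv_eq_iff_eq_mul.2 e]
    exact mul_mem (mul_mem ⟨l, rfl⟩ c) (inv_mem ⟨l, rfl⟩)

theorem eqw (φ : Spor.M12 →* G) (v w : List ℕ)
    (h : Nat.beq (prodP (nat_lit 5) (nat_lit 32) (nat_lit 24) LC v)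
      (prodP (nat_lit 5) (nat_lit 32) (nat_lit 24) LC w) = true) :
    ev (fun n => φ (lm n)) v = ev (fun n => φ (lm n)) w := by
  rw [← map_ev, ← map_ev]
  exact congrArg φ (Subtype.ext (GE.pk_injective (by rw [pk_lm, pk_lm, Nat.eq_of_beq_eq_true h])))

theorem eqw2 (φ : Spor.M12 →* G) (a b c d : ℕ)
    (h : Nat.beq (prodP (nat_lit 5) (nat_lit 32) (nat_lit 24) LC [a, b])
      (prodP (nat_lit 5) (nat_lit 32) (nat_lit 24) LC [c, d]) = true) :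
    φ (lm a) * φ (lm b) = φ (lm c) * φ (lm d) := by simpa using eqw φ _ _ h

theorem z_ne : lm 6 ≠ 1 := fun h => by
  have e : ev lm [6] = ev lm [] := (ev_one lm 6).trans h
  have := pk_lm [6]
  rw [e, pk_lm] at this
  exact absurd this (by decide +kernel)

theorem isP_T : IsPGroup 2 (gen lm lT) :=
  map_gen (MonoidHom.snd _ _) pC lT ▸ (IsPGroup.of_card (n := 7) card_T).map _

/-- the conjugates of a standard subgroup -/
structure Fam (F : Set (Subgroup G)) : Prop where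
  conj : ∀ L ∈ F, ∀ g, cj g L ∈ F
  iso : ∀ L ∈ F, ∃ φ, Em L φ
  ti : ∀ L ∈ F, ∀ L' ∈ F, ∀ k ∈ Kc L, k ∈ Kc L' → k * k = 1 → k ≠ 1 → L = L'
  four : ∀ L ∈ F, 4 ∣ Nat.card (Kc L)
  nc : ∀ L ∈ F, ∀ L' ∈ F, ¬ L ≤ Kc L'

variable {F : Set (Subgroup G)}

theorem Fam.cn (h : Fam F) (hL : L ∈ F) {k g : G} (hk : k ∈ Kc L) (kk : k * k = 1) (k1 : k ≠ 1)
    (hg : g * k = k * g) : g ∈ Nz L :=
  cj_eq_iff.1 (h.ti _ hL _ (h.conj L hL g) k hk (mem_Kc_cj.2 (by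
    rwa [mul_assoc, ← hg, inv_mul_cancel_left])) kk k1).symm

variable [Finite G]

/-- the dihedral group generated by the letters `i`, `j` and a 2-subgroup of `C(L)` act on `L'` -/
theorem Fam.kill (h : Fam F) (hL : L ∈ F) (hL' : L' ∈ F) (ne : L ≠ L') (em : Em L φ) {k : G} (hk : k ∈ Kc L)
    (kk : k * k = 1) (hN : ∀ ρ ∈ Kc L, ρ * k = k * ρ → ρ ∈ Nz L') {i j m : ℕ} (hi : i ∈ lT) (hj : j ∈ lT)
    (hm : m ≤ 9) (iN : φ (lm i) ∈ Nz L') (jN : φ (lm j) ∈ Nz L')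
    (e : φ (lm m) = φ (lm i) * φ (lm j) * (φ (lm i) * φ (lm j))) (hz : φ (lm m) ∉ Kc L') {b : G} (bL : b ∈ L)
    (bN : b ∈ Nz L') : (φ (lm m))⁻¹ * (b * φ (lm m) * b⁻¹) ∈ Kc L' := by
  have : Fact (Nat.Prime 2) := ⟨Nat.prime_two⟩
  obtain ⟨R0, p0, c0, a, ha, a', ha', a1, a1', aa⟩ := exists_R0 (h.four L hL) (k := ⟨k, hk⟩) (Subtype.ext kk)
  obtain ⟨φ', em'⟩ := h.iso L' hL'
  obtain ⟨ψ, hψ⟩ := em'.act
  have sq : ∀ n ≤ 9, φ (lm n) * φ (lm n) = 1 := fun n hn => by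
    rw [← map_mul, show lm n * lm n = 1 from congrArg Prod.snd (rule_sq MC.rule hn), map_one]
  have h9 : ∀ n ∈ lT, n ≤ 9 := by decide
  have RK : R0.map (Kc L).subtype ≤ Kc L := map_subtype_le _
  have RN : R0.map (Kc L).subtype ≤ Nz L' := by
    rintro _ ⟨ρ, hρ, rfl⟩
    exact hN _ ρ.2 (congrArg Subtype.val (c0 ρ hρ))
  have p1 := p0.map (Kc L).subtype
  have ma : a.1 ∈ R0.map (Kc L).subtype := ⟨a, ha, rfl⟩
  have ma' : a'.1 ∈ R0.map (Kc L).subtype := ⟨a', ha', rfl⟩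
  generalize R0.map (Kc L).subtype = R at RK RN p1 ma ma'
  have R1 : ∀ ρ ∈ R, ρ ∈ Kc L' → ρ = 1 := fun ρ hρ hρ' => by
    by_contra c
    obtain ⟨n, hn⟩ := p1 ⟨ρ, hρ⟩
    obtain ⟨n, h1, h2⟩ := inv_of_two (congrArg Subtype.val hn) c
    exact ne (h.ti _ hL _ hL' _ (pow_mem (RK hρ) n) (pow_mem hρ' n) h1 h2)
  have XL : (gen lm lT).map φ ≤ L := by rintro _ ⟨x, -, rfl⟩; exact em.in x
  have hP : IsPGroup 2 ↥((gen lm lT).map φ ⊔ R) := IsPGroup.to_sup_of_normal_left' (isP_T.map φ) p1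
    (RK.trans ((centralizer_le XL).trans (centralizer_le_normalizer _)))
  have hP' := (hP.comap_subtype (K := Nz L')).map ψ
  have mX : ∀ n ∈ lT, ∀ hn, ψ ⟨φ (lm n), hn⟩ ∈ (((gen lm lT).map φ ⊔ R).comap (Nz L').subtype).map ψ :=
    fun n hn _ => mem_map_of_mem _ (mem_sup_left (mem_map_of_mem φ (el_mem_gen lm hn)) :)
  have mR : ∀ ρ (hρ : ρ ∈ R), ψ ⟨ρ, RN hρ⟩ ∈ (((gen lm lT).map φ ⊔ R).comap (Nz L').subtype).map ψ :=
    fun ρ hρ => mem_map_of_mem _ (mem_sup_right hρ :)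
  have cm : ∀ n hn ρ (hρ : ρ ∈ R), ψ ⟨φ (lm n), hn⟩ * ψ ⟨ρ, RN hρ⟩ = ψ ⟨ρ, RN hρ⟩ * ψ ⟨φ (lm n), hn⟩ :=
    fun n hn ρ hρ => by rw [← map_mul, ← map_mul]; exact congrArg ψ (Subtype.ext (RK hρ _ (em.in _)))
  have s1 : ∀ n ≤ 9, ∀ hn, ψ ⟨φ (lm n), hn⟩ * ψ ⟨φ (lm n), hn⟩ = 1 := fun n hn _ => by
    rw [← map_mul, ← map_one ψ]; exact congrArg ψ (Subtype.ext (sq n hn))
  have mN : φ (lm m) ∈ Nz L' := e ▸ mul_mem (mul_mem iN jN) (mul_mem iN jN)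
  have hd := d8 hP' (mX i hi iN) (mX j hj jN) (mR _ ma) (mR _ ma') (s1 i (h9 i hi) _) (s1 j (h9 j hj) _)
    (ζ := ψ ⟨φ (lm m), mN⟩) (by rw [← map_mul, ← map_mul]; exact congrArg ψ (Subtype.ext e))
    (mt (em'.ker hψ _).1 hz) (cm _ _ _ ma) (cm _ _ _ ma) (cm _ _ _ ma') (cm _ _ _ ma') (s1 m hm _)
    (fun c => a1 (Subtype.ext (R1 _ ma ((em'.ker hψ _).1 c))))
    (fun c => a1' (Subtype.ext (R1 _ ma' ((em'.ker hψ _).1 c))))
    (fun c => aa (Subtype.ext (inv_mul_eq_one.1 (R1 _ (mul_mem (inv_mem ma) ma')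
      ((em'.ker hψ (⟨_, RN ma⟩⁻¹ * ⟨_, RN ma'⟩)).1 (by rw [map_mul, map_inv, c, inv_mul_cancel]))))))
  have hle : closure {ψ ⟨_, RN ma⟩, ψ ⟨_, RN ma'⟩} ≤ (R.comap (Nz L').subtype).map ψ := by
    rw [closure_le]
    rintro _ (rfl | rfl)
    exacts [mem_map_of_mem _ ma, mem_map_of_mem _ ma']
  obtain ⟨ρ, hρ, eρ⟩ := hle hd
  have h1 : (ρ : G)⁻¹ * φ (lm m) ∈ Kc L' :=
    (em'.ker hψ (ρ⁻¹ * ⟨_, mN⟩)).1 (by rw [map_mul, map_inv, eρ, inv_mul_cancel])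
  have h2 := mul_mem (inv_mem h1) (conj_Kc bN h1)
  have h3 : b * (ρ : G)⁻¹ = (ρ : G)⁻¹ * b := inv_mem (RK hρ) b bL
  convert h2 using 1
  rw [← mul_assoc b, h3]; group

end Cfsg.Agent.CONW.ZK
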