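import Cfsg.Agent.CONW.ZK2
import Cfsg.Agent.STD.Top
import Cfsg.Agent.S1911

/-! The centraliser of a standard subgroup `M12` of a simple group has twice odd order. -/

set_option autoImplicit false
set_option maxRecDepth 100000

namespace Cfsg.Agent.CONW.ZK

open Cfsg.Agent.H14 Cfsg.Agent.H78 Subgroup Y

variable {G : Type*} [Group G] {L L' : Subgroup G} {φ : Spor.M12 →* G} {F : Set (Subgroup G)}

theorem sqw (φ : Spor.M12 →* G) {n : ℕ} (hn : n ≤ 9) : φ (lm n) * φ (lm n) = 1 := by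
  rw [← map_mul, show lm n * lm n = 1 from congrArg Prod.snd (rule_sq MC.rule hn), map_one]

theorem comm_z (φ : Spor.M12 →* G) : ∀ n ∈ [1, 2, 3, 4, 6, 7, 8, 9, 10],
    φ (lm n) * φ (lm 6) = φ (lm 6) * φ (lm n) := fun n hn => eqw2 φ _ _ _ _ (by revert n; decide +kernel)

theorem comm_w (φ : Spor.M12 →* G) : ∀ n ∈ [3, 7, 12],
    φ (lm n) * φ (lm 2) = φ (lm 2) * φ (lm n) := fun n hn => eqw2 φ _ _ _ _ (by revert n; decide +kernel)

theorem t_eq (φ : Spor.M12 →* G) : φ (lm 7) = φ (lm 2) * φ (lm 8) * (φ (lm 2) * φ (lm 8)) := by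
  simpa [mul_assoc] using eqw φ [7] [2, 8, 2, 8] (by decide +kernel)

theorem z_eq (φ : Spor.M12 →* G) : φ (lm 6) = φ (lm 3) * φ (lm 7) * (φ (lm 3) * φ (lm 7)) := by
  simpa [mul_assoc] using eqw φ [6] [3, 7, 3, 7] (by decide +kernel)

theorem ta_eq (φ : Spor.M12 →* G) : (φ (lm 7))⁻¹ * (φ (lm 10) * φ (lm 7) * (φ (lm 10))⁻¹) =
    φ (lm 10) * φ (lm 10) * φ (lm 7) * (φ (lm 10) * φ (lm 10))⁻¹ := by
  have := eqw φ [10, 7, 10] [7, 10, 10, 7] (by decide +kernel)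
  simp only [ev_cons, ev_nil, mul_one, ← mul_assoc] at this
  calc _ = (φ (lm 7))⁻¹ * (φ (lm 10) * φ (lm 7) * φ (lm 10)) * (φ (lm 10) * φ (lm 10))⁻¹ := by group
    _ = _ := by rw [this]; group

theorem rz_eq (φ : Spor.M12 →* G) : φ (lm 12) * φ (lm 6) * (φ (lm 12))⁻¹ = φ (lm 7) :=
  mul_inv_eq_iff_eq_mul.2 (eqw2 φ _ _ _ _ (by decide +kernel))

variable [Finite G]

theorem Fam.no2B (h : Fam F) (hL : L ∈ F) (hL' : L' ∈ F) (ne : L ≠ L') (em : Em L φ) : φ (lm 6) ∉ Kc L' := by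
  intro hz
  have z1 : φ (lm 6) ≠ 1 := fun e => z_ne (em.inj (e.trans (map_one φ).symm))
  have cn : ∀ g, g * φ (lm 6) = φ (lm 6) * g → g ∈ Nz L' := fun g => h.cn hL' hz (sqw φ (by decide)) z1
  have cz : ∀ n ∈ [1, 2, 3, 4, 6, 7, 8, 9, 10], φ (lm n) ∈ Nz L' := fun n hn => cn _ (comm_z φ n hn)
  have ht : φ (lm 7) ∉ Kc L' := fun ht => by
    have h12 : φ (lm 12) ∈ Nz L' := by
      have e1 : ev (fun n => φ (lm n)) [12, 3, 13] ∈ Nz L' := h.cn hL' ht (sqw φ (by decide))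
        (fun e => z1 (by rw [z_eq, e, mul_one, sqw φ (by decide)]))
        (by simpa [mul_assoc] using eqw φ [12, 3, 13, 7] [7, 12, 3, 13] (by decide +kernel))
      have e2 := eqw φ [12] [3, 12, 3, 13] (by decide +kernel)
      rw [ev_one] at e2
      exact e2 ▸ mul_mem (cz 3 (by decide)) e1
    have top : (Nz L').comap φ = ⊤ := gen_lm fun n hn => by
      rcases (by decide : ∀ n ∈ lC, n ∈ [1, 2, 3, 4, 6, 7, 8, 9, 10] ∨ n = 12) n hn with c | rfl
      exacts [cz n c, h12]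
    have nm : ((Kc L').comap φ).Normal := ⟨fun x hx g => by
      rw [mem_comap, map_mul, map_mul, map_inv]; exact conj_Kc (top.ge (mem_top g)) hx⟩
    have := simple_M12
    rcases nm.eq_bot_or_eq_top with e | e
    · exact z_ne (mem_bot.1 (e.le hz))
    · refine h.nc _ hL _ hL' fun g hg => ?_
      obtain ⟨x, rfl⟩ := (em.mem g).1 hg
      exact e.ge (mem_top x)
  have h1 := h.kill hL hL' ne em (one_mem _) (mul_one _) (fun ρ hρ _ => cn ρ (hρ _ (em.in _)).symm)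
    (i := 2) (j := 8) (m := 7) (by decide) (by decide) (by decide) (cz 2 (by decide)) (cz 8 (by decide))
    (t_eq φ) ht (em.in (lm 10)) (cz 10 (by decide))
  rw [ta_eq] at h1
  have h2 := conj_Kc (inv_mem (mul_mem (cz 10 (by decide)) (cz 10 (by decide)))) h1
  exact ht (by simpa [mul_assoc] using h2)

theorem Fam.no2B' (h : Fam F) (hL : L ∈ F) (hL' : L' ∈ F) (ne : L ≠ L') (em : Em L φ) (l : Spor.M12) :
    φ l * φ (lm 6) * (φ l)⁻¹ ∉ Kc L' := by
  have := h.no2B hL hL' ne (em.conj l)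
  rwa [← map_inv, ← map_mul, ← map_mul]

theorem Fam.inner (h : Fam F) (hL : L ∈ F) (hL' : L' ∈ F) (ne : L ≠ L') (em : Em L φ) {s : G} (hs : s ∈ Kc L')
    (ss : s * s = 1) (s1 : s ≠ 1) {n : ℕ} (hn : n = 6 ∨ n = 2) (act : ∀ x, s * φ x * s⁻¹ = φ (al n x)) :
    False := by
  rw [al_ne (by omega)] at act
  replace act : ∀ x, s * φ x * s⁻¹ = φ (lm n) * φ x * (φ (lm n))⁻¹ := fun x => by
    rw [act, ← map_inv, ← map_mul, ← map_mul]; rfl
  have yy := sqw φ (n := n) (by omega)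
  have cs : ∀ x, φ x * φ (lm n) = φ (lm n) * φ x → φ x * s = s * φ x := fun x e =>
    (mul_inv_eq_iff_eq_mul.1 (by rw [act, ← e, mul_inv_cancel_right])).symm
  have cn : ∀ g, g * s = s * g → g ∈ Nz L' := fun g => h.cn hL' hs ss s1
  have hk : (φ (lm n))⁻¹ * s ∈ Kc L := fun y hy => by
    obtain ⟨x, rfl⟩ := (em.mem y).1 hy
    calc _ = (φ (lm n))⁻¹ * (φ (lm n) * φ x * (φ (lm n))⁻¹) * s := by group
      _ = _ := by rw [← act]; group
  have kk : (φ (lm n))⁻¹ * s * ((φ (lm n))⁻¹ * s) = 1 := by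
    rw [inv_eq_of_mul_eq_one_right yy, mul_assoc, ← mul_assoc s, ← cs _ rfl, mul_assoc, ss, mul_one, yy]
  have hN : ∀ ρ ∈ Kc L, ρ * ((φ (lm n))⁻¹ * s) = (φ (lm n))⁻¹ * s * ρ → ρ ∈ Nz L' := fun ρ hρ e => cn ρ (by
    rw [← mul_assoc, ← hρ _ (inv_mem (em.in _)), mul_assoc, mul_assoc] at e
    exact mul_left_cancel e)
  rcases hn with rfl | rfl
  · have cz : ∀ n ∈ [1, 2, 3, 4, 6, 7, 8, 9, 10], φ (lm n) ∈ Nz L' := fun n hn => cn _ (cs _ (comm_z φ n hn))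
    have h1 := h.kill hL hL' ne em hk kk hN (i := 2) (j := 8) (m := 7) (by decide) (by decide) (by decide)
      (cz 2 (by decide)) (cz 8 (by decide)) (t_eq φ) (rz_eq φ ▸ h.no2B' hL hL' ne em _) (em.in (lm 10))
      (cz 10 (by decide))
    rw [ta_eq, ← rz_eq] at h1
    exact h.no2B' hL hL' ne em (lm 10 * lm 10 * lm 12) (by simpa [mul_assoc] using h1)
  · have cw : ∀ n ∈ [3, 7, 12], φ (lm n) ∈ Nz L' := fun n hn => cn _ (cs _ (comm_w φ n hn))
    have h1 := h.kill hL hL' ne em hk kk hN (i := 3) (j := 7) (m := 6) (by decide) (by decide) (by decide)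
      (cw 3 (by decide)) (cw 7 (by decide)) (z_eq φ) (h.no2B hL hL' ne em) (em.in (lm 12))
      (cw 12 (by decide))
    refine h.no2B' hL hL' ne em (lm 12 * lm 12) ?_
    have := eqw φ [12, 6, 12] [6, 12, 12, 6] (by decide +kernel)
    simp only [ev_cons, ev_nil, mul_one, ← mul_assoc] at this
    convert h1 using 1
    calc _ = (φ (lm 6))⁻¹ * (φ (lm 6) * φ (lm 12) * φ (lm 12) * φ (lm 6)) * (φ (lm 12) * φ (lm 12))⁻¹ := by
          rw [map_mul]; group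
      _ = _ := by rw [← this]; group

theorem Fam.pair (h : Fam F) (hL : L ∈ F) (hL' : L' ∈ F) (ne : L ≠ L') {s : G} (hs : s ∈ Kc L')
    (hN : s ∈ Nz L) (ss : s * s = 1) (s1 : s ≠ 1) : False := by
  obtain ⟨φ0, em0⟩ := h.iso L hL
  obtain ⟨ψ, hψ⟩ := em0.act
  obtain ⟨φ, em, n, hn, act⟩ := em0.cls hψ ⟨s, hN⟩ ss fun c => ne (h.ti _ hL _ hL' s c hs ss s1)
  rcases hn with rfl | rfl | ⟨rfl, -⟩
  · exact h.inner hL hL' ne em hs ss s1 (Or.inl rfl) act
  · exact h.inner hL hL' ne em hs ss s1 (Or.inr rfl) act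
  change ∀ x, s * φ x * s⁻¹ = _ at act
  have cn : ∀ n ∈ [6, 7, 12], φ (lm n) ∈ Nz L' := fun n hn => h.cn hL' hs ss s1 (by
    have e := act (lm n)
    rw [al_five n ((by decide : ∀ n ∈ [6, 7, 12], n ∈ lC) n hn),
      (by decide : ∀ n ∈ [6, 7, 12], sig n = [n]) n hn, ev_one] at e
    exact (mul_inv_eq_iff_eq_mul.1 e).symm)
  have e4 : φ (lm 4) * s * (φ (lm 4))⁻¹ = φ (lm 6) * s := by
    have e := act (lm 4)
    rw [al_five 4 (by decide), map_ev] at e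
    have e1 : s * φ (lm 4) * s⁻¹ = φ (lm 4) * φ (lm 6) := by simpa [sig] using e
    have e2 := comm_z φ 4 (by decide)
    have i4 := inv_eq_of_mul_eq_one_right (sqw φ (n := 4) (by decide))
    calc _ = φ (lm 4) * (s * φ (lm 4) * s⁻¹) * s := by rw [i4]; group
      _ = _ := by rw [e1, ← mul_assoc, sqw φ (by decide), one_mul]
  have k3 : φ (lm 6) * s ∈ Kc (cj (φ (lm 4)) L') := by
    rw [← e4, mem_Kc_cj]; simpa [mul_assoc] using hs
  have q3 : φ (lm 6) * s * (φ (lm 6) * s) = 1 := by rw [← e4, conj_mul, ss, mul_one, mul_inv_cancel]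
  have n3 : φ (lm 6) * s ∉ Kc L' := fun c => h.no2B hL hL' ne em ((mul_mem_cancel_right hs).1 c)
  have sN : s ∈ Nz L' := centralizer_le_normalizer _ hs
  obtain ⟨φ2, em2⟩ := h.iso L' hL'
  obtain ⟨ψ2, hψ2⟩ := em2.act
  obtain ⟨φ3, em3, n, hn, act3⟩ := em2.cls hψ2 ⟨_, mul_mem (cn 6 (by decide)) sN⟩ q3 n3
  have ne3 : L' ≠ cj (φ (lm 4)) L' := fun c => n3 (c ▸ k3)
  have o3 : φ (lm 6) * s ≠ 1 := fun c => n3 (c ▸ one_mem _)
  rcases hn with rfl | rfl | ⟨rfl, c⟩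
  · exact h.inner hL' (h.conj _ hL' _) ne3 em3 k3 q3 o3 (Or.inl rfl) act3
  · exact h.inner hL' (h.conj _ hL' _) ne3 em3 k3 q3 o3 (Or.inr rfl) act3
  refine c ?_
  have r := cn 12 (by decide)
  have t := cn 7 (by decide)
  have e : (⟨_, mul_mem (cn 6 (by decide)) sN⟩ : Nz L') = (⟨_, r⟩ * ⟨_, r⟩) * (⟨_, r⟩ * ⟨_, r⟩) *
      ((⟨_, t⟩ * ⟨_, r⟩ * ⟨_, t⟩) * (⟨_, t⟩ * ⟨_, r⟩ * ⟨_, t⟩)) * ⟨s, sN⟩ := Subtype.ext (by
    have := eqw φ [6] [12, 12, 12, 12, 7, 12, 7, 7, 12, 7] (by decide +kernel)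
    simp only [ev_cons, ev_nil, mul_one] at this
    simp only [coe_mul, mul_assoc]
    rw [this]; simp only [mul_assoc])
  rw [e, map_mul, (em2.ker hψ2 ⟨s, sN⟩).2 hs, mul_one, map_mul, map_mul ψ2 (_ * _), map_mul ψ2 (_ * _ * _)]
  exact mul_mem (mul_self_mem_of_index_two inn_index _) (mul_self_mem_of_index_two inn_index _)

theorem exists_inv {X : Subgroup G} (h : ¬ Odd (Nat.card X)) : ∃ s ∈ X, s * s = 1 ∧ s ≠ 1 := by
  have : Fact (Nat.Prime 2) := ⟨Nat.prime_two⟩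
  obtain ⟨s, hs⟩ := exists_prime_orderOf_dvd_card' (G := X) 2 (even_iff_two_dvd.1 (Nat.not_odd_iff_even.1 h))
  refine ⟨s, s.2, ?_, fun e => ?_⟩
  · rw [← pow_two, ← hs]; exact congrArg Subtype.val (pow_orderOf_eq_one s)
  · rw [show s = 1 from Subtype.ext e, orderOf_one] at hs; exact absurd hs (by decide)

omit [Finite G] in
theorem cj_cj (g k : G) (L : Subgroup G) : cj g (cj k L) = cj (g * k) L := by
  ext x; simp only [mem_cj, mul_inv_rev, mul_assoc]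

omit [Finite G] in
theorem Kc_cj (g : G) (L : Subgroup G) : Kc (cj g L) = cj g (Kc L) := by ext x; rw [mem_Kc_cj, mem_cj]

omit [Finite G] in
theorem Em.nc (em : Em L φ) : ¬ L ≤ Kc L := fun h =>
  not_comm (Prod.ext (mul_comm _ _) (em.inj (by
    rw [Prod.snd_mul, Prod.snd_mul, map_mul, map_mul]; exact h (em.in _) _ (em.in _))))

omit [Finite G] in
theorem fam (hL : IsStandardSubgroup L) (em : Em L φ) (h4 : 4 ∣ Nat.card (Kc L)) :
    Fam {X | ∃ g, X = cj g L} := by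
  have emc : ∀ g, Em (cj g L) ((MulAut.conj g).toMonoidHom.comp φ) := fun g =>
    ⟨(MulAut.conj g).injective.comp em.inj, fun x => ⟨fun ⟨y, hy, e⟩ =>
      let ⟨l, hl⟩ := (em.mem y).1 hy; ⟨l, by rw [← e, ← hl]; rfl⟩, fun ⟨l, hl⟩ => ⟨_, em.in l, hl⟩⟩⟩
  refine ⟨?_, ?_, ?_, ?_, ?_⟩
  · rintro _ ⟨k, rfl⟩ g; exact ⟨_, cj_cj g k L⟩
  · rintro _ ⟨k, rfl⟩; exact ⟨_, emc k⟩
  · rintro _ ⟨a, rfl⟩ _ ⟨b, rfl⟩ k ka kb kk k1
    have hg : a⁻¹ * b ∈ Nz L := by
      rw [Nz, hL.2.2.2]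
      by_contra c
      have ho := hL.2.1.2 _ c
      have hm : a⁻¹ * k * a ∈ Kc L ⊓ cj (a⁻¹ * b) (Kc L) :=
        ⟨mem_Kc_cj.1 ka, mem_cj.2 (by simpa [mul_assoc] using mem_Kc_cj.1 kb)⟩
      have o2 : orderOf (a⁻¹ * k * a) = 2 := by
        have : Fact (Nat.Prime 2) := ⟨Nat.prime_two⟩
        refine orderOf_eq_prime ?_ fun e => k1 ?_
        · calc _ = a⁻¹ * (k * k) * a := by rw [pow_two]; group
            _ = 1 := by rw [kk]; group
        · calc k = a * (a⁻¹ * k * a) * a⁻¹ := by group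
            _ = 1 := by rw [e]; group
      exact absurd (ho.of_dvd_nat (o2 ▸ orderOf_dvd_natCard _ hm)) (by decide)
    rw [← mul_inv_cancel_left a b, ← cj_cj, cj_eq_iff.2 hg]
  · rintro _ ⟨k, rfl⟩
    rwa [Kc_cj, card_map_of_injective (MulAut.conj k).injective]
  · rintro _ ⟨a, rfl⟩ _ ⟨b, rfl⟩ hc
    have h1 : L ≤ Kc (cj (a⁻¹ * b) L) := fun x hx => by
      have := mem_Kc_cj.1 (hc (mem_map_of_mem _ hx))
      exact mem_Kc_cj.2 (by simpa [mul_assoc] using this)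
    by_cases c : cj (a⁻¹ * b) L = L
    · exact em.nc (by rwa [c] at h1)
    · exact hL.2.2.1 _ c (commutator_eq_bot_iff_le_centralizer.2 h1)

/-- Part I of S1750 -/
theorem part1 [IsSimpleGroup G] (hL : IsStandardSubgroup L) (hLX : Nonempty (L ≃* Spor.M12)) :
    ¬ 4 ∣ Nat.card (centralizer (L : Set G)) := by
  intro h4
  obtain ⟨e⟩ := hLX
  have em := em_of e.symm
  generalize L.subtype.comp e.symm.toMonoidHom = φ at em
  have h := fam hL em h4
  have L1 : cj 1 L = L := cj_eq_iff.2 (one_mem _)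
  have top : ∀ N : Subgroup G, N.Normal → Kc L ≤ N → N = ⊤ := fun N hN hK =>
    hN.eq_bot_or_eq_top.resolve_left fun c => by
      rw [show centralizer (L : Set G) = ⊥ from le_bot_iff.1 (hK.trans c.le), card_bot] at h4
      exact absurd h4 (by decide)
  rcases Cfsg.Agent.S1911.result (Kc L) hL.2.1 (fun g hg => by
    by_contra c
    obtain ⟨s, hs, ss, s1⟩ := exists_inv c
    rw [← hL.2.2.2] at hs hg
    exact h.pair ⟨1, L1.symm⟩ ⟨g, rfl⟩ (fun c => hg (cj_eq_iff.1 c.symm)) (Kc_cj g L ▸ hs.1) hs.2 ss s1)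
    with hn | hn
  · exact em.nc (top _ hn le_rfl ▸ le_top)
  · have ht := top _ inferInstance (le_normalClosure (H := Kc L))
    have m : ∀ g, g ∈ normalClosure (Kc L : Set G) := fun g => ht ▸ mem_top g
    have : Fact (Nat.Prime 2) := ⟨Nat.prime_two⟩
    have t1 : φ (lm 7) ≠ 1 := fun e => z_ne (em.inj (by
      rw [z_eq, e, mul_one, sqw φ (by decide), map_one]))
    refine STD.not_se (a := ⟨φ (lm 2), m _⟩) (b := ⟨φ (lm 8), m _⟩) ?_ ?_ ?_ hn
    · rw [← orderOf_coe]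
      exact orderOf_eq_prime ((pow_two _).trans (sqw φ (by decide))) fun e => t1 (by
        rw [t_eq, show φ (lm 2) = 1 from e, one_mul, sqw φ (by decide)])
    · rw [← orderOf_coe]
      exact orderOf_eq_prime ((pow_two _).trans (sqw φ (by decide))) fun e => t1 (by
        rw [t_eq, show φ (lm 8) = 1 from e, mul_one, sqw φ (by decide)])
    · rw [← orderOf_coe]
      refine orderOf_eq_prime_pow (p := 2) (n := 1) (fun e => t1 ?_) ?_
      · rw [t_eq, ← pow_two]; exact e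
      · change (φ (lm 2) * φ (lm 8)) ^ (2 * 2) = 1
        rw [pow_mul, pow_two (_ * _), ← t_eq, pow_two, sqw φ (by decide)]

end Cfsg.Agent.CONW.ZK
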